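import Mathlib
import Cfsg.Agent.Helper9.Layer
import Cfsg.Agent.Helper9.StrEmb

/-!
# helper9: dihedral-like 2-groups and odd-order elements normalizing their subgroups

A subgroup `S` is treated as "dihedral-like with respect to `a`" when every element of `S`
outside `⟨a⟩` is an involution and the product of two such elements lies in `⟨a⟩`.
-/

set_option autoImplicit false

namespace Cfsg.Agent.Helper9

theorem exists_orderOf_eq_two_pow {X : Type*} [Group X] (S : Subgroup X) (hS2 : IsPGroup 2 S)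
    (b : X) (hb : b ∈ S) : ∃ e : ℕ, orderOf b = 2 ^ e := by
  obtain ⟨k, hk⟩ := hS2 ⟨b, hb⟩
  have h1 : b ^ (2 ^ k) = 1 := by
    have := congrArg Subtype.val hk
    simpa using this
  obtain ⟨e, -, he⟩ := (Nat.dvd_prime_pow Nat.prime_two).1 (orderOf_dvd_of_pow_eq_one h1)
  exact ⟨e, he⟩

/-- An element of odd order normalizing a cyclic 2-group centralizes it. -/
theorem comm_of_conj_mem_zpowers {X : Type*} [Group X] [Finite X] (x a : X) (e : ℕ)
    (ha : orderOf a = 2 ^ e) (hx : Odd (orderOf x)) (hxa : x * a * x⁻¹ ∈ Subgroup.zpowers a) :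
    x * a = a * x := by
  cases e with
  | zero =>
    have h1 : a = 1 := by simpa using ha
    subst h1; simp
  | succ e' =>
    rw [← mem_powers_iff_mem_zpowers, Submonoid.mem_powers_iff] at hxa
    obtain ⟨j, hj⟩ := hxa
    have hiter : ∀ i : ℕ, x ^ i * a * (x ^ i)⁻¹ = a ^ (j ^ i) := by
      intro i
      induction i with
      | zero => simp
      | succ i ih =>
        have e1 : x ^ (i + 1) * a * (x ^ (i + 1))⁻¹ = x * (x ^ i * a * (x ^ i)⁻¹) * x⁻¹ := by
          rw [pow_succ', mul_inv_rev]; simp only [mul_assoc]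
        rw [e1, ih, ← conj_pow, ← hj, ← pow_mul]
        congr 1
        exact (pow_succ' j i).symm
    have hjodd : Nat.Coprime j (2 ^ (e' + 1)) := by
      apply Nat.Coprime.pow_right
      rw [Nat.coprime_two_right]
      by_contra hne
      rw [Nat.not_odd_iff_even] at hne
      obtain ⟨c, hc⟩ := hne
      have h1 : (x * a * x⁻¹) ^ (2 ^ e') = 1 := by
        have e2 : j * 2 ^ e' = 2 ^ (e' + 1) * c := by rw [hc]; ring
        rw [← hj, ← pow_mul, e2, pow_mul, ← ha, pow_orderOf_eq_one, one_pow]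
      rw [conj_pow] at h1
      have h2 : a ^ (2 ^ e') = 1 := conj_eq_one_iff.1 h1
      have h3 := orderOf_dvd_of_pow_eq_one h2
      rw [ha] at h3
      have h4 := Nat.le_of_dvd (by positivity) h3
      have h5 : 2 ^ e' < 2 ^ (e' + 1) := Nat.pow_lt_pow_right (by norm_num) (Nat.lt_succ_self e')
      exact absurd h4 (not_le.2 h5)
    have htot : Nat.totient (2 ^ (e' + 1)) = 2 ^ e' := by
      rw [Nat.totient_prime_pow_succ Nat.prime_two]; norm_num
    have hmod : j ^ (2 ^ e') ≡ 1 [MOD 2 ^ (e' + 1)] := by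
      have := Nat.ModEq.pow_totient hjodd
      rwa [htot] at this
    have h6 : x ^ (2 ^ e') * a * (x ^ (2 ^ e'))⁻¹ = a := by
      rw [hiter]
      conv_rhs => rw [← pow_one a]
      rw [pow_eq_pow_iff_modEq, ha]
      exact hmod
    have hcomm : Commute (x ^ (2 ^ e')) a := mul_inv_eq_iff_eq_mul.1 h6
    obtain ⟨m, hm⟩ := exists_pow_eq_self_of_coprime (x := x) (n := 2 ^ e')
      (Nat.Coprime.pow_left e' (Nat.coprime_two_left.2 hx))
    have h7 := hcomm.pow_left m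
    rw [hm] at h7
    exact h7.eq

theorem exists_zpowers_eq_of_le {X : Type*} [Group X] (B : Subgroup X) (a : X)
    (h : B ≤ Subgroup.zpowers a) : ∃ b, B = Subgroup.zpowers b := by
  haveI : IsCyclic ↥(B.subgroupOf (Subgroup.zpowers a)) := Subgroup.isCyclic _
  haveI : IsCyclic ↥B :=
    isCyclic_of_surjective (Subgroup.subgroupOfEquivOfLe h)
      (Subgroup.subgroupOfEquivOfLe h).surjective
  obtain ⟨g, hg⟩ := IsCyclic.exists_generator (α := ↥B)
  refine ⟨(g : X), le_antisymm ?_ ?_⟩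
  · intro y hy
    obtain ⟨k, hk⟩ := Subgroup.mem_zpowers_iff.1 (hg ⟨y, hy⟩)
    rw [Subgroup.mem_zpowers_iff]
    refine ⟨k, ?_⟩
    have := congrArg Subtype.val hk
    simpa using this
  · rw [Subgroup.zpowers_le]
    exact g.2

/-- A group isomorphic to a dihedral group is dihedral-like. -/
theorem dihlike_of_equiv {X : Type*} [Group X] (S : Subgroup X) (m : ℕ) (hm : m ≠ 0)
    (e : ↥S ≃* DihedralGroup m) :
    ∃ a ∈ S, (∀ s ∈ S, s ∉ Subgroup.zpowers a → s * s = 1) ∧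
      (∀ s ∈ S, ∀ t ∈ S, s ∉ Subgroup.zpowers a → t ∉ Subgroup.zpowers a →
        s * t ∈ Subgroup.zpowers a) := by
  haveI : NeZero m := ⟨hm⟩
  have key : ∀ s (hs : s ∈ S) (i : ZMod m), e ⟨s, hs⟩ = DihedralGroup.r i →
      s ∈ Subgroup.zpowers ((e.symm (DihedralGroup.r 1) : ↥S) : X) := by
    intro s hs i hi
    rw [Subgroup.mem_zpowers_iff]
    refine ⟨(i.val : ℤ), ?_⟩
    have h1 : (e.symm (DihedralGroup.r 1)) ^ i.val = ⟨s, hs⟩ := by
      apply e.injective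
      rw [map_pow, MulEquiv.apply_symm_apply, DihedralGroup.r_one_pow, hi, ZMod.natCast_zmod_val]
    have h2 := congrArg Subtype.val h1
    rw [zpow_natCast]
    simpa using h2
  refine ⟨((e.symm (DihedralGroup.r 1) : ↥S) : X), (e.symm (DihedralGroup.r 1)).2, ?_, ?_⟩
  · intro s hs hsa
    cases h : e ⟨s, hs⟩ with
    | r i => exact absurd (key s hs i h) hsa
    | sr i =>
      have h1 : (⟨s, hs⟩ : ↥S) * ⟨s, hs⟩ = 1 := by
        apply e.injective
        rw [map_mul, h, DihedralGroup.sr_mul_self, map_one]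
      exact congrArg Subtype.val h1
  · intro s hs t ht hsa hta
    cases h : e ⟨s, hs⟩ with
    | r i => exact absurd (key s hs i h) hsa
    | sr i =>
      cases h' : e ⟨t, ht⟩ with
      | r j => exact absurd (key t ht j h') hta
      | sr j =>
        apply key (s * t) (S.mul_mem hs ht) (j - i)
        have h1 : (⟨s * t, S.mul_mem hs ht⟩ : ↥S) = ⟨s, hs⟩ * ⟨t, ht⟩ := rfl
        rw [h1, map_mul, h, h', DihedralGroup.sr_mul_sr]

/-- If an odd-order `x` normalizes `Q ≤ S` (dihedral-like) and centralizes `Q ∩ ⟨a⟩`, then `x`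
centralizes `Q`. -/
theorem dih_centralizes_of_inter {X : Type*} [Group X] [Finite X] (S : Subgroup X)
    (hS2 : IsPGroup 2 S) (a : X)
    (hinv : ∀ s ∈ S, s ∉ Subgroup.zpowers a → s * s = 1)
    (hmul : ∀ s ∈ S, ∀ t ∈ S, s ∉ Subgroup.zpowers a → t ∉ Subgroup.zpowers a →
      s * t ∈ Subgroup.zpowers a)
    (Q : Subgroup X) (hQS : Q ≤ S) (x : X) (hxQ : ∀ q ∈ Q, x * q * x⁻¹ ∈ Q)
    (hx : Odd (orderOf x))
    (hB : ∀ q ∈ Q, q ∈ Subgroup.zpowers a → x * q = q * x) : ∀ q ∈ Q, x * q = q * x := by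
  intro q hq
  by_cases hqa : q ∈ Subgroup.zpowers a
  · exact hB q hq hqa
  have hq'Q : x * q * x⁻¹ ∈ Q := hxQ q hq
  have hq'a : x * q * x⁻¹ ∉ Subgroup.zpowers a := by
    intro hmem
    have h1 := hB _ hq'Q hmem
    have h2 : x * q * x⁻¹ = q := by
      have h3 := congrArg (fun y => x⁻¹ * y) h1
      simpa [mul_assoc] using h3
    rw [h2] at hmem
    exact hqa hmem
  obtain ⟨w, hw⟩ : ∃ w, w = q * (x * q * x⁻¹) := ⟨_, rfl⟩
  have hwa : w ∈ Subgroup.zpowers a := by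
    rw [hw]; exact hmul q (hQS hq) _ (hQS hq'Q) hqa hq'a
  have hwQ : w ∈ Q := by rw [hw]; exact Q.mul_mem hq hq'Q
  have hcw : Commute x w := hB w hwQ hwa
  have hqq : q * q = 1 := hinv q (hQS hq) hqa
  have hq' : x * q * x⁻¹ = q * w := by
    rw [hw, ← mul_assoc, hqq, one_mul]
  have hiter : ∀ k : ℕ, x ^ k * q * (x ^ k)⁻¹ = q * w ^ k := by
    intro k
    induction k with
    | zero => simp
    | succ k ih =>
      have e1 : x ^ (k + 1) * q * (x ^ (k + 1))⁻¹ = x * (x ^ k * q * (x ^ k)⁻¹) * x⁻¹ := by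
        rw [pow_succ', mul_inv_rev]; simp only [mul_assoc]
      have e2 : x * (q * w ^ k) * x⁻¹ = (x * q * x⁻¹) * (x * w ^ k * x⁻¹) := by group
      have e3 : x * w ^ k * x⁻¹ = w ^ k := by
        rw [(hcw.pow_right k).eq, mul_inv_cancel_right]
      rw [e1, ih, e2, hq', e3, pow_succ', mul_assoc]
  have h5 := hiter (orderOf x)
  rw [pow_orderOf_eq_one, one_mul, inv_one, mul_one] at h5
  have hw1 : w ^ orderOf x = 1 := mul_eq_left.1 h5.symm
  obtain ⟨f, hf⟩ := exists_orderOf_eq_two_pow S hS2 w (hQS hwQ)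
  have hdvd : orderOf w ∣ orderOf x := orderOf_dvd_of_pow_eq_one hw1
  have hw_one : w = 1 := by
    rw [← orderOf_eq_one_iff, hf]
    cases f with
    | zero => rfl
    | succ f' =>
      exfalso
      rw [hf] at hdvd
      have h2 : 2 ∣ orderOf x := dvd_trans (dvd_pow_self 2 (Nat.succ_ne_zero f')) hdvd
      exact (Nat.not_even_iff_odd.2 hx) (even_iff_two_dvd.2 h2)
  rw [hw_one, mul_one] at hq'
  exact mul_inv_eq_iff_eq_mul.1 hq'

/-- An odd-order element normalizing a subgroup `Q` of a dihedral-like 2-group centralizes it,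
unless `Q` is of exponent two and not inside the cyclic part. -/
theorem dih_centralizes {X : Type*} [Group X] [Finite X] (S : Subgroup X)
    (hS2 : IsPGroup 2 S) (a : X)
    (hinv : ∀ s ∈ S, s ∉ Subgroup.zpowers a → s * s = 1)
    (hmul : ∀ s ∈ S, ∀ t ∈ S, s ∉ Subgroup.zpowers a → t ∉ Subgroup.zpowers a →
      s * t ∈ Subgroup.zpowers a)
    (Q : Subgroup X) (hQS : Q ≤ S)
    (hQ : Q ≤ Subgroup.zpowers a ∨ ∃ q ∈ Q, q * q ≠ 1)
    (x : X) (hxQ : ∀ q ∈ Q, x * q * x⁻¹ ∈ Q) (hx : Odd (orderOf x)) :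
    ∀ q ∈ Q, x * q = q * x := by
  apply dih_centralizes_of_inter S hS2 a hinv hmul Q hQS x hxQ hx
  obtain ⟨b, hb⟩ := exists_zpowers_eq_of_le (Q ⊓ Subgroup.zpowers a) a inf_le_right
  have hbB : b ∈ Q ⊓ Subgroup.zpowers a := by rw [hb]; exact Subgroup.mem_zpowers b
  have hbQ : b ∈ Q := (Subgroup.mem_inf.1 hbB).1
  obtain ⟨e, he⟩ := exists_orderOf_eq_two_pow S hS2 b (hQS hbQ)
  have hxb : x * b * x⁻¹ ∈ Subgroup.zpowers b := by
    rw [← hb]
    refine Subgroup.mem_inf.2 ⟨hxQ b hbQ, ?_⟩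
    rcases hQ with hQ | ⟨q₀, hq₀, hq₀2⟩
    · exact hQ (hxQ b hbQ)
    · have hq₀a : q₀ ∈ Subgroup.zpowers a := by
        by_contra hcon
        exact hq₀2 (hinv q₀ (hQS hq₀) hcon)
      have hq₀b : q₀ ∈ Subgroup.zpowers b := by rw [← hb]; exact Subgroup.mem_inf.2 ⟨hq₀, hq₀a⟩
      have hbb : b * b ≠ 1 := by
        intro hbb
        obtain ⟨k, hk⟩ := Subgroup.mem_zpowers_iff.1 hq₀b
        apply hq₀2
        rw [← hk, ← (Commute.refl b).mul_zpow k, hbb, one_zpow]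
      by_contra hcon
      have h1 : (x * b * x⁻¹) * (x * b * x⁻¹) = 1 := hinv _ (hQS (hxQ b hbQ)) hcon
      apply hbb
      have h2 : x * (b * b) * x⁻¹ = 1 := by
        calc x * (b * b) * x⁻¹ = (x * b * x⁻¹) * (x * b * x⁻¹) := by group
          _ = 1 := h1
      exact conj_eq_one_iff.1 h2
  have hcb : x * b = b * x := comm_of_conj_mem_zpowers x b e he hx hxb
  intro q hq hqa
  have hqb : q ∈ Subgroup.zpowers b := by rw [← hb]; exact Subgroup.mem_inf.2 ⟨hq, hqa⟩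
  obtain ⟨k, hk⟩ := Subgroup.mem_zpowers_iff.1 hqb
  rw [← hk]
  exact ((show Commute x b from hcb).zpow_right k).eq

theorem involution_unique_zpowers {X : Type*} [Group X] [Finite X] (a u v : X)
    (hu : u ∈ Subgroup.zpowers a) (hv : v ∈ Subgroup.zpowers a) (hu2 : u * u = 1)
    (hv2 : v * v = 1) (hu1 : u ≠ 1) (hv1 : v ≠ 1) : u = v := by
  have hou : orderOf u = 2 := orderOf_eq_prime (by rw [pow_two]; exact hu2) hu1
  have hov : orderOf v = 2 := orderOf_eq_prime (by rw [pow_two]; exact hv2) hv1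
  have h := involution_unique_of_isCyclic (A := ↥(Subgroup.zpowers a)) ⟨u, hu⟩ ⟨v, hv⟩
    (by rw [Subgroup.orderOf_mk]; exact hou) (by rw [Subgroup.orderOf_mk]; exact hov)
  exact congrArg Subtype.val h

/-- An odd-order element normalizing a subgroup `Q` of a dihedral-like 2-group and centralizing
a nontrivial element of `Q` centralizes `Q`. -/
theorem dih_centralizes_fix {X : Type*} [Group X] [Finite X] (S : Subgroup X)
    (hS2 : IsPGroup 2 S) (a : X)
    (hinv : ∀ s ∈ S, s ∉ Subgroup.zpowers a → s * s = 1)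
    (hmul : ∀ s ∈ S, ∀ t ∈ S, s ∉ Subgroup.zpowers a → t ∉ Subgroup.zpowers a →
      s * t ∈ Subgroup.zpowers a)
    (Q : Subgroup X) (hQS : Q ≤ S) (x : X) (hxQ : ∀ q ∈ Q, x * q * x⁻¹ ∈ Q)
    (hx : Odd (orderOf x)) (t : X) (htQ : t ∈ Q) (ht1 : t ≠ 1) (hxt : x * t = t * x) :
    ∀ q ∈ Q, x * q = q * x := by
  by_cases hQ : Q ≤ Subgroup.zpowers a ∨ ∃ q ∈ Q, q * q ≠ 1
  · exact dih_centralizes S hS2 a hinv hmul Q hQS hQ x hxQ hx
  have hQ2 : ∀ q ∈ Q, q * q = 1 := by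
    intro q hq
    by_contra hcon
    exact hQ (Or.inr ⟨q, hq, hcon⟩)
  apply dih_centralizes_of_inter S hS2 a hinv hmul Q hQS x hxQ hx
  intro q hq hqa
  by_cases hq1 : q = 1
  · rw [hq1]; simp
  have hq'Q : x * q * x⁻¹ ∈ Q := hxQ q hq
  have hq'1 : x * q * x⁻¹ ≠ 1 := fun h => hq1 (conj_eq_one_iff.1 h)
  by_cases hta : t ∈ Subgroup.zpowers a
  · have htq : t = q := involution_unique_zpowers a t q hta hqa (hQ2 t htQ) (hQ2 q hq) ht1 hq1
    rw [← htq]; exact hxt
  by_cases hq'a : x * q * x⁻¹ ∈ Subgroup.zpowers a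
  · have h := involution_unique_zpowers a _ q hq'a hqa (hQ2 _ hq'Q) (hQ2 q hq) hq'1 hq1
    exact mul_inv_eq_iff_eq_mul.1 h
  have hwa : x * q * x⁻¹ * t ∈ Subgroup.zpowers a := hmul _ (hQS hq'Q) t (hQS htQ) hq'a hta
  have hwQ : x * q * x⁻¹ * t ∈ Q := Q.mul_mem hq'Q htQ
  by_cases hw1 : x * q * x⁻¹ * t = 1
  · exfalso
    apply hta
    have h1 : x * q * x⁻¹ = t⁻¹ := mul_eq_one_iff_eq_inv.1 hw1
    have hc : x * t⁻¹ = t⁻¹ * x := (show Commute x t from hxt).inv_right.eq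
    have h2 : x * q = x * t⁻¹ := by rw [hc]; exact mul_inv_eq_iff_eq_mul.1 h1
    have h3 : q = t⁻¹ := mul_left_cancel h2
    have h4 : t = q⁻¹ := by rw [h3, inv_inv]
    rw [h4]
    exact (Subgroup.zpowers a).inv_mem hqa
  have hwq : x * q * x⁻¹ * t = q :=
    involution_unique_zpowers a _ q hwa hqa (hQ2 _ hwQ) (hQ2 q hq) hw1 hq1
  have htt : t * t = 1 := hQ2 t htQ
  have h1 : x * q * x⁻¹ = q * t := by
    have h0 : x * q * x⁻¹ = q * t⁻¹ := eq_mul_inv_of_mul_eq hwq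
    rw [h0, inv_eq_of_mul_eq_one_right htt]
  have h2 : x * (q * t) * x⁻¹ = q := by
    have e : x * (q * t) * x⁻¹ = (x * q * x⁻¹) * (x * t * x⁻¹) := by group
    rw [e, h1, hxt, mul_inv_cancel_right, mul_assoc, htt, mul_one]
  have h3 : x ^ 2 * q * (x ^ 2)⁻¹ = q := by
    have e : x ^ 2 * q * (x ^ 2)⁻¹ = x * (x * q * x⁻¹) * x⁻¹ := by
      rw [pow_two, mul_inv_rev]; simp only [mul_assoc]
    rw [e, h1, h2]
  have h4 : Commute (x ^ 2) q := mul_inv_eq_iff_eq_mul.1 h3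
  obtain ⟨m, hm⟩ := exists_pow_eq_self_of_coprime (x := x) (n := 2) (Nat.coprime_two_left.2 hx)
  have h5 := h4.pow_left m
  rw [hm] at h5
  exact h5.eq

/-- A subgroup of exponent two of a dihedral-like group has at most four elements. -/
theorem dih_exp_two_card_le {X : Type*} [Group X] [Finite X] (S : Subgroup X) (a : X)
    (hmul : ∀ s ∈ S, ∀ t ∈ S, s ∉ Subgroup.zpowers a → t ∉ Subgroup.zpowers a →
      s * t ∈ Subgroup.zpowers a)
    (Q : Subgroup X) (hQS : Q ≤ S) (hQ2 : ∀ q ∈ Q, q * q = 1) : Nat.card Q ≤ 4 := by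
  classical
  obtain ⟨b, hbQ, hba, hb⟩ : ∃ b, b ∈ Q ∧ b ∈ Subgroup.zpowers a ∧
      ∀ q ∈ Q, q ∈ Subgroup.zpowers a → q = 1 ∨ q = b := by
    by_cases h : ∃ b₀ ∈ Q, b₀ ∈ Subgroup.zpowers a ∧ b₀ ≠ 1
    · obtain ⟨b₀, hb₀Q, hb₀a, hb₀1⟩ := h
      refine ⟨b₀, hb₀Q, hb₀a, ?_⟩
      intro q hq hqa
      by_cases hq1 : q = 1
      · exact Or.inl hq1
      · exact Or.inr
          (involution_unique_zpowers a q b₀ hqa hb₀a (hQ2 q hq) (hQ2 b₀ hb₀Q) hq1 hb₀1)
    · refine ⟨1, Q.one_mem, (Subgroup.zpowers a).one_mem, ?_⟩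
      intro q hq hqa
      left
      by_contra hq1
      exact h ⟨q, hq, hqa, hq1⟩
  obtain ⟨t, htQ, ht⟩ : ∃ t, t ∈ Q ∧
      ∀ q ∈ Q, q ∉ Subgroup.zpowers a → t * q ∈ Subgroup.zpowers a := by
    by_cases h : ∃ t₀ ∈ Q, t₀ ∉ Subgroup.zpowers a
    · obtain ⟨t₀, ht₀Q, ht₀a⟩ := h
      exact ⟨t₀, ht₀Q, fun q hq hqa => hmul t₀ (hQS ht₀Q) q (hQS hq) ht₀a hqa⟩
    · refine ⟨1, Q.one_mem, ?_⟩
      intro q hq hqa
      exact absurd ⟨q, hq, hqa⟩ h
  have hsub : (Q : Set X) ⊆ ((({1, b, t, t * b} : Finset X)) : Set X) := by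
    intro q hq
    have hq' : q ∈ Q := hq
    rw [Finset.mem_coe]
    simp only [Finset.mem_insert, Finset.mem_singleton]
    by_cases hqa : q ∈ Subgroup.zpowers a
    · rcases hb q hq' hqa with h | h
      · exact Or.inl h
      · exact Or.inr (Or.inl h)
    · have h1 := ht q hq' hqa
      have h2 : t * q ∈ Q := Q.mul_mem htQ hq'
      have htt : t * t = 1 := hQ2 t htQ
      have h3 : q = t * (t * q) := by rw [← mul_assoc, htt, one_mul]
      rcases hb _ h2 h1 with h | h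
      · right; right; left
        rw [h3, h, mul_one]
      · right; right; right
        rw [h3, h]
  calc Nat.card Q = (Q : Set X).ncard := rfl
    _ ≤ ((({1, b, t, t * b} : Finset X)) : Set X).ncard :=
        Set.ncard_le_ncard hsub (Finset.finite_toSet _)
    _ = ({1, b, t, t * b} : Finset X).card := Set.ncard_coe_finset _
    _ ≤ 4 := Finset.card_le_four

theorem centralizes_of_card_le_two {X : Type*} [Group X] [Finite X] (Q : Subgroup X)
    (hQ : Nat.card Q ≤ 2) (x : X) (hxQ : ∀ q ∈ Q, x * q * x⁻¹ ∈ Q) :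
    ∀ q ∈ Q, x * q = q * x := by
  intro q hq
  by_cases hq1 : q = 1
  · rw [hq1]; simp
  by_contra hne
  have hne' : x * q * x⁻¹ ≠ q := fun h => hne (mul_inv_eq_iff_eq_mul.1 h)
  have hq'1 : x * q * x⁻¹ ≠ 1 := fun h => hq1 (conj_eq_one_iff.1 h)
  haveI := Fintype.ofFinite ↥Q
  have h3 : 2 < Fintype.card ↥Q := by
    rw [Fintype.two_lt_card_iff]
    refine ⟨1, ⟨q, hq⟩, ⟨x * q * x⁻¹, hxQ q hq⟩, ?_, ?_, ?_⟩
    · intro h; exact hq1 (congrArg Subtype.val h).symm
    · intro h; exact hq'1 (congrArg Subtype.val h).symm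
    · intro h; exact hne' (congrArg Subtype.val h).symm
  rw [← Nat.card_eq_fintype_card] at h3
  omega

end Cfsg.Agent.Helper9
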