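-- helper9: basic tools for p-reduced normal subgroups (Sylow factorisations, O_p of a quotient).
import Mathlib
import Cfsg.Prelude.Def_LocalEven
import Cfsg.Agent.Helper1.Fitting
import Cfsg.Agent.Helper6.PResidual
import Cfsg.Agent.Helper3.Coprime
import Cfsg.Agent.Helper14.Conj
import Cfsg.Agent.S0542

set_option autoImplicit false

namespace Cfsg.Agent.Helper9

open Cfsg

/-- A normal `p`-subgroup lies in every Sylow `p`-subgroup. -/
theorem normal_pgroup_le_sylow {G : Type*} [Group G] [Finite G] {p : ℕ} [Fact p.Prime] (N : Subgroup G)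
    [hN : N.Normal] (hp : IsPGroup p N) (T : Sylow p G) : N ≤ T := by
  obtain ⟨g, hg⟩ := Cfsg.Agent.Helper14.exists_le_sylow_conj T N hp
  intro x hx
  have h1 : g * x * g⁻¹ ∈ N := hN.conj_mem x hx g
  have h2 := hg h1
  rw [Cfsg.Agent.Helper14.mem_map_conj] at h2
  have h3 : g⁻¹ * (g * x * g⁻¹) * g = x := by group
  rw [h3] at h2
  exact h2

/-- `G = O^p(G) T` for a Sylow `p`-subgroup `T`. -/
theorem exists_mul_pResidual_sylow {G : Type*} [Group G] [Finite G] {p : ℕ} [Fact p.Prime] (T : Sylow p G)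
    (g : G) : ∃ x ∈ Cfsg.pResidual p G, ∃ y ∈ (T : Subgroup G), g = x * y := by
  haveI := Cfsg.Agent.Helper6.pResidual_normal p G
  have h1 : IsPGroup p (G ⧸ Cfsg.pResidual p G) :=
    Cfsg.Agent.Helper6.isPGroup_quotient_pResidual p _ le_rfl
  obtain ⟨k, hk⟩ := IsPGroup.iff_card.mp h1
  have h2 : (Cfsg.pResidual p G).index = p ^ k := by
    rw [Subgroup.index_eq_card]; exact hk
  have h3 : ¬ p ∣ (T : Subgroup G).index := T.not_dvd_index
  have hc : (Cfsg.pResidual p G).index.Coprime (T : Subgroup G).index := by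
    rw [h2]
    exact Nat.Coprime.pow_left k ((Nat.Prime.coprime_iff_not_dvd Fact.out).mpr h3)
  exact Cfsg.Agent.Helper3.prod_of_coprime_index _ _ hc g

/-- `O_p(L/C) = 1` iff every normal subgroup of `L` that is a `p`-group modulo `C` lies in `C`. -/
theorem pCore_quotient_eq_bot_iff {L : Type*} [Group L] {p : ℕ} (C : Subgroup L) [C.Normal] :
    Cfsg.pCore p (L ⧸ C) = ⊥ ↔
      ∀ D : Subgroup L, D.Normal → (∀ d ∈ D, ∃ k : ℕ, d ^ (p ^ k) ∈ C) → D ≤ C := by
  constructor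
  · intro h D hD hDp d hd
    have h1 : (D.map (QuotientGroup.mk' C)).Normal := hD.map _ (QuotientGroup.mk'_surjective C)
    have h2 : IsPGroup p (D.map (QuotientGroup.mk' C)) := by
      rintro ⟨q, hq⟩
      obtain ⟨d', hd', rfl⟩ := hq
      obtain ⟨k, hk⟩ := hDp d' hd'
      refine ⟨k, Subtype.ext ?_⟩
      show (QuotientGroup.mk' C d') ^ (p ^ k) = 1
      rw [← map_pow]
      exact (QuotientGroup.eq_one_iff _).mpr hk
    have h3 := Cfsg.Agent.Helper1.le_pCore h1 h2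
    rw [h] at h3
    have h4 : QuotientGroup.mk' C d ∈ (⊥ : Subgroup (L ⧸ C)) := h3 ⟨d, hd, rfl⟩
    exact (QuotientGroup.eq_one_iff d).mp (Subgroup.mem_bot.mp h4)
  · intro h
    rw [eq_bot_iff]
    unfold Cfsg.pCore
    apply sSup_le
    rintro N ⟨hN, hNp⟩
    have h1 : (N.comap (QuotientGroup.mk' C)).Normal := hN.comap _
    have h2 : N.comap (QuotientGroup.mk' C) ≤ C := by
      apply h _ h1
      intro d hd
      obtain ⟨k, hk⟩ := hNp ⟨QuotientGroup.mk' C d, hd⟩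
      refine ⟨k, ?_⟩
      have hk' : (QuotientGroup.mk' C d) ^ (p ^ k) = 1 := congrArg Subtype.val hk
      rw [← map_pow] at hk'
      exact (QuotientGroup.eq_one_iff _).mp hk'
    intro q hq
    obtain ⟨d, rfl⟩ := QuotientGroup.mk_surjective q
    have h3 : d ∈ C := h2 hq
    exact Subgroup.mem_bot.mpr ((QuotientGroup.eq_one_iff d).mpr h3)

/-- If the normal subgroup `D` is a `p`-group modulo the normal subgroup `C`, then
`D = (D ∩ C)(D ∩ T)` for a Sylow `p`-subgroup `T`. -/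
theorem exists_mul_of_pgroup_mod {L : Type*} [Group L] [Finite L] {p : ℕ} [Fact p.Prime] (T : Sylow p L)
    (D C : Subgroup L) [hD : D.Normal] [hC : C.Normal] (hDp : ∀ d ∈ D, ∃ k : ℕ, d ^ (p ^ k) ∈ C) :
    ∀ d ∈ D, ∃ c ∈ C, ∃ t ∈ (T : Subgroup L), c ∈ D ∧ t ∈ D ∧ d = c * t := by
  intro d hd
  haveI : (C.subgroupOf D).Normal := hC.subgroupOf D
  have h1 : IsPGroup p (↥D ⧸ C.subgroupOf D) := by
    intro q
    obtain ⟨w, rfl⟩ := QuotientGroup.mk_surjective q
    obtain ⟨k, hk⟩ := hDp w.1 w.2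
    refine ⟨k, ?_⟩
    rw [← QuotientGroup.mk_pow]
    apply (QuotientGroup.eq_one_iff _).mpr
    exact hk
  obtain ⟨k, hk⟩ := IsPGroup.iff_card.mp h1
  have h2 : (C.subgroupOf D).index = p ^ k := by
    rw [Subgroup.index_eq_card]; exact hk
  obtain ⟨Q, hQ⟩ := Cfsg.Agent.S0542.result p D hD.isSubnormal T
  have h3 : ¬ p ∣ (Q : Subgroup ↥D).index := Q.not_dvd_index
  have hc : (C.subgroupOf D).index.Coprime (Q : Subgroup ↥D).index := by
    rw [h2]
    exact Nat.Coprime.pow_left k ((Nat.Prime.coprime_iff_not_dvd Fact.out).mpr h3)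
  obtain ⟨x, hx, y, hy, hxy⟩ := Cfsg.Agent.Helper3.prod_of_coprime_index _ _ hc ⟨d, hd⟩
  rw [hQ] at hy
  exact ⟨x.1, hx, y.1, hy, x.2, y.2, congrArg Subtype.val hxy⟩

end Cfsg.Agent.Helper9
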