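-- helper9: the transitivity theorem for signalizer functors on elementary abelian groups of rank ≥ 3
import Mathlib
import Cfsg.Prelude.Def_Balance
import Cfsg.Prelude.Def_Local
import Cfsg.Agent.S1324
import Cfsg.Agent.S0023
import Cfsg.Agent.S0024
import Cfsg.Agent.S0025
import Cfsg.Agent.S0030
import Cfsg.Agent.Helper23.FixedLift
import Cfsg.Agent.Helper14.Conj

set_option autoImplicit false

namespace Cfsg.Agent.Helper9.Trans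

open Cfsg

variable {G : Type*} [Group G]

/-- Weak family membership: order prime to `p`, `A`-invariant, and `C_U(a) ≤ θ a`. -/
def WF (p : ℕ) (A : Subgroup G) (θ : G → Subgroup G) (U : Subgroup G) : Prop :=
  ¬ p ∣ Nat.card ↥U ∧ (∀ b ∈ A, ∀ u ∈ U, b * u * b⁻¹ ∈ U) ∧
    ∀ a ∈ A, a ≠ 1 → U ⊓ Subgroup.centralizer {a} ≤ θ a

theorem wf_of_fam {p : ℕ} {A : Subgroup G} {θ : G → Subgroup G} {U : Subgroup G}
    (h : U ∈ Cfsg.signalizerFamily p A θ) : WF p A θ U := by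
  obtain ⟨-, h2, h3, h4⟩ := h
  exact ⟨h2, h3, h4⟩

theorem fam_of_wf [Finite G] {p q : ℕ} [Fact q.Prime] {A : Subgroup G} {θ : G → Subgroup G}
    {U : Subgroup G} (h : WF p A θ U) (hq : IsPGroup q ↥U) :
    U ∈ Cfsg.signalizerFamily p A θ := by
  obtain ⟨h2, h3, h4⟩ := h
  haveI : Group.IsNilpotent ↥U := hq.isNilpotent
  exact ⟨inferInstance, h2, h3, h4⟩

theorem wf_sub {p : ℕ} {A : Subgroup G} {θ : G → Subgroup G} {U V : Subgroup G} [Finite G]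
    (h : WF p A θ U) (hVU : V ≤ U) (hV : ∀ b ∈ A, ∀ u ∈ V, b * u * b⁻¹ ∈ V) : WF p A θ V := by
  refine ⟨fun hd => h.1 (hd.trans (Subgroup.card_dvd_of_le hVU)), hV, fun a ha ha1 => ?_⟩
  exact (inf_le_inf_right _ hVU).trans (h.2.2 a ha ha1)

theorem wf_theta {p : ℕ} {A : Subgroup G} {θ : G → Subgroup G}
    (hθ : Cfsg.IsSignalizerFunctor p A θ) (a : G) (ha : a ∈ A) (ha1 : a ≠ 1) : WF p A θ (θ a) :=
  ⟨hθ.2.1 a ha ha1, fun b hb u hu => hθ.2.2.1 a ha ha1 b hb u hu,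
    fun b hb hb1 => hθ.2.2.2 a ha ha1 b hb hb1⟩

theorem mem_inf_iff {A : Subgroup G} {θ : G → Subgroup G} (c : G) :
    c ∈ Cfsg.signalizerInf A θ ↔ ∀ a ∈ A, a ≠ 1 → c ∈ θ a := by
  unfold Cfsg.signalizerInf
  rw [Subgroup.mem_iInf]
  constructor
  · intro h a ha ha1; exact h ⟨a, ha, ha1⟩
  · rintro h ⟨a, ha, ha1⟩; exact h a ha ha1

theorem inf_le_theta {A : Subgroup G} {θ : G → Subgroup G} (a : G) (ha : a ∈ A) (ha1 : a ≠ 1) :
    Cfsg.signalizerInf A θ ≤ θ a := fun c hc => (mem_inf_iff c).mp hc a ha ha1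

theorem inf_comm' {p : ℕ} {A : Subgroup G} {θ : G → Subgroup G}
    (hθ : Cfsg.IsSignalizerFunctor p A θ) (c : G) (hc : c ∈ Cfsg.signalizerInf A θ) (a : G)
    (ha : a ∈ A) : a * c = c * a := by
  by_cases ha1 : a = 1
  · rw [ha1]; simp
  · have h1 := hθ.1 a ha ha1 (inf_le_theta a ha ha1 hc)
    exact Subgroup.mem_centralizer_iff.mp h1 a (Set.mem_singleton a)

theorem wf_cent_le {p : ℕ} {A : Subgroup G} {θ : G → Subgroup G} {U : Subgroup G}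
    (h : WF p A θ U) (c : G) (hcU : c ∈ U) (hcA : c ∈ Subgroup.centralizer (A : Set G)) :
    c ∈ Cfsg.signalizerInf A θ := by
  rw [mem_inf_iff]
  intro a ha ha1
  apply h.2.2 a ha ha1
  refine Subgroup.mem_inf.mpr ⟨hcU, ?_⟩
  rw [Subgroup.mem_centralizer_iff]
  intro y hy
  rw [Set.mem_singleton_iff] at hy
  rw [hy]
  exact Subgroup.mem_centralizer_iff.mp hcA a ha

theorem wf_conj [Finite G] {p : ℕ} {A : Subgroup G} {θ : G → Subgroup G}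
    (hθ : Cfsg.IsSignalizerFunctor p A θ) {U : Subgroup G} (h : WF p A θ U) (c : G)
    (hc : c ∈ Cfsg.signalizerInf A θ) : WF p A θ (U.map (MulAut.conj c).toMonoidHom) := by
  refine ⟨?_, ?_, ?_⟩
  · rw [Subgroup.card_map_of_injective (MulAut.conj c).injective]
    exact h.1
  · intro b hb u hu
    rw [Cfsg.Agent.Helper14.mem_map_conj] at hu ⊢
    have hbc := inf_comm' hθ c hc b hb
    have h1 := h.2.1 b hb _ hu
    have h2 : c⁻¹ * b = b * c⁻¹ := by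
      calc c⁻¹ * b = c⁻¹ * (b * c) * c⁻¹ := by group
        _ = c⁻¹ * (c * b) * c⁻¹ := by rw [hbc]
        _ = b * c⁻¹ := by group
    have h3 : b⁻¹ * c = c * b⁻¹ := by
      calc b⁻¹ * c = b⁻¹ * (c * b) * b⁻¹ := by group
        _ = b⁻¹ * (b * c) * b⁻¹ := by rw [hbc]
        _ = c * b⁻¹ := by group
    have e : c⁻¹ * (b * u * b⁻¹) * c = b * (c⁻¹ * u * c) * b⁻¹ := by
      calc c⁻¹ * (b * u * b⁻¹) * c = (c⁻¹ * b) * u * (b⁻¹ * c) := by group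
        _ = (b * c⁻¹) * u * (c * b⁻¹) := by rw [h2, h3]
        _ = b * (c⁻¹ * u * c) * b⁻¹ := by group
    rw [e]; exact h1
  · intro a ha ha1 y hy
    obtain ⟨hy1, hy2⟩ := Subgroup.mem_inf.mp hy
    rw [Cfsg.Agent.Helper14.mem_map_conj] at hy1
    have hca : c ∈ θ a := inf_le_theta a ha ha1 hc
    have hac := inf_comm' hθ c hc a ha
    have hya : a * y = y * a := Subgroup.mem_centralizer_iff.mp hy2 a (Set.mem_singleton a)
    have h1 : c⁻¹ * y * c ∈ θ a := by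
      apply h.2.2 a ha ha1
      refine Subgroup.mem_inf.mpr ⟨hy1, ?_⟩
      rw [Subgroup.mem_centralizer_iff]
      intro z hz
      rw [Set.mem_singleton_iff] at hz
      rw [hz]
      have h2 : c⁻¹ * a = a * c⁻¹ := by
        calc c⁻¹ * a = c⁻¹ * (a * c) * c⁻¹ := by group
          _ = c⁻¹ * (c * a) * c⁻¹ := by rw [hac]
          _ = a * c⁻¹ := by group
      calc a * (c⁻¹ * y * c) = (a * c⁻¹) * y * c := by group
        _ = (c⁻¹ * a) * y * c := by rw [h2]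
        _ = c⁻¹ * (a * y) * c := by group
        _ = c⁻¹ * (y * a) * c := by rw [hya]
        _ = c⁻¹ * y * (a * c) := by group
        _ = c⁻¹ * y * (c * a) := by rw [hac]
        _ = (c⁻¹ * y * c) * a := by group
    have e : y = c * (c⁻¹ * y * c) * c⁻¹ := by group
    rw [e]
    exact mul_mem (mul_mem hca h1) (inv_mem hca)

/-- `Q` is maximal among the `q`-subgroups of the family. -/
def IsMaxQ (p q : ℕ) (A : Subgroup G) (θ : G → Subgroup G) (Q : Subgroup G) : Prop :=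
  Q ∈ Cfsg.signalizerFamily p A θ ∧ IsPGroup q ↥Q ∧
    ∀ R ∈ Cfsg.signalizerFamily p A θ, IsPGroup q ↥R → Q ≤ R → R = Q

theorem exists_max [Finite G] (p q : ℕ) (A : Subgroup G) (θ : G → Subgroup G) :
    ∀ n : ℕ, ∀ Q : Subgroup G, Q ∈ Cfsg.signalizerFamily p A θ → IsPGroup q ↥Q →
      Nat.card G - Nat.card ↥Q = n → ∃ Q' : Subgroup G, Q ≤ Q' ∧ IsMaxQ p q A θ Q' := by
  intro n
  induction n using Nat.strong_induction_on with
  | _ n ih =>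
    intro Q hQ hQq hn
    by_cases h : ∃ R ∈ Cfsg.signalizerFamily p A θ, IsPGroup q ↥R ∧ Q ≤ R ∧ R ≠ Q
    · obtain ⟨R, hR, hRq, hQR, hne⟩ := h
      have hc : Nat.card ↥Q < Nat.card ↥R := by
        by_contra hcon
        exact hne (Subgroup.eq_of_le_of_card_ge hQR (not_lt.mp hcon)).symm
      have hRG : Nat.card ↥R ≤ Nat.card G :=
        Nat.le_of_dvd Nat.card_pos (Subgroup.card_subgroup_dvd_card R)
      obtain ⟨Q', hRQ', hmax⟩ := ih (Nat.card G - Nat.card ↥R) (by omega) R hR hRq rfl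
      exact ⟨Q', hQR.trans hRQ', hmax⟩
    · refine ⟨Q, le_rfl, hQ, hQq, fun R hR hRq hQR => ?_⟩
      by_contra hne
      exact h ⟨R, hR, hRq, hQR, hne⟩

theorem max_conj [Finite G] {p q : ℕ} [Fact q.Prime] {A : Subgroup G} {θ : G → Subgroup G}
    (hθ : Cfsg.IsSignalizerFunctor p A θ) {Q : Subgroup G} (h : IsMaxQ p q A θ Q) (c : G)
    (hc : c ∈ Cfsg.signalizerInf A θ) : IsMaxQ p q A θ (Q.map (MulAut.conj c).toMonoidHom) := by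
  obtain ⟨hQ, hQq, hmax⟩ := h
  have hq' : IsPGroup q ↥(Q.map (MulAut.conj c).toMonoidHom) := hQq.map _
  refine ⟨fam_of_wf (wf_conj hθ (wf_of_fam hQ) c hc) hq', hq', ?_⟩
  intro R hR hRq hle
  have hc' : c⁻¹ ∈ Cfsg.signalizerInf A θ := inv_mem hc
  have hR'q : IsPGroup q ↥(R.map (MulAut.conj c⁻¹).toMonoidHom) := hRq.map _
  have hR' := fam_of_wf (wf_conj hθ (wf_of_fam hR) c⁻¹ hc') hR'q
  have hle' : Q ≤ R.map (MulAut.conj c⁻¹).toMonoidHom := by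
    intro x hx
    rw [Cfsg.Agent.Helper14.mem_map_conj]
    apply hle
    rw [Cfsg.Agent.Helper14.mem_map_conj]
    have e : c⁻¹ * (c⁻¹⁻¹ * x * c⁻¹) * c = x := by group
    rw [e]; exact hx
  have h1 := hmax _ hR' hR'q hle'
  ext x
  rw [Cfsg.Agent.Helper14.mem_map_conj, ← h1, Cfsg.Agent.Helper14.mem_map_conj]
  have e : c⁻¹⁻¹ * (c⁻¹ * x * c) * c⁻¹ = x := by group
  rw [e]

theorem exists_normalizer_not_mem [Finite G] {q : ℕ} [Fact q.Prime] (Q D : Subgroup G)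
    (hQ : IsPGroup q ↥Q) (hDQ : D ≤ Q) (hne : D ≠ Q) :
    ∃ y ∈ Q, y ∈ Subgroup.normalizer (D : Set G) ∧ y ∉ D := by
  haveI : Group.IsNilpotent ↥Q := hQ.isNilpotent
  have hlt : D.subgroupOf Q < ⊤ := by
    rw [lt_top_iff_ne_top]
    intro h
    rw [Subgroup.subgroupOf_eq_top] at h
    exact hne (le_antisymm hDQ h)
  have h1 := normalizerCondition_of_isNilpotent (G := ↥Q) (D.subgroupOf Q) hlt
  obtain ⟨y, hy1, hy2⟩ := SetLike.exists_of_lt h1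
  refine ⟨y, y.2, ?_, fun h => hy2 (Subgroup.mem_subgroupOf.mpr h)⟩
  apply Cfsg.Agent.Helper9.mem_normalizer_of_conj_le
  intro d hd
  have h2 := (Subgroup.mem_normalizer_iff.mp hy1 ⟨d, hDQ hd⟩).mp (Subgroup.mem_subgroupOf.mpr hd)
  exact Subgroup.mem_subgroupOf.mp h2

theorem exists_hyp [Finite G] (p : ℕ) [Fact p.Prime] (A : Subgroup G)
    (hA : Cfsg.IsElementaryAbelian p A) (hA2 : p ^ 2 ≤ Nat.card ↥A) (N D : Subgroup G)
    (hNp : ¬ p ∣ Nat.card ↥N) (hAN : A ≤ Subgroup.normalizer (N : Set G)) (hND : ¬ N ≤ D) :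
    ∃ B : Subgroup G, B ≤ A ∧ B.relIndex A ≤ p ∧
      ∃ x ∈ N, x ∈ Subgroup.centralizer (B : Set G) ∧ x ∉ D := by
  have hgen := Cfsg.Agent.S1324.result p A N hA hA2 hNp hAN
  by_contra hcon
  apply hND
  refine hgen.le.trans (iSup_le ?_)
  rintro ⟨B, hBA, hBi⟩ x hx
  by_contra hxD
  exact hcon ⟨B, hBA, hBi, x, (Subgroup.mem_inf.mp hx).1, (Subgroup.mem_inf.mp hx).2, hxD⟩

theorem card_lt_of_mem [Finite G] (D K : Subgroup G) (x : G) (hDK : D ≤ K) (hxK : x ∈ K)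
    (hxD : x ∉ D) : Nat.card ↥D < Nat.card ↥K := by
  by_contra hcon
  have h := Subgroup.eq_of_le_of_card_ge hDK (not_lt.mp hcon)
  rw [h] at hxD
  exact hxD hxK

theorem wf_sup [Finite G] {p : ℕ} [Fact p.Prime] {A : Subgroup G}
    (hA : Cfsg.IsElementaryAbelian p A) {θ : G → Subgroup G}
    (hθ : Cfsg.IsSignalizerFunctor p A θ) (D : Subgroup G) (hDw : WF p A θ D) (a : G)
    (ha : a ∈ A) (ha1 : a ≠ 1) :
    WF p A θ (D ⊔ (θ a ⊓ Subgroup.normalizer (D : Set G))) := by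
  have hp : p.Prime := Fact.out
  obtain ⟨T, hT⟩ : ∃ T : Subgroup G, T = θ a ⊓ Subgroup.normalizer (D : Set G) := ⟨_, rfl⟩
  rw [← hT]
  have hTn : T ≤ Subgroup.normalizer (D : Set G) := by rw [hT]; exact inf_le_right
  have hTθ : T ≤ θ a := by rw [hT]; exact inf_le_left
  have hTp : ¬ p ∣ Nat.card ↥T :=
    fun hd => hθ.2.1 a ha ha1 (hd.trans (Subgroup.card_dvd_of_le hTθ))
  have hAD : A ≤ Subgroup.normalizer (D : Set G) := fun b hb =>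
    Cfsg.Agent.Helper9.mem_normalizer_of_conj_le D b (hDw.2.1 b hb)
  have hTinv : ∀ b ∈ A, ∀ u ∈ T, b * u * b⁻¹ ∈ T := by
    intro b hb u hu
    rw [hT] at hu ⊢
    obtain ⟨hu1, hu2⟩ := Subgroup.mem_inf.mp hu
    exact Subgroup.mem_inf.mpr ⟨hθ.2.2.1 a ha ha1 b hb u hu1,
      mul_mem (mul_mem (hAD hb) hu2) (inv_mem (hAD hb))⟩
  have hKinv : ∀ b ∈ A, ∀ u ∈ D ⊔ T, b * u * b⁻¹ ∈ D ⊔ T := by
    intro b hb u hu
    obtain ⟨d, hd, t, ht, rfl⟩ := Cfsg.Agent.Helper23.exists_mul_of_mem_sup hTn hu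
    have e : b * (d * t) * b⁻¹ = (b * d * b⁻¹) * (b * t * b⁻¹) := by group
    rw [e]
    exact mul_mem (Subgroup.mem_sup_left (hDw.2.1 b hb d hd))
      (Subgroup.mem_sup_right (hTinv b hb t ht))
  have hKp : ¬ p ∣ Nat.card ↥(D ⊔ T) :=
    Cfsg.Agent.Helper23.not_dvd_card_sup_of_le_normalizer hp hDw.1 hTp hTn
  refine ⟨hKp, hKinv, ?_⟩
  intro b hb hb1 k hk
  obtain ⟨hkK, hkC⟩ := Subgroup.mem_inf.mp hk
  have hbz : Subgroup.zpowers b ≤ A := by rw [Subgroup.zpowers_le]; exact hb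
  have hAp : IsPGroup p ↥A := Cfsg.Agent.Helper3.elemAb_isPGroup hA
  have hzp : IsPGroup p ↥(Subgroup.zpowers b) := hAp.to_le hbz
  have hzsol : Group.IsSolvable ↥(Subgroup.zpowers b) := by
    haveI : Group.IsNilpotent ↥(Subgroup.zpowers b) := hzp.isNilpotent
    exact inferInstance
  have hcop : (Nat.card ↥(Subgroup.zpowers b)).Coprime (Nat.card ↥(D ⊔ T)) := by
    obtain ⟨m, hm⟩ := IsPGroup.iff_card.1 hzp
    rw [hm]
    exact Nat.Coprime.pow_left m ((Nat.Prime.coprime_iff_not_dvd hp).2 hKp)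
  have hnorm : ∀ (S : Subgroup G), (∀ b ∈ A, ∀ u ∈ S, b * u * b⁻¹ ∈ S) →
      Subgroup.zpowers b ≤ Subgroup.normalizer (S : Set G) :=
    fun S hS z hz => Cfsg.Agent.Helper9.mem_normalizer_of_conj_le S z (hS z (hbz hz))
  have hkC' : k ∈ Subgroup.centralizer ((Subgroup.zpowers b : Subgroup G) : Set G) := by
    have h1 : Subgroup.zpowers b ≤ Subgroup.centralizer ({k} : Set G) := by
      rw [Subgroup.zpowers_le, Subgroup.mem_centralizer_iff]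
      intro z hz
      rw [Set.mem_singleton_iff] at hz
      rw [hz]
      exact (Subgroup.mem_centralizer_iff.mp hkC b (Set.mem_singleton b)).symm
    rw [Subgroup.mem_centralizer_iff]
    intro z hz
    exact (Subgroup.mem_centralizer_iff.mp (h1 hz) k (Set.mem_singleton k)).symm
  obtain ⟨x, hx, y, hy, hkxy⟩ := Cfsg.Agent.S0030.result (Subgroup.zpowers b) (D ⊔ T)
    (hnorm _ hKinv) hcop (Or.inl hzsol) D T le_sup_left le_sup_right (hnorm D hDw.2.1)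
    (hnorm T hTinv)
    (fun k hk => by
      obtain ⟨d, hd, t, ht, h⟩ := Cfsg.Agent.Helper23.exists_mul_of_mem_sup hTn hk
      exact ⟨d, hd, t, ht, h.symm⟩) k (Subgroup.mem_inf.mpr ⟨hkK, hkC'⟩)
  have hsing : Subgroup.centralizer ((Subgroup.zpowers b : Subgroup G) : Set G) ≤
      Subgroup.centralizer ({b} : Set G) :=
    Subgroup.centralizer_le (Set.singleton_subset_iff.mpr (Subgroup.mem_zpowers b))
  rw [hkxy]
  apply mul_mem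
  · exact hDw.2.2 b hb hb1
      (Subgroup.mem_inf.mpr ⟨(Subgroup.mem_inf.mp hx).1, hsing (Subgroup.mem_inf.mp hx).2⟩)
  · exact hθ.2.2.2 a ha ha1 b hb hb1
      (Subgroup.mem_inf.mpr ⟨hTθ (Subgroup.mem_inf.mp hy).1, hsing (Subgroup.mem_inf.mp hy).2⟩)

theorem step [Finite G] (p : ℕ) [Fact p.Prime] (A : Subgroup G)
    (hA : Cfsg.IsElementaryAbelian p A) (hA3 : p ^ 3 ≤ Nat.card ↥A) (θ : G → Subgroup G)
    (hθ : Cfsg.IsSignalizerFunctor p A θ) (q : ℕ) [Fact q.Prime] (Q₁ Q₂ : Subgroup G)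
    (h₁ : IsMaxQ p q A θ Q₁) (h₂ : IsMaxQ p q A θ Q₂) (hne : Q₁ ≠ Q₂) :
    ∃ c ∈ Cfsg.signalizerInf A θ, ∃ Q₃ : Subgroup G, IsMaxQ p q A θ Q₃ ∧
      Nat.card ↥(Q₁ ⊓ Q₂) < Nat.card ↥(Q₁ ⊓ Q₃) ∧
      Nat.card ↥(Q₁ ⊓ Q₂) < Nat.card ↥(Q₃.map (MulAut.conj c).toMonoidHom ⊓ Q₂) := by
  classical
  have hp : p.Prime := Fact.out
  obtain ⟨hQ₁, hQ₁q, hmax₁⟩ := h₁
  obtain ⟨hQ₂, hQ₂q, hmax₂⟩ := h₂
  have hw₁ := wf_of_fam hQ₁
  have hw₂ := wf_of_fam hQ₂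
  obtain ⟨D, hD⟩ : ∃ D : Subgroup G, D = Q₁ ⊓ Q₂ := ⟨_, rfl⟩
  rw [← hD]
  have hD₁ : D ≤ Q₁ := by rw [hD]; exact inf_le_left
  have hD₂ : D ≤ Q₂ := by rw [hD]; exact inf_le_right
  have hDinv : ∀ b ∈ A, ∀ u ∈ D, b * u * b⁻¹ ∈ D := by
    intro b hb u hu
    rw [hD] at hu ⊢
    exact Subgroup.mem_inf.mpr ⟨hw₁.2.1 b hb u hu.1, hw₂.2.1 b hb u hu.2⟩
  have hDw : WF p A θ D := wf_sub hw₁ hD₁ hDinv
  have hDne₁ : D ≠ Q₁ := by
    intro h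
    have h1 : Q₁ ≤ Q₂ := by rw [← h]; exact hD₂
    exact hne (hmax₁ Q₂ hQ₂ hQ₂q h1).symm
  have hDne₂ : D ≠ Q₂ := by
    intro h
    have h1 : Q₂ ≤ Q₁ := by rw [← h]; exact hD₁
    exact hne (hmax₂ Q₁ hQ₁ hQ₁q h1)
  have hAD : A ≤ Subgroup.normalizer (D : Set G) := fun b hb =>
    Cfsg.Agent.Helper9.mem_normalizer_of_conj_le D b (hDinv b hb)
  have hpp : p ^ 2 ≤ Nat.card ↥A := le_trans (Nat.pow_le_pow_right hp.pos (by norm_num)) hA3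
  have hN : ∀ Q : Subgroup G, WF p A θ Q → ∀ y ∈ Q, y ∈ Subgroup.normalizer (D : Set G) →
      y ∉ D → ∃ B : Subgroup G, B ≤ A ∧ B.relIndex A ≤ p ∧
        ∃ x ∈ Q ⊓ Subgroup.normalizer (D : Set G), x ∈ Subgroup.centralizer (B : Set G) ∧
          x ∉ D := by
    intro Q hw y hyQ hyN hyD
    apply exists_hyp p A hA hpp (Q ⊓ Subgroup.normalizer (D : Set G)) D
    · exact fun hd => hw.1 (hd.trans (Subgroup.card_dvd_of_le inf_le_left))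
    · intro b hb
      apply Cfsg.Agent.Helper9.mem_normalizer_of_conj_le
      intro u hu
      obtain ⟨hu1, hu2⟩ := Subgroup.mem_inf.mp hu
      exact Subgroup.mem_inf.mpr ⟨hw.2.1 b hb u hu1,
        mul_mem (mul_mem (hAD hb) hu2) (inv_mem (hAD hb))⟩
    · intro hle
      exact hyD (hle (Subgroup.mem_inf.mpr ⟨hyQ, hyN⟩))
  obtain ⟨y₁, hy₁Q, hy₁N, hy₁D⟩ := exists_normalizer_not_mem Q₁ D hQ₁q hD₁ hDne₁
  obtain ⟨y₂, hy₂Q, hy₂N, hy₂D⟩ := exists_normalizer_not_mem Q₂ D hQ₂q hD₂ hDne₂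
  obtain ⟨B₁, hB₁A, hB₁i, x₁, hx₁N, hx₁C, hx₁D⟩ := hN Q₁ hw₁ y₁ hy₁Q hy₁N hy₁D
  obtain ⟨B₂, hB₂A, hB₂i, x₂, hx₂N, hx₂C, hx₂D⟩ := hN Q₂ hw₂ y₂ hy₂Q hy₂N hy₂D
  have hBB : B₁ ⊓ B₂ ≠ ⊥ := by
    intro h
    have h1 := Subgroup.relIndex_inf_le (H := B₁) (K := B₂) (L := A)
    rw [h, Subgroup.relIndex_bot_left] at h1
    have h2 : B₁.relIndex A * B₂.relIndex A ≤ p * p := Nat.mul_le_mul hB₁i hB₂i
    have h3 : p * p < p ^ 3 := by
      have h4 : p ^ 2 < p ^ 3 := Nat.pow_lt_pow_right hp.one_lt (by norm_num)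
      rw [sq] at h4
      exact h4
    omega
  obtain ⟨a, haB, ha1⟩ : ∃ a ∈ B₁ ⊓ B₂, a ≠ 1 := by
    by_contra hcon
    push_neg at hcon
    exact hBB ((Subgroup.eq_bot_iff_forall _).mpr hcon)
  have haA : a ∈ A := hB₁A (Subgroup.mem_inf.mp haB).1
  have hxθ : ∀ (Q B : Subgroup G) (x : G), WF p A θ Q → x ∈ Q → a ∈ B →
      x ∈ Subgroup.centralizer (B : Set G) → x ∈ θ a := by
    intro Q B x hw hxQ haB' hxC
    apply hw.2.2 a haA ha1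
    refine Subgroup.mem_inf.mpr ⟨hxQ, ?_⟩
    rw [Subgroup.mem_centralizer_iff]
    intro z hz
    rw [Set.mem_singleton_iff] at hz
    rw [hz]
    exact Subgroup.mem_centralizer_iff.mp hxC a haB'
  have hHw := wf_sup hA hθ D hDw a haA ha1
  obtain ⟨Hh, hHh⟩ : ∃ Hh : Subgroup G,
      Hh = D ⊔ (θ a ⊓ Subgroup.normalizer (D : Set G)) := ⟨_, rfl⟩
  rw [← hHh] at hHw
  have hDH : D ≤ Hh := by rw [hHh]; exact le_sup_left
  have hx₁Q : x₁ ∈ Q₁ := (Subgroup.mem_inf.mp hx₁N).1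
  have hx₂Q : x₂ ∈ Q₂ := (Subgroup.mem_inf.mp hx₂N).1
  have hx₁H : x₁ ∈ Hh := by
    rw [hHh]
    exact Subgroup.mem_sup_right (Subgroup.mem_inf.mpr
      ⟨hxθ Q₁ B₁ x₁ hw₁ hx₁Q (Subgroup.mem_inf.mp haB).1 hx₁C, (Subgroup.mem_inf.mp hx₁N).2⟩)
  have hx₂H : x₂ ∈ Hh := by
    rw [hHh]
    exact Subgroup.mem_sup_right (Subgroup.mem_inf.mpr
      ⟨hxθ Q₂ B₂ x₂ hw₂ hx₂Q (Subgroup.mem_inf.mp haB).2 hx₂C, (Subgroup.mem_inf.mp hx₂N).2⟩)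
  have hU : ∀ (Q : Subgroup G), WF p A θ Q → ∀ b ∈ A, ∀ u ∈ Q ⊓ Hh, b * u * b⁻¹ ∈ Q ⊓ Hh :=
    fun Q hw b hb u hu => Subgroup.mem_inf.mpr
      ⟨hw.2.1 b hb u (Subgroup.mem_inf.mp hu).1, hHw.2.1 b hb u (Subgroup.mem_inf.mp hu).2⟩
  have hAp : IsPGroup p ↥A := Cfsg.Agent.Helper3.elemAb_isPGroup hA
  have hAsol : Group.IsSolvable ↥A := by
    haveI : Group.IsNilpotent ↥A := hAp.isNilpotent
    exact inferInstance
  have hcop : (Nat.card ↥A).Coprime (Nat.card ↥Hh) := by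
    obtain ⟨m, hm⟩ := IsPGroup.iff_card.1 hAp
    rw [hm]
    exact Nat.Coprime.pow_left m ((Nat.Prime.coprime_iff_not_dvd hp).2 hHw.1)
  have hAH : A ≤ Subgroup.normalizer (Hh : Set G) := fun b hb =>
    Cfsg.Agent.Helper9.mem_normalizer_of_conj_le Hh b (hHw.2.1 b hb)
  obtain ⟨P₁, hUP₁, hAP₁⟩ := Cfsg.Agent.S0025.result A Hh hAH hcop (Or.inl hAsol) q
    (Q₁ ⊓ Hh) inf_le_right (hQ₁q.to_le inf_le_left)
    (fun b hb => Cfsg.Agent.Helper9.mem_normalizer_of_conj_le _ b (hU Q₁ hw₁ b hb))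
  obtain ⟨P₂, hUP₂, hAP₂⟩ := Cfsg.Agent.S0025.result A Hh hAH hcop (Or.inl hAsol) q
    (Q₂ ⊓ Hh) inf_le_right (hQ₂q.to_le inf_le_left)
    (fun b hb => Cfsg.Agent.Helper9.mem_normalizer_of_conj_le _ b (hU Q₂ hw₂ b hb))
  obtain ⟨c, hcA, hcP⟩ := Cfsg.Agent.S0024.result A Hh hAH hcop (Or.inl hAsol) q P₁ P₂ hAP₁ hAP₂
  have hcI : (c : G) ∈ Cfsg.signalizerInf A θ := wf_cent_le hHw (c : G) c.2 hcA
  obtain ⟨R₁, hR₁⟩ : ∃ R₁ : Subgroup G, R₁ = (P₁ : Subgroup ↥Hh).map Hh.subtype := ⟨_, rfl⟩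
  rw [← hR₁] at hUP₁ hAP₁
  have hR₁H : R₁ ≤ Hh := by rw [hR₁]; rintro _ ⟨x, -, rfl⟩; exact x.2
  have hR₁q : IsPGroup q ↥R₁ := by rw [hR₁]; exact P₁.isPGroup'.map _
  have hR₁inv : ∀ b ∈ A, ∀ u ∈ R₁, b * u * b⁻¹ ∈ R₁ := fun b hb u hu =>
    (Subgroup.mem_normalizer_iff.mp (hAP₁ hb) u).mp hu
  have hR₁w : WF p A θ R₁ := wf_sub hHw hR₁H hR₁inv
  have hR₁F := fam_of_wf hR₁w hR₁q
  obtain ⟨Q₃, hRQ₃, hQ₃⟩ := exists_max p q A θ _ R₁ hR₁F hR₁q rfl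
  refine ⟨(c : G), hcI, Q₃, hQ₃, ?_, ?_⟩
  · apply card_lt_of_mem D (Q₁ ⊓ Q₃) x₁
    · exact le_inf hD₁ (fun d hd => hRQ₃ (hUP₁ (Subgroup.mem_inf.mpr ⟨hD₁ hd, hDH hd⟩)))
    · exact Subgroup.mem_inf.mpr ⟨hx₁Q, hRQ₃ (hUP₁ (Subgroup.mem_inf.mpr ⟨hx₁Q, hx₁H⟩))⟩
    · exact hx₁D
  · have hR₂ : ∀ u ∈ (P₂ : Subgroup ↥Hh).map Hh.subtype,
        u ∈ Q₃.map (MulAut.conj (c : G)).toMonoidHom := by
      rintro _ ⟨v, hv, rfl⟩
      rw [Cfsg.Agent.Helper14.mem_map_conj]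
      apply hRQ₃
      rw [hR₁]
      have hv' : v ∈ ((MulAut.conj c • P₁ : Sylow q ↥Hh) : Subgroup ↥Hh) := by
        rw [hcP]; exact hv
      rw [Sylow.pointwise_smul_def, Subgroup.mem_pointwise_smul_iff_inv_smul_mem,
        MulAut.smul_def, MulAut.conj_inv_apply] at hv'
      exact ⟨c⁻¹ * v * c, hv', rfl⟩
    apply card_lt_of_mem D (Q₃.map (MulAut.conj (c : G)).toMonoidHom ⊓ Q₂) x₂
    · exact le_inf (fun d hd => hR₂ d (hUP₂ (Subgroup.mem_inf.mpr ⟨hD₂ hd, hDH hd⟩))) hD₂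
    · exact Subgroup.mem_inf.mpr ⟨hR₂ x₂ (hUP₂ (Subgroup.mem_inf.mpr ⟨hx₂Q, hx₂H⟩)), hx₂Q⟩
    · exact hx₂D

theorem trans_aux [Finite G] (p : ℕ) [Fact p.Prime] (A : Subgroup G)
    (hA : Cfsg.IsElementaryAbelian p A) (hA3 : p ^ 3 ≤ Nat.card ↥A) (θ : G → Subgroup G)
    (hθ : Cfsg.IsSignalizerFunctor p A θ) (q : ℕ) [Fact q.Prime] :
    ∀ n : ℕ, ∀ Q₁ Q₂ : Subgroup G, IsMaxQ p q A θ Q₁ → IsMaxQ p q A θ Q₂ →
      Nat.card G - Nat.card ↥(Q₁ ⊓ Q₂) = n →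
      ∃ c ∈ Cfsg.signalizerInf A θ, Q₁.map (MulAut.conj c).toMonoidHom = Q₂ := by
  intro n
  induction n using Nat.strong_induction_on with
  | _ n ih =>
    intro Q₁ Q₂ h₁ h₂ hn
    by_cases hne : Q₁ = Q₂
    · refine ⟨1, one_mem _, ?_⟩
      rw [hne]
      ext x
      rw [Cfsg.Agent.Helper14.mem_map_conj]
      simp
    · obtain ⟨c, hc, Q₃, h₃, hlt1, hlt2⟩ := step p A hA hA3 θ hθ q Q₁ Q₂ h₁ h₂ hne
      have hb1 : Nat.card ↥(Q₁ ⊓ Q₃) ≤ Nat.card G :=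
        Nat.le_of_dvd Nat.card_pos (Subgroup.card_subgroup_dvd_card _)
      have hb2 : Nat.card ↥(Q₃.map (MulAut.conj c).toMonoidHom ⊓ Q₂) ≤ Nat.card G :=
        Nat.le_of_dvd Nat.card_pos (Subgroup.card_subgroup_dvd_card _)
      obtain ⟨c₁, hc₁, e₁⟩ := ih (Nat.card G - Nat.card ↥(Q₁ ⊓ Q₃)) (by omega) Q₁ Q₃ h₁ h₃ rfl
      have h₃' : IsMaxQ p q A θ (Q₃.map (MulAut.conj c).toMonoidHom) := max_conj hθ h₃ c hc
      obtain ⟨c₂, hc₂, e₂⟩ :=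
        ih (Nat.card G - Nat.card ↥(Q₃.map (MulAut.conj c).toMonoidHom ⊓ Q₂)) (by omega) _ Q₂
          h₃' h₂ rfl
      refine ⟨c₂ * c * c₁, mul_mem (mul_mem hc₂ hc) hc₁, ?_⟩
      rw [← e₂, ← e₁]
      ext x
      simp only [Cfsg.Agent.Helper14.mem_map_conj]
      have e : (c₂ * c * c₁)⁻¹ * x * (c₂ * c * c₁)
          = c₁⁻¹ * (c⁻¹ * (c₂⁻¹ * x * c₂) * c) * c₁ := by group
      rw [e]

/-- Transitivity theorem: `θ(C_G(A))` is transitive on the maximal `A`-invariant `q`-subgroups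
of the family, `A` elementary abelian of rank at least 3. -/
theorem transitivity [Finite G] (p : ℕ) [Fact p.Prime] (A : Subgroup G)
    (hA : Cfsg.IsElementaryAbelian p A) (hA3 : p ^ 3 ≤ Nat.card ↥A) (θ : G → Subgroup G)
    (hθ : Cfsg.IsSignalizerFunctor p A θ) (q : ℕ) [Fact q.Prime] (Q₁ Q₂ : Subgroup G)
    (h₁ : IsMaxQ p q A θ Q₁) (h₂ : IsMaxQ p q A θ Q₂) :
    ∃ c ∈ Cfsg.signalizerInf A θ, Q₁.map (MulAut.conj c).toMonoidHom = Q₂ :=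
  trans_aux p A hA hA3 θ hθ q _ Q₁ Q₂ h₁ h₂ rfl

end Cfsg.Agent.Helper9.Trans
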