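-- helper9: coprime action on abelian p-subgroups (telescoping), subnormal p-subgroups lie in O_p.
import Mathlib
import Cfsg.Agent.Helper9.PReduced

set_option autoImplicit false

namespace Cfsg.Agent.Helper9

open Cfsg
open scoped commutatorElement

/-- If `d ^ m` and `d ^ n` lie in a subgroup then so does `d ^ gcd m n`. -/
theorem pow_gcd_mem {G : Type*} [Group G] (S : Subgroup G) (d : G) (m n : ℕ) (hm : d ^ m ∈ S)
    (hn : d ^ n ∈ S) : d ^ Nat.gcd m n ∈ S := by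
  have h : d ^ Nat.gcd m n = (d ^ m) ^ (Nat.gcdA m n) * (d ^ n) ^ (Nat.gcdB m n) := by
    rw [← zpow_natCast d (Nat.gcd m n), Nat.gcd_eq_gcd_ab, zpow_add, zpow_mul, zpow_mul,
      zpow_natCast, zpow_natCast]
  rw [h]
  exact mul_mem (zpow_mem hm _) (zpow_mem hn _)

/-- Telescoping: with `c = [v, x]`, `[v, x^i] ≡ c^i` modulo the subgroup generated by the `[c, x^j]`. -/
theorem comm_tele {G : Type*} [Group G] (V : Subgroup G) (hVc : ∀ a ∈ V, ∀ b ∈ V, a * b = b * a)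
    (x : G) (hx : ∀ v ∈ V, x * v * x⁻¹ ∈ V) (v : G) (hv : v ∈ V) (U : Subgroup G)
    (hU : ∀ i : ℕ, (v * x * v⁻¹ * x⁻¹) * x ^ i * (v * x * v⁻¹ * x⁻¹)⁻¹ * (x ^ i)⁻¹ ∈ U) :
    ∀ i : ℕ, (v * x ^ i * v⁻¹ * (x ^ i)⁻¹) * ((v * x * v⁻¹ * x⁻¹) ^ i)⁻¹ ∈ U := by
  intro i
  have hc : v * x * v⁻¹ * x⁻¹ ∈ V := by
    have h1 := hx v⁻¹ (inv_mem hv)
    have h2 : v * x * v⁻¹ * x⁻¹ = v * (x * v⁻¹ * x⁻¹) := by group
    rw [h2]; exact mul_mem hv h1
  have h3 : ∀ Ci X : G, (v * (X * x) * v⁻¹ * (X * x)⁻¹) * (Ci * (v * x * v⁻¹ * x⁻¹))⁻¹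
      = (v * X * v⁻¹ * X⁻¹) *
        (((v * x * v⁻¹ * x⁻¹) * X * (v * x * v⁻¹ * x⁻¹)⁻¹ * X⁻¹)⁻¹ * Ci⁻¹) := by
    intro Ci X; group
  obtain ⟨c, hcdef⟩ : ∃ c : G, c = v * x * v⁻¹ * x⁻¹ := ⟨_, rfl⟩
  rw [← hcdef] at hU hc h3 ⊢
  have hxpow : ∀ j : ℕ, ∀ w ∈ V, x ^ j * w * (x ^ j)⁻¹ ∈ V := by
    intro j
    induction j with
    | zero => intro w hw; simpa using hw
    | succ j ih =>
      intro w hw
      have h1 := hx _ (ih w hw)
      have h2 : x ^ (j + 1) * w * (x ^ (j + 1))⁻¹ = x * (x ^ j * w * (x ^ j)⁻¹) * x⁻¹ := by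
        rw [pow_succ']; group
      rw [h2]; exact h1
  induction i with
  | zero => simp
  | succ i ih =>
    have he : c * x ^ i * c⁻¹ * (x ^ i)⁻¹ ∈ V := by
      have h1 := hxpow i c⁻¹ (inv_mem hc)
      have h2 : c * x ^ i * c⁻¹ * (x ^ i)⁻¹ = c * (x ^ i * c⁻¹ * (x ^ i)⁻¹) := by group
      rw [h2]; exact mul_mem hc h1
    have hci : c ^ i ∈ V := pow_mem hc i
    have hcomm : (c * x ^ i * c⁻¹ * (x ^ i)⁻¹)⁻¹ * (c ^ i)⁻¹
        = (c ^ i)⁻¹ * (c * x ^ i * c⁻¹ * (x ^ i)⁻¹)⁻¹ :=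
      hVc _ (inv_mem he) _ (inv_mem hci)
    have h4 := h3 (c ^ i) (x ^ i)
    rw [← pow_succ, ← pow_succ] at h4
    have h5 : (v * x ^ (i + 1) * v⁻¹ * (x ^ (i + 1))⁻¹) * (c ^ (i + 1))⁻¹
        = ((v * x ^ i * v⁻¹ * (x ^ i)⁻¹) * (c ^ i)⁻¹) * (c * x ^ i * c⁻¹ * (x ^ i)⁻¹)⁻¹ := by
      rw [h4, hcomm]; simp only [mul_assoc]
    rw [h5]
    exact mul_mem ih (inv_mem (hU i))

/-- Coprime action: if `x` has order prime to `p` and normalizes the elementary abelian `V`, then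
`c = [v, x]` lies in any subgroup containing all `[c, x^i]`. -/
theorem coprime_comm_mem {G : Type*} [Group G] {p : ℕ} (V : Subgroup G)
    (hVc : ∀ a ∈ V, ∀ b ∈ V, a * b = b * a) (hVp : ∀ a ∈ V, a ^ p = 1)
    (x : G) (hx : ∀ v ∈ V, x * v * x⁻¹ ∈ V) (m : ℕ) (hxm : x ^ m = 1) (hmp : Nat.Coprime m p)
    (v : G) (hv : v ∈ V) (U : Subgroup G)
    (hU : ∀ i : ℕ, (v * x * v⁻¹ * x⁻¹) * x ^ i * (v * x * v⁻¹ * x⁻¹)⁻¹ * (x ^ i)⁻¹ ∈ U) :
    v * x * v⁻¹ * x⁻¹ ∈ U := by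
  have h1 := comm_tele V hVc x hx v hv U hU m
  rw [hxm] at h1
  have h2 : v * 1 * v⁻¹ * (1 : G)⁻¹ = 1 := by group
  rw [h2, one_mul] at h1
  have h3 : (v * x * v⁻¹ * x⁻¹) ^ m ∈ U := by
    have h := inv_mem h1
    rwa [inv_inv] at h
  have hc : v * x * v⁻¹ * x⁻¹ ∈ V := by
    have h4 := hx v⁻¹ (inv_mem hv)
    have h5 : v * x * v⁻¹ * x⁻¹ = v * (x * v⁻¹ * x⁻¹) := by group
    rw [h5]; exact mul_mem hv h4
  have h6 : (v * x * v⁻¹ * x⁻¹) ^ p ∈ U := by rw [hVp _ hc]; exact one_mem _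
  have h7 := pow_gcd_mem U _ m p h3 h6
  have h8 : Nat.gcd m p = 1 := hmp
  rw [h8, pow_one] at h7
  exact h7

/-- A subnormal `p`-subgroup lies in every Sylow `p`-subgroup. -/
theorem subnormal_pgroup_le_sylow {G : Type*} [Group G] [Finite G] {p : ℕ} [Fact p.Prime]
    (D : Subgroup G) (hD : D.IsSubnormal) (hp : IsPGroup p D) (S : Sylow p G) : D ≤ S := by
  obtain ⟨Q, hQ⟩ := Cfsg.Agent.S0542.result p D hD S
  have htop : IsPGroup p (⊤ : Subgroup ↥D) := by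
    rintro ⟨x, hx⟩
    obtain ⟨k, hk⟩ := hp x
    exact ⟨k, Subtype.ext hk⟩
  have h1 : (⊤ : Subgroup ↥D) = (Q : Subgroup ↥D) := Q.is_maximal' htop le_top
  rw [hQ] at h1
  exact Subgroup.subgroupOf_eq_top.mp h1.symm

/-- A subnormal `p`-subgroup lies in `O_p`. -/
theorem subnormal_pgroup_le_pCore {G : Type*} [Group G] [Finite G] {p : ℕ} [Fact p.Prime]
    (D : Subgroup G) (hD : D.IsSubnormal) (hp : IsPGroup p D) : D ≤ Cfsg.pCore p G := by
  obtain ⟨S⟩ : Nonempty (Sylow p G) := inferInstance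
  have h1 : ∀ g : G, ∀ d ∈ D, g * d * g⁻¹ ∈ (S : Subgroup G) := by
    intro g d hd
    have hDg : (D.map (MulAut.conj g).toMonoidHom).IsSubnormal :=
      hD.map (MulAut.conj g).surjective
    have hpg : IsPGroup p (D.map (MulAut.conj g).toMonoidHom) := hp.map _
    have h2 := subnormal_pgroup_le_sylow _ hDg hpg S
    exact h2 (Cfsg.Agent.Helper14.conj_mem_map_conj D g hd)
  have h3 : D ≤ (S : Subgroup G).normalCore := fun d hd b => h1 b d hd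
  exact h3.trans (Cfsg.Agent.Helper1.le_pCore (Subgroup.normalCore_normal _)
    (S.isPGroup'.to_le (Subgroup.normalCore_le _)))

/-- If `O_p(L/C) = 1`, a subnormal subgroup that is a `p`-group modulo `C` lies in `C`. -/
theorem le_of_subnormal_of_pCore_quotient {L : Type*} [Group L] [Finite L] {p : ℕ} [Fact p.Prime]
    (C : Subgroup L) [C.Normal] (hcore : Cfsg.pCore p (L ⧸ C) = ⊥) (D : Subgroup L)
    (hD : D.IsSubnormal) (hDp : ∀ d ∈ D, ∃ k : ℕ, d ^ (p ^ k) ∈ C) : D ≤ C := by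
  have h1 : (D.map (QuotientGroup.mk' C)).IsSubnormal := hD.map (QuotientGroup.mk'_surjective C)
  have h2 : IsPGroup p (D.map (QuotientGroup.mk' C)) := by
    rintro ⟨q, hq⟩
    obtain ⟨d', hd', rfl⟩ := hq
    obtain ⟨k, hk⟩ := hDp d' hd'
    refine ⟨k, Subtype.ext ?_⟩
    show (QuotientGroup.mk' C d') ^ (p ^ k) = 1
    rw [← map_pow]
    exact (QuotientGroup.eq_one_iff _).mpr hk
  have h3 := subnormal_pgroup_le_pCore _ h1 h2
  rw [hcore] at h3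
  intro d hd
  have h4 : QuotientGroup.mk' C d ∈ (⊥ : Subgroup (L ⧸ C)) := h3 ⟨d, hd, rfl⟩
  exact (QuotientGroup.eq_one_iff d).mp (Subgroup.mem_bot.mp h4)

/-- For `V` normal elementary abelian and `K` subnormal, `[v, x] ∈ K` for `p'`-elements `x ∈ K`. -/
theorem comm_mem_of_subnormal {L : Type*} [Group L] {p : ℕ} (V : Subgroup L) [hVn : V.Normal]
    (hVc : ∀ a ∈ V, ∀ b ∈ V, a * b = b * a) (hVp : ∀ a ∈ V, a ^ p = 1)
    (K : Subgroup L) (hK : K.IsSubnormal) :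
    ∀ x ∈ K, ∀ m : ℕ, x ^ m = 1 → Nat.Coprime m p → ∀ v ∈ V, v * x * v⁻¹ * x⁻¹ ∈ K := by
  induction hK with
  | top => intro x _ m _ _ v _; exact Subgroup.mem_top _
  | step H K' h_le hSubn hN ih =>
    intro x hx m hxm hmp v hv
    have hc : v * x * v⁻¹ * x⁻¹ ∈ K' := ih x (h_le hx) m hxm hmp v hv
    apply coprime_comm_mem V hVc hVp x (fun w hw => hVn.conj_mem w hw x) m hxm hmp v hv H
    intro i
    have hxi : x ^ i ∈ H := pow_mem hx i
    have h1 := hN.conj_mem ⟨x ^ i, h_le hxi⟩ hxi ⟨v * x * v⁻¹ * x⁻¹, hc⟩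
    have h2 : (v * x * v⁻¹ * x⁻¹) * x ^ i * (v * x * v⁻¹ * x⁻¹)⁻¹ ∈ H := h1
    exact mul_mem h2 (inv_mem hxi)

/-- `[V, O^p(K)] ≤ K` for `V` normal elementary abelian and `K` subnormal. -/
theorem commutator_pResidual_le {L : Type*} [Group L] {p : ℕ} (V : Subgroup L) [hVn : V.Normal]
    (hVc : ∀ a ∈ V, ∀ b ∈ V, a * b = b * a) (hVp : ∀ a ∈ V, a ^ p = 1)
    (K : Subgroup L) (hK : K.IsSubnormal) :
    ⁅V, (Cfsg.pResidual p ↥K).map K.subtype⁆ ≤ K := by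
  have hP := comm_mem_of_subnormal V hVc hVp K hK
  rw [Subgroup.commutator_le]
  rintro v hv a ⟨a', ha', rfl⟩
  revert v
  unfold Cfsg.pResidual at ha'
  induction ha' using Subgroup.closure_induction with
  | mem y hy =>
    intro v hv
    have hy' : Nat.Coprime (orderOf y) p := hy
    have h1 : (y : L) ^ orderOf y = 1 := by
      have h := congrArg Subtype.val (pow_orderOf_eq_one y)
      exact h
    exact hP (y : L) y.2 (orderOf y) h1 hy' v hv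
  | one =>
    intro v hv
    simp
  | mul a b _ _ iha ihb =>
    intro v hv
    have h1 := iha v hv
    have h2 := ihb v hv
    have h3 : ⁅v, K.subtype (a * b)⁆
        = ⁅v, K.subtype a⁆ * ((a : L) * ⁅v, K.subtype b⁆ * (a : L)⁻¹) := by
      simp only [commutatorElement_def, Subgroup.coe_subtype, Subgroup.coe_mul]
      group
    rw [h3]
    exact mul_mem h1 (mul_mem (mul_mem a.2 h2) (inv_mem a.2))
  | inv a _ iha =>
    intro v hv
    have h1 := iha v hv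
    have h3 : ⁅v, K.subtype a⁻¹⁆ = (a : L)⁻¹ * ⁅v, K.subtype a⁆⁻¹ * (a : L) := by
      simp only [commutatorElement_def, Subgroup.coe_subtype, Subgroup.coe_inv]
      group
    rw [h3]
    exact mul_mem (mul_mem (inv_mem a.2) (inv_mem h1)) a.2

end Cfsg.Agent.Helper9
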