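-- helper9: p-reduced normal subgroups of a subgroup, stated inside the ambient group; largest p-reduced normal subgroup.
import Mathlib
import Cfsg.Prelude.Def_LocalStructure
import Cfsg.Agent.Helper9.PReduced2
import Cfsg.Agent.Helper14.PReduced
import Cfsg.Agent.S2801
import Cfsg.Agent.S2802
import Cfsg.Agent.S2803

set_option autoImplicit false

namespace Cfsg.Agent.Helper9

open Cfsg

/-- `V` is a `p`-reduced normal subgroup of `K`, everything inside the ambient group `H`. -/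
def RelRed {H : Type*} [Group H] (p : ℕ) (K V : Subgroup H) : Prop :=
  V ≤ K ∧ (∀ k ∈ K, ∀ v ∈ V, k * v * k⁻¹ ∈ V) ∧ (∀ a ∈ V, ∀ b ∈ V, a * b = b * a) ∧
    (∀ a ∈ V, a ^ p = 1) ∧
    ∀ D : Subgroup H, D ≤ K → (∀ k ∈ K, ∀ d ∈ D, k * d * k⁻¹ ∈ D) →
      (∀ d ∈ D, ∃ j : ℕ, ∀ v ∈ V, v * d ^ (p ^ j) = d ^ (p ^ j) * v) →
      ∀ d ∈ D, ∀ v ∈ V, v * d = d * v

theorem relRed_map_of_isPReducedNormal {H : Type*} [Group H] {p : ℕ} (K : Subgroup H)
    (X : Subgroup ↥K) (hX : Cfsg.IsPReducedNormal p X) : RelRed p K (X.map K.subtype) := by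
  obtain ⟨hXn, hXe, hXC, hXcore⟩ := hX
  haveI := hXC
  have hred := (pCore_quotient_eq_bot_iff (p := p) (Subgroup.centralizer (X : Set ↥K))).mp hXcore
  refine ⟨?_, ?_, ?_, ?_, ?_⟩
  · rintro _ ⟨x, -, rfl⟩
    exact x.2
  · rintro k hk _ ⟨x, hx, rfl⟩
    exact ⟨(⟨k, hk⟩ : ↥K) * x * (⟨k, hk⟩ : ↥K)⁻¹, hXn.conj_mem x hx ⟨k, hk⟩, rfl⟩
  · rintro _ ⟨x, hx, rfl⟩ _ ⟨y, hy, rfl⟩
    have h := congrArg Subtype.val (congrArg Subtype.val
      (hXe.1.is_comm.comm (⟨x, hx⟩ : ↥X) ⟨y, hy⟩))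
    exact h
  · rintro _ ⟨x, hx, rfl⟩
    have h := congrArg Subtype.val (hXe.2 x hx)
    exact h
  · intro D hDK hDn hDp d hd
    rintro _ ⟨x, hx, rfl⟩
    have hD' : D.subgroupOf K ≤ Subgroup.centralizer (X : Set ↥K) := by
      apply hred _ ⟨fun n hn g => hDn g.1 g.2 n.1 hn⟩
      intro e he
      obtain ⟨j, hj⟩ := hDp e.1 he
      refine ⟨j, ?_⟩
      rw [Subgroup.mem_centralizer_iff]
      intro x' hx'
      have h5 := hj (x' : H) ⟨x', hx', rfl⟩
      exact Subtype.ext h5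
    have h2 := Subgroup.mem_centralizer_iff.mp
      (hD' (show (⟨d, hDK hd⟩ : ↥K) ∈ D.subgroupOf K from hd)) x hx
    have h3 := congrArg Subtype.val h2
    exact h3

theorem isPReducedNormal_subgroupOf_of_relRed {H : Type*} [Group H] {p : ℕ} (K V : Subgroup H)
    (h : RelRed p K V) : Cfsg.IsPReducedNormal p (V.subgroupOf K) := by
  obtain ⟨hVK, hn, hc, hp, hred⟩ := h
  have hXn : (V.subgroupOf K).Normal := ⟨fun n hn' g => hn g.1 g.2 n.1 hn'⟩
  have hXe : Cfsg.IsElementaryAbelian p (V.subgroupOf K) := by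
    refine ⟨⟨⟨fun a b => Subtype.ext (Subtype.ext ?_)⟩⟩, fun a ha => Subtype.ext ?_⟩
    · exact hc a.1.1 a.2 b.1.1 b.2
    · exact hp a.1 ha
  haveI := hXn
  have hXCn : (Subgroup.centralizer ((V.subgroupOf K : Subgroup ↥K) : Set ↥K)).Normal :=
    inferInstance
  refine ⟨hXn, hXe, hXCn, ?_⟩
  rw [pCore_quotient_eq_bot_iff]
  intro D hDn hDp
  have key : ∀ d ∈ D.map K.subtype, ∀ v ∈ V, v * d = d * v := by
    apply hred (D.map K.subtype)
    · rintro _ ⟨d, -, rfl⟩; exact d.2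
    · rintro k hk _ ⟨d, hd, rfl⟩
      exact ⟨(⟨k, hk⟩ : ↥K) * d * (⟨k, hk⟩ : ↥K)⁻¹, hDn.conj_mem d hd ⟨k, hk⟩, rfl⟩
    · rintro _ ⟨d, hd, rfl⟩
      obtain ⟨j, hj⟩ := hDp d hd
      refine ⟨j, fun v hv => ?_⟩
      have h1 := Subgroup.mem_centralizer_iff.mp hj ⟨v, hVK hv⟩ hv
      have h2 := congrArg Subtype.val h1
      exact h2
  intro d hd
  rw [Subgroup.mem_centralizer_iff]
  intro x hx
  exact Subtype.ext (key d.1 ⟨d, hd, rfl⟩ x.1 hx)

/-- The join of all `p`-reduced normal subgroups of a finite group is `p`-reduced normal. -/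
theorem largestPReduced_isPReducedNormal (L : Type*) [Group L] [Finite L] (p : ℕ) [Fact p.Prime] :
    Cfsg.IsPReducedNormal p (Cfsg.largestPReduced p L) := by
  have hQn : (pCore p L).Normal := Cfsg.Agent.Helper1.pCore_normal p L
  have hQp : IsPGroup p (pCore p L) := Cfsg.Agent.Helper1.pCore_isPGroup p L
  have hB : ∀ V : Subgroup L, IsPReducedNormal p V → ∀ v ∈ V,
      v ∈ pCore p L ∧ (∀ q ∈ pCore p L, q * v = v * q) ∧ v ^ p = 1 := by
    intro V hV v hv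
    have hQC := Cfsg.Agent.Helper14.pCore_le_centralizer_of_isPReducedNormal V hV
    obtain ⟨hVn, ⟨-, hVe⟩, hCn, hcore⟩ := hV
    have hVp : IsPGroup p V := by
      intro w
      refine ⟨1, Subtype.ext ?_⟩
      rw [pow_one]
      exact hVe w.1 w.2
    have hcomm : ∀ q ∈ pCore p L, q * v = v * q := by
      intro q hq
      exact ((Subgroup.mem_centralizer_iff.mp (hQC hq)) v hv).symm
    exact ⟨Cfsg.Agent.Helper1.le_pCore hVn hVp hv, hcomm, hVe v hv⟩
  unfold Cfsg.largestPReduced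
  obtain ⟨Y, hY⟩ : ∃ Y, Y = sSup {V : Subgroup L | IsPReducedNormal p V} := ⟨_, rfl⟩
  rw [← hY]
  have hYE : Y ≤ Cfsg.Agent.S2801.eSub L p := by
    rw [hY]; exact sSup_le (fun V hV v hv => Cfsg.Agent.S2801.mem_eSub.mpr (hB V hV v hv))
  have hYn : Y.Normal := by rw [hY]; exact Subgroup.sSup_normal _ (fun V hV => hV.1)
  have hCYn : (Subgroup.centralizer (Y : Set L)).Normal :=
    Cfsg.Agent.S2801.centralizer_normal Y hYn
  refine ⟨hYn, ⟨?_, fun a ha => (Cfsg.Agent.S2801.mem_eSub.mp (hYE ha)).2.2⟩, hCYn, ?_⟩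
  · refine ⟨⟨fun a b => Subtype.ext ?_⟩⟩
    have ha := Cfsg.Agent.S2801.mem_eSub.mp (hYE a.2)
    have hb := Cfsg.Agent.S2801.mem_eSub.mp (hYE b.2)
    exact hb.2.1 a ha.1
  · haveI := hCYn
    rw [pCore_quotient_eq_bot_iff]
    intro D hDn hDp
    have hDV : ∀ V : Subgroup L, IsPReducedNormal p V → D ≤ Subgroup.centralizer (V : Set L) := by
      intro V hV
      have hVY : V ≤ Y := by rw [hY]; exact le_sSup hV
      obtain ⟨hVn, hVe, hCn, hcore⟩ := hV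
      haveI := hCn
      apply (pCore_quotient_eq_bot_iff (p := p) (Subgroup.centralizer (V : Set L))).mp hcore _ hDn
      intro d hd
      obtain ⟨k, hk⟩ := hDp d hd
      exact ⟨k, Subgroup.centralizer_le (SetLike.coe_subset_coe.mpr hVY) hk⟩
    intro d hd
    rw [Subgroup.mem_centralizer_iff]
    intro y hy
    have hle : Y ≤ Subgroup.centralizer ({d} : Set L) := by
      rw [hY]
      apply sSup_le
      intro V hV v hv
      rw [Subgroup.mem_centralizer_iff]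
      intro h hh
      rw [Set.mem_singleton_iff] at hh
      rw [hh]
      exact ((Subgroup.mem_centralizer_iff.mp (hDV V hV hd)) v hv).symm
    exact ((Subgroup.mem_centralizer_iff.mp (hle hy)) d (Set.mem_singleton d)).symm

theorem relRed_largestPReducedOf {H : Type*} [Group H] [Finite H] {p : ℕ} [Fact p.Prime]
    (K : Subgroup H) : RelRed p K (Cfsg.largestPReducedOf p K) :=
  relRed_map_of_isPReducedNormal K _ (largestPReduced_isPReducedNormal ↥K p)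

theorem le_largestPReducedOf {H : Type*} [Group H] {p : ℕ} (K V : Subgroup H)
    (h : RelRed p K V) : V ≤ Cfsg.largestPReducedOf p K := by
  have h1 := isPReducedNormal_subgroupOf_of_relRed K V h
  have h2 : V.subgroupOf K ≤ Cfsg.largestPReduced p ↥K := by
    unfold Cfsg.largestPReduced; exact le_sSup h1
  have h3 := Subgroup.map_mono (f := K.subtype) h2
  rw [Subgroup.map_subgroupOf_eq_of_le h.1] at h3
  exact h3

/-- A `p`-subgroup of `M` normalized by `M` lies in every Sylow `p`-subgroup contained in `M`. -/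
theorem normalized_pgroup_le_sylow {H : Type*} [Group H] [Finite H] {p : ℕ} [Fact p.Prime]
    (T : Sylow p H) (M V : Subgroup H) (hTM : (T : Subgroup H) ≤ M) (hVM : V ≤ M)
    (hn : ∀ m ∈ M, ∀ v ∈ V, m * v * m⁻¹ ∈ V) (hp : ∀ v ∈ V, ∃ j : ℕ, v ^ (p ^ j) = 1) :
    V ≤ T := by
  haveI hVn : (V.subgroupOf M).Normal := ⟨fun n hn' g => hn g.1 g.2 n.1 hn'⟩
  have hVp : IsPGroup p (V.subgroupOf M) := by
    intro x
    obtain ⟨j, hj⟩ := hp x.1.1 x.2
    exact ⟨j, Subtype.ext (Subtype.ext hj)⟩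
  have h1 := normal_pgroup_le_sylow (V.subgroupOf M) hVp (T.subtype hTM)
  intro v hv
  have h2 : (⟨v, hVM hv⟩ : ↥M) ∈ ((T.subtype hTM : Sylow p ↥M) : Subgroup ↥M) :=
    h1 (show (⟨v, hVM hv⟩ : ↥M) ∈ V.subgroupOf M from hv)
  rw [Sylow.coe_subtype] at h2
  exact h2

/-- If `A` normalizes `B` then every element of `A ⊔ B` is a product `a * b`. -/
theorem mem_sup_of_normalizes {H : Type*} [Group H] (A B : Subgroup H)
    (hAB : ∀ a ∈ A, ∀ b ∈ B, a * b * a⁻¹ ∈ B) :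
    ∀ x ∈ A ⊔ B, ∃ a ∈ A, ∃ b ∈ B, x = a * b := by
  obtain ⟨P, hP⟩ : ∃ P : Subgroup H, ∀ x, x ∈ P ↔ ∃ a ∈ A, ∃ b ∈ B, x = a * b := by
    refine ⟨{ carrier := {x | ∃ a ∈ A, ∃ b ∈ B, x = a * b}
              mul_mem' := ?_
              one_mem' := ⟨1, one_mem _, 1, one_mem _, by simp⟩
              inv_mem' := ?_ }, fun _ => Iff.rfl⟩
    · rintro _ _ ⟨a, ha, b, hb, rfl⟩ ⟨a', ha', b', hb', rfl⟩
      refine ⟨a * a', mul_mem ha ha', (a'⁻¹ * b * a') * b', mul_mem ?_ hb', by group⟩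
      have h := hAB a'⁻¹ (inv_mem ha') b hb
      rwa [inv_inv] at h
    · rintro _ ⟨a, ha, b, hb, rfl⟩
      exact ⟨a⁻¹, inv_mem ha, a * b⁻¹ * a⁻¹, hAB a ha b⁻¹ (inv_mem hb), by group⟩
  intro x hx
  have h : A ⊔ B ≤ P := sup_le (fun a ha => (hP a).mpr ⟨a, ha, 1, one_mem _, by simp⟩)
    (fun b hb => (hP b).mpr ⟨1, one_mem _, b, hb, by simp⟩)
  exact (hP x).mp (h hx)

theorem pow_mul_mem {H : Type*} [Group H] (C : Subgroup H) (d c : H)
    (hdC : ∀ c' ∈ C, d⁻¹ * c' * d ∈ C) (hc : c ∈ C) :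
    ∀ n : ℕ, ∃ c' ∈ C, (d * c) ^ n = d ^ n * c' := by
  intro n
  induction n with
  | zero => exact ⟨1, one_mem _, by simp⟩
  | succ n ih =>
    obtain ⟨c', hc', h⟩ := ih
    refine ⟨(d⁻¹ * c' * d) * c, mul_mem (hdC c' hc') hc, ?_⟩
    rw [pow_succ, h, pow_succ]
    group

/-- Conjugation by an element normalizing `Y` preserves the centralizer of `Y`. -/
theorem conj_mem_centralizer_of_normalizes {H : Type*} [Group H] (Y : Subgroup H) (g c : H)
    (hg : ∀ y ∈ Y, g⁻¹ * y * g ∈ Y) (hc : c ∈ Subgroup.centralizer (Y : Set H)) :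
    g * c * g⁻¹ ∈ Subgroup.centralizer (Y : Set H) := by
  rw [Subgroup.mem_centralizer_iff]
  intro y hy
  have h1 := Subgroup.mem_centralizer_iff.mp hc _ (hg y hy)
  calc y * (g * c * g⁻¹) = g * ((g⁻¹ * y * g) * c) * g⁻¹ := by group
    _ = g * (c * (g⁻¹ * y * g)) * g⁻¹ := by rw [h1]
    _ = g * c * g⁻¹ * y := by group

/-- Transfer of relative `p`-reducedness between two subgroups with `L C(Y) = M C(Y)`. -/
theorem relRed_transfer {H : Type*} [Group H] {p : ℕ} (L M Y : Subgroup H) (hM : RelRed p M Y)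
    (hfac : L ⊔ Subgroup.centralizer (Y : Set H) = M ⊔ Subgroup.centralizer (Y : Set H))
    (hYL : Y ≤ L) : RelRed p L Y := by
  obtain ⟨hYM, hn, hc, hp, hred⟩ := hM
  have hCmem : ∀ c : H, c ∈ Subgroup.centralizer (Y : Set H) ↔ ∀ y ∈ Y, y * c = c * y :=
    fun c => Subgroup.mem_centralizer_iff
  obtain ⟨C, hCdef⟩ : ∃ C : Subgroup H, C = Subgroup.centralizer (Y : Set H) := ⟨_, rfl⟩
  rw [← hCdef] at hfac hCmem
  have hNY : M ⊔ C ≤ Subgroup.normalizer (Y : Set H) := by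
    apply sup_le
    · exact Subgroup.le_normalizer_iff.mpr hn
    · apply Subgroup.le_normalizer_iff.mpr
      intro c hc' y hy
      have h1 := (hCmem c).mp hc' y hy
      have h2 : c * y * c⁻¹ = y := by rw [← h1]; group
      rw [h2]; exact hy
  have hNconj : ∀ g ∈ M ⊔ C, ∀ y ∈ Y, g * y * g⁻¹ ∈ Y :=
    fun g hg y hy => (Subgroup.mem_normalizer_iff.mp (hNY hg) y).mp hy
  have hNconj' : ∀ g ∈ M ⊔ C, ∀ y ∈ Y, g⁻¹ * y * g ∈ Y :=
    fun g hg y hy => (Subgroup.mem_normalizer_iff''.mp (hNY hg) y).mp hy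
  have hNC : ∀ g ∈ M ⊔ C, ∀ c ∈ C, g * c * g⁻¹ ∈ C := by
    intro g hg c hc'
    rw [hCdef] at hc' ⊢
    exact conj_mem_centralizer_of_normalizes Y g c (hNconj' g hg) hc'
  have hLsup : L ≤ M ⊔ C := by rw [← hfac]; exact le_sup_left
  have hMsup : M ≤ M ⊔ C := le_sup_left
  refine ⟨hYL, fun l hl y hy => hNconj l (hLsup hl) y hy, hc, hp, ?_⟩
  intro D hDL hDn hDp
  have hDsup : D ≤ M ⊔ C := hDL.trans hLsup
  have hDC : ∀ d ∈ D, ∀ c ∈ C, d * c * d⁻¹ ∈ C := fun d hd => hNC d (hDsup hd)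
  have hdec := mem_sup_of_normalizes D C hDC
  have hdecM := mem_sup_of_normalizes M C (fun m hm => hNC m (hMsup hm))
  have hdecL := mem_sup_of_normalizes L C (fun l hl => hNC l (hLsup hl))
  have hsupconj : ∀ g ∈ L ⊔ C, ∀ x ∈ D ⊔ C, g * x * g⁻¹ ∈ D ⊔ C := by
    intro g hg x hx
    obtain ⟨l, hl, c0, hc0, rfl⟩ := hdecL g hg
    obtain ⟨d, hd, c, hc', rfl⟩ := hdec x hx
    have h1 : l * c0 * (d * c) * (l * c0)⁻¹
        = (l * d * l⁻¹) * (l * (d⁻¹ * c0 * d * c * c0⁻¹) * l⁻¹) := by group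
    rw [h1]
    apply Subgroup.mul_mem_sup (hDn l hl d hd)
    apply hNC l (hLsup hl)
    have h2 : d⁻¹ * c0 * d ∈ C := by
      have h3 := hDC d⁻¹ (inv_mem hd) c0 hc0
      rwa [inv_inv] at h3
    exact mul_mem (mul_mem h2 hc') (inv_mem hc0)
  have hE : ∀ e ∈ M ⊓ (D ⊔ C), ∀ v ∈ Y, v * e = e * v := by
    apply hred (M ⊓ (D ⊔ C)) inf_le_left
    · intro m hm e he
      obtain ⟨he1, he2⟩ := Subgroup.mem_inf.mp he
      refine Subgroup.mem_inf.mpr ⟨mul_mem (mul_mem hm he1) (inv_mem hm), ?_⟩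
      apply hsupconj m _ e he2
      rw [hfac]; exact hMsup hm
    · intro e he
      obtain ⟨he1, he2⟩ := Subgroup.mem_inf.mp he
      obtain ⟨d, hd, c, hc', rfl⟩ := hdec e he2
      obtain ⟨j, hj⟩ := hDp d hd
      have hdj : d ^ (p ^ j) ∈ C := (hCmem _).mpr hj
      have hdC' : ∀ c' ∈ C, d⁻¹ * c' * d ∈ C := by
        intro c' hc''
        have h3 := hDC d⁻¹ (inv_mem hd) c' hc''
        rwa [inv_inv] at h3
      obtain ⟨c', hc'', hpow⟩ := pow_mul_mem C d c hdC' hc' (p ^ j)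
      refine ⟨j, ?_⟩
      rw [hpow]
      exact (hCmem _).mp (mul_mem hdj hc'')
  intro d hd v hv
  obtain ⟨m, hm, c, hc', rfl⟩ := hdecM d (hDsup hd)
  have hmE : m ∈ M ⊓ (D ⊔ C) := by
    refine Subgroup.mem_inf.mpr ⟨hm, ?_⟩
    have h1 : m = (m * c) * c⁻¹ := by group
    rw [h1]
    exact Subgroup.mul_mem_sup hd (inv_mem hc')
  have h2 := hE m hmE v hv
  have h3 := (hCmem c).mp hc' v hv
  calc v * (m * c) = (v * m) * c := by group
    _ = (m * v) * c := by rw [h2]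
    _ = m * (v * c) := by group
    _ = m * (c * v) := by rw [h3]
    _ = m * c * v := by group

end Cfsg.Agent.Helper9
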