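-- helper9: Sylow facts for normalized subgroups, O_p of a subgroup, Z_L ≤ Y_L.
import Mathlib
import Cfsg.Prelude.Def_Amalgam
import Cfsg.Agent.Helper9.RelRed

set_option autoImplicit false

namespace Cfsg.Agent.Helper9

open Cfsg

/-- If a Sylow `p`-subgroup `T` normalizes `C`, then `[C : T ∩ C]` is prime to `p`. -/
theorem not_dvd_relIndex_of_normalizes {H : Type*} [Group H] [Finite H] {p : ℕ} [Fact p.Prime]
    (T : Sylow p H) (C : Subgroup H) (hTC : ∀ t ∈ (T : Subgroup H), ∀ c ∈ C, t * c * t⁻¹ ∈ C) :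
    ¬ p ∣ (T : Subgroup H).relIndex C := by
  have hle : (T : Subgroup H) ⊔ C ≤ Subgroup.normalizer (C : Set H) :=
    sup_le (Subgroup.le_normalizer_iff.mpr hTC) Subgroup.le_normalizer
  have hn : (C.subgroupOf ((T : Subgroup H) ⊔ C)).Normal :=
    Subgroup.normal_subgroupOf_of_le_normalizer hle
  have h := Cfsg.Agent.S0542.aux p
    (T.subtype (le_sup_left : (T : Subgroup H) ≤ (T : Subgroup H) ⊔ C))
    (C.subgroupOf ((T : Subgroup H) ⊔ C)) hn.isSubnormal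
  rw [Sylow.coe_subtype, Subgroup.relIndex_subgroupOf le_sup_right] at h
  exact h

/-- If a Sylow `p`-subgroup `T` normalizes `C`, then `T ∩ C` is a Sylow `p`-subgroup of `C`. -/
theorem exists_sylow_inf_of_normalizes {H : Type*} [Group H] [Finite H] {p : ℕ} [Fact p.Prime]
    (T : Sylow p H) (C : Subgroup H) (hTC : ∀ t ∈ (T : Subgroup H), ∀ c ∈ C, t * c * t⁻¹ ∈ C) :
    ∃ P : Sylow p ↥C, (P : Subgroup ↥C) = ((T : Subgroup H) ⊓ C).subgroupOf C := by
  have h1 : IsPGroup p (((T : Subgroup H) ⊓ C).subgroupOf C) := by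
    intro x
    obtain ⟨j, hj⟩ := T.isPGroup' ⟨x.1.1, (Subgroup.mem_inf.mp x.2).1⟩
    have hj' := congrArg Subtype.val hj
    exact ⟨j, Subtype.ext (Subtype.ext hj')⟩
  have h2 : ¬ p ∣ (((T : Subgroup H) ⊓ C).subgroupOf C).index := by
    have h := not_dvd_relIndex_of_normalizes T C hTC
    rw [← Subgroup.inf_relIndex_right] at h
    exact h
  exact ⟨h1.toSylow h2, rfl⟩

theorem pCoreOf_le_sylow {H : Type*} [Group H] [Finite H] {p : ℕ} [Fact p.Prime] (T : Sylow p H)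
    (L : Subgroup H) (hTL : (T : Subgroup H) ≤ L) : Cfsg.pCoreOf p L ≤ T := by
  unfold Cfsg.pCoreOf
  apply normalized_pgroup_le_sylow T L _ hTL
  · rintro _ ⟨x, -, rfl⟩; exact x.2
  · rintro l hl _ ⟨x, hx, rfl⟩
    exact ⟨(⟨l, hl⟩ : ↥L) * x * (⟨l, hl⟩ : ↥L)⁻¹,
      (Cfsg.Agent.Helper1.pCore_normal p ↥L).conj_mem x hx ⟨l, hl⟩, rfl⟩
  · rintro _ ⟨x, hx, rfl⟩
    obtain ⟨k, hk⟩ := Cfsg.Agent.Helper1.pCore_isPGroup p ↥L ⟨x, hx⟩
    have h := congrArg Subtype.val (congrArg Subtype.val hk)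
    exact ⟨k, h⟩

theorem largestPReducedOf_le_pCoreOf {H : Type*} [Group H] [Finite H] {p : ℕ} [Fact p.Prime]
    (L : Subgroup H) : Cfsg.largestPReducedOf p L ≤ Cfsg.pCoreOf p L := by
  unfold Cfsg.largestPReducedOf Cfsg.pCoreOf
  apply Subgroup.map_mono
  obtain ⟨hn, he, -, -⟩ := largestPReduced_isPReducedNormal ↥L p
  apply Cfsg.Agent.Helper1.le_pCore hn
  intro w
  refine ⟨1, Subtype.ext ?_⟩
  rw [pow_one]
  exact he.2 w.1 w.2

/-- In a subgroup `L` of characteristic `p`, `Z_L ≤ Y_L`. -/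
theorem sylowCenterClosure_le_largestPReducedOf {H : Type*} [Group H] [Finite H] {p : ℕ}
    [Fact p.Prime] (L : Subgroup H)
    (hL : Subgroup.centralizer (Cfsg.pCore p ↥L : Set ↥L) ≤ Cfsg.pCore p ↥L) :
    Cfsg.sylowCenterClosure p L ≤ Cfsg.largestPReducedOf p L := by
  unfold Cfsg.sylowCenterClosure
  apply iSup_le
  intro S
  unfold Cfsg.omegaOne
  rw [Subgroup.closure_le]
  intro z hz
  have hz' : z ∈ ((S : Subgroup ↥L).map L.subtype) ⊓
      Subgroup.centralizer (((S : Subgroup ↥L).map L.subtype : Subgroup H) : Set H) ∧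
      z ^ p = 1 := hz
  obtain ⟨hz1, hz3⟩ := hz'
  obtain ⟨hzS, hzC⟩ := Subgroup.mem_inf.mp hz1
  obtain ⟨z', hz'S, rfl⟩ := hzS
  have hcomm : ∀ s ∈ (S : Subgroup ↥L), s * z' = z' * s := by
    intro s hs
    have h := Subgroup.mem_centralizer_iff.mp hzC (s : H) ⟨s, hs, rfl⟩
    exact Subtype.ext h
  have hpow : z' ^ p = 1 := Subtype.ext hz3
  obtain ⟨W, hW⟩ : ∃ W : Subgroup ↥L, ∀ w, w ∈ W ↔
      (w ∈ (S : Subgroup ↥L) ∧ (∀ s ∈ (S : Subgroup ↥L), s * w = w * s) ∧ w ^ p = 1) := by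
    refine ⟨{ carrier := {w | w ∈ (S : Subgroup ↥L) ∧
                (∀ s ∈ (S : Subgroup ↥L), s * w = w * s) ∧ w ^ p = 1}
              mul_mem' := ?_
              one_mem' := ⟨one_mem _, fun s _ => by simp, one_pow _⟩
              inv_mem' := ?_ }, fun _ => Iff.rfl⟩
    · rintro a b ⟨ha1, ha2, ha3⟩ ⟨hb1, hb2, hb3⟩
      refine ⟨mul_mem ha1 hb1, ?_, ?_⟩
      · intro s hs
        calc s * (a * b) = (s * a) * b := by group
          _ = (a * s) * b := by rw [ha2 s hs]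
          _ = a * (s * b) := by group
          _ = a * (b * s) := by rw [hb2 s hs]
          _ = a * b * s := by group
      · have hcomm' : Commute a b := hb2 a ha1
        rw [hcomm'.mul_pow, ha3, hb3, one_mul]
    · rintro a ⟨ha1, ha2, ha3⟩
      refine ⟨inv_mem ha1, ?_, by rw [inv_pow, ha3, inv_one]⟩
      intro s hs
      have h := ha2 s hs
      calc s * a⁻¹ = a⁻¹ * (a * s) * a⁻¹ := by group
        _ = a⁻¹ * (s * a) * a⁻¹ := by rw [h]
        _ = a⁻¹ * s := by group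
  have hXn : (W.subgroupOf (S : Subgroup ↥L)).Normal := by
    constructor
    intro n hn g
    have hn' := (hW n.1).mp hn
    have h1 : (g : ↥L) * (n : ↥L) = (n : ↥L) * (g : ↥L) := hn'.2.1 g.1 g.2
    have h2 : (g : ↥L) * (n : ↥L) * (g : ↥L)⁻¹ = (n : ↥L) := by rw [h1]; group
    show (g : ↥L) * (n : ↥L) * (g : ↥L)⁻¹ ∈ W
    rw [h2]; exact hn
  have hXe : Cfsg.IsElementaryAbelian p (W.subgroupOf (S : Subgroup ↥L)) := by
    refine ⟨⟨⟨fun a b => Subtype.ext (Subtype.ext ?_)⟩⟩, fun a ha => Subtype.ext ?_⟩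
    · exact ((hW b.1.1).mp b.2).2.1 a.1.1 a.1.2
    · exact ((hW a.1).mp ha).2.2
  haveI := hXn
  have hXCn : (Subgroup.centralizer ((W.subgroupOf (S : Subgroup ↥L) :
      Subgroup ↥(S : Subgroup ↥L)) : Set ↥(S : Subgroup ↥L))).Normal := inferInstance
  have hX : Cfsg.IsPReducedNormal p (W.subgroupOf (S : Subgroup ↥L)) := by
    refine ⟨hXn, hXe, hXCn, ?_⟩
    rw [pCore_quotient_eq_bot_iff]
    intro D _ _ d _
    rw [Subgroup.mem_centralizer_iff]
    intro x hx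
    have h := ((hW x.1).mp hx).2.1 d.1 d.2
    exact Subtype.ext h.symm
  have hS := Cfsg.Agent.S2802.result hL S (S : Subgroup ↥L) le_rfl
    (W.subgroupOf (S : Subgroup ↥L)) hX
  have hle : Subgroup.normalClosure (((W.subgroupOf (S : Subgroup ↥L)).map
      (S : Subgroup ↥L).subtype : Subgroup ↥L) : Set ↥L) ≤ Cfsg.largestPReduced p ↥L := by
    unfold Cfsg.largestPReduced; exact le_sSup hS
  have hz'' : z' ∈ Cfsg.largestPReduced p ↥L := by
    apply hle
    apply Subgroup.subset_normalClosure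
    exact ⟨⟨z', hz'S⟩, (hW z').mpr ⟨hz'S, hcomm, hpow⟩, rfl⟩
  show L.subtype z' ∈ (Cfsg.largestPReduced p ↥L).map L.subtype
  exact ⟨z', hz'', rfl⟩

end Cfsg.Agent.Helper9
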