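/-
The preimage of `O_p(N_G(H)/C_G(H))` has `H` as a Sylow `p`-subgroup exactly when
`C_P(H) ≤ H` and `O_{p',p}(N_G(H)) = H C_G(H)` (for `H ≤ P` fully normalized).
Built on the Goldschmidt library.
-/
import Mathlib
import Cfsg.Agent.Helper9.Goldschmidt

namespace Cfsg.Agent.Helper9.CRad

open Cfsg.Agent.Helper10 Cfsg.Agent.Helper9.Gold

variable {G : Type*} [Group G]

/-- Elements of the preimage of `O_p(X/M)` have a `p`-power in `M`. -/
theorem pre_pow {X : Type*} [Group X] (p : ℕ) (M : Subgroup X) [M.Normal] (x : X)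
    (hx : x ∈ (Cfsg.pCore p (X ⧸ M)).comap (QuotientGroup.mk' M)) :
    ∃ n : ℕ, x ^ p ^ n ∈ M := by
  have hx' : QuotientGroup.mk' M x ∈ Cfsg.pCore p (X ⧸ M) := hx
  obtain ⟨n, hn⟩ := (pCore_isPGroup p (X ⧸ M)) ⟨_, hx'⟩
  refine ⟨n, ?_⟩
  have h1 : (QuotientGroup.mk' M x) ^ p ^ n = 1 := congrArg Subtype.val hn
  rw [← map_pow] at h1
  exact (QuotientGroup.eq_one_iff (x ^ p ^ n)).mp h1

/-- A normal subgroup whose elements have `p`-powers in `M` lies in the preimage of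
`O_p(X/M)`. -/
theorem le_pre {X : Type*} [Group X] (p : ℕ) (M : Subgroup X) [M.Normal]
    (Q : Subgroup X) [hQ : Q.Normal] (h : ∀ x ∈ Q, ∃ n : ℕ, x ^ p ^ n ∈ M) :
    Q ≤ (Cfsg.pCore p (X ⧸ M)).comap (QuotientGroup.mk' M) := by
  haveI : (Q.map (QuotientGroup.mk' M)).Normal := hQ.map _ (QuotientGroup.mk'_surjective M)
  have hp : IsPGroup p ↥(Q.map (QuotientGroup.mk' M)) := by
    rintro ⟨_, x, hx, rfl⟩
    obtain ⟨n, hn⟩ := h x hx
    refine ⟨n, ?_⟩
    apply Subtype.ext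
    show (QuotientGroup.mk' M x) ^ p ^ n = 1
    rw [← map_pow]
    exact (QuotientGroup.eq_one_iff (x ^ p ^ n)).mpr hn
  intro x hx
  show QuotientGroup.mk' M x ∈ Cfsg.pCore p (X ⧸ M)
  exact le_pCore _ hp (Subgroup.mem_map_of_mem _ hx)

/-- The preimage of `O_p(N/M)`, as a subgroup of the ambient group. -/
def Pre (p : ℕ) (N : Subgroup G) (M : Subgroup ↥N) [M.Normal] : Subgroup G :=
  ((Cfsg.pCore p (↥N ⧸ M)).comap (QuotientGroup.mk' M)).map N.subtype

theorem Pre_le (p : ℕ) (N : Subgroup G) (M : Subgroup ↥N) [M.Normal] : Pre p N M ≤ N := by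
  rintro _ ⟨k, -, rfl⟩
  exact k.2

theorem Pre_pow (p : ℕ) (N : Subgroup G) (M : Subgroup ↥N) [M.Normal] (x : G)
    (hx : x ∈ Pre p N M) : ∃ n : ℕ, x ^ p ^ n ∈ M.map N.subtype := by
  obtain ⟨k, hk, rfl⟩ := hx
  obtain ⟨n, hn⟩ := pre_pow p M k hk
  exact ⟨n, ⟨k ^ p ^ n, hn, map_pow _ _ _⟩⟩

theorem le_normalizer_Pre (p : ℕ) (N : Subgroup G) (M : Subgroup ↥N) [M.Normal] :
    N ≤ Subgroup.normalizer ((Pre p N M : Subgroup G) : Set G) := by
  intro n hn
  haveI : ((Cfsg.pCore p (↥N ⧸ M)).comap (QuotientGroup.mk' M)).Normal :=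
    (pCore_normal p (↥N ⧸ M)).comap _
  refine map_subtype_normalizer N _ ⟨n, hn⟩ ?_
  rw [Subgroup.normalizer_eq_top]
  exact Subgroup.mem_top _

theorem Pre_max (p : ℕ) (N : Subgroup G) (M : Subgroup ↥N) [M.Normal] (Q : Subgroup G)
    (hQN : Q ≤ N) (hNQ : N ≤ Subgroup.normalizer (Q : Set G))
    (h : ∀ x ∈ Q, ∃ n : ℕ, x ^ p ^ n ∈ M.map N.subtype) : Q ≤ Pre p N M := by
  haveI hn : (Q.subgroupOf N).Normal :=
    (Subgroup.normal_subgroupOf_iff_le_normalizer hQN).mpr hNQ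
  have h2 : Q.subgroupOf N ≤ (Cfsg.pCore p (↥N ⧸ M)).comap (QuotientGroup.mk' M) := by
    apply le_pre
    intro y hy
    obtain ⟨n, m, hm, hmy⟩ := h (y : G) (Subgroup.mem_subgroupOf.mp hy)
    refine ⟨n, ?_⟩
    have e : m = y ^ p ^ n := Subtype.ext (by rw [Subgroup.coe_pow]; exact hmy)
    rw [← e]
    exact hm
  intro q hq
  exact ⟨⟨q, hQN hq⟩, h2 (Subgroup.mem_subgroupOf.mpr hq), rfl⟩

/-- Elements of `A ⊔ B` are products `a * b` when `B` normalizes `A`. -/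
theorem exists_mul_of_mem_sup (A B : Subgroup G)
    (h : B ≤ Subgroup.normalizer (A : Set G)) {w : G} (hw : w ∈ A ⊔ B) :
    ∃ a ∈ A, ∃ b ∈ B, w = a * b := by
  let S : Subgroup G :=
    { carrier := {w | ∃ a ∈ A, ∃ b ∈ B, w = a * b}
      one_mem' := ⟨1, A.one_mem, 1, B.one_mem, (one_mul 1).symm⟩
      mul_mem' := by
        rintro _ _ ⟨a, ha, b, hb, rfl⟩ ⟨a', ha', b', hb', rfl⟩
        exact ⟨a * (b * a' * b⁻¹),
          A.mul_mem ha ((Subgroup.mem_normalizer_iff.mp (h hb) a').mp ha'),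
          b * b', B.mul_mem hb hb', by group⟩
      inv_mem' := by
        rintro _ ⟨a, ha, b, hb, rfl⟩
        exact ⟨b⁻¹ * a⁻¹ * b⁻¹⁻¹,
          (Subgroup.mem_normalizer_iff.mp (h (B.inv_mem hb)) a⁻¹).mp (A.inv_mem ha), b⁻¹,
          B.inv_mem hb, by group⟩ }
  have hS : A ⊔ B ≤ S :=
    sup_le (fun a ha => ⟨a, ha, 1, B.one_mem, (mul_one a).symm⟩)
      (fun b hb => ⟨1, A.one_mem, b, hb, (one_mul b).symm⟩)
  exact hS hw

theorem main [Finite G] {p : ℕ} [Fact p.Prime] (P : Sylow p G) (H N C : Subgroup G)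
    (hN : N = Subgroup.normalizer (H : Set G)) (hCd : C = Subgroup.centralizer (H : Set G))
    (hHP : H ≤ (P : Subgroup G))
    (hSyl : ¬ p ∣ ((P : Subgroup G) ⊓ N).relIndex N)
    [hC : (C.subgroupOf N).Normal] :
    (H ≤ Pre p N (C.subgroupOf N) ∧ ¬ p ∣ H.relIndex (Pre p N (C.subgroupOf N))) ↔
    ((P : Subgroup G) ⊓ C ≤ H ∧ Kc p N = H ⊔ C) := by
  have hHN : H ≤ N := by
    rw [hN]
    exact Subgroup.le_normalizer
  have hNH : N ≤ Subgroup.normalizer (H : Set G) := hN.le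
  have hCN : C ≤ N := by
    rw [hCd, hN]
    exact Subgroup.centralizer_le_normalizer _
  have hcomm : ∀ h ∈ H, ∀ c ∈ C, h * c = c * h := by
    intro h hh c hc
    rw [hCd] at hc
    exact (Subgroup.mem_centralizer_iff.mp hc) h hh
  have hNC : N ≤ Subgroup.normalizer (C : Set G) := by
    rw [hCd, hN]
    exact normalizer_le_normalizer_centralizer H
  have hHp : IsPGroup p ↥H := P.isPGroup'.to_le hHP
  have hT : IsPGroup p ↥((P : Subgroup G) ⊓ N) := P.isPGroup'.to_le inf_le_left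
  have hTN : (P : Subgroup G) ⊓ N ≤ N := inf_le_right
  have hMC : (C.subgroupOf N).map N.subtype = C := by
    rw [Subgroup.subgroupOf_map_subtype]
    exact inf_eq_left.mpr hCN
  have hOle : Pre p N (C.subgroupOf N) ≤ N := Pre_le p N _
  have hOpow : ∀ x ∈ Pre p N (C.subgroupOf N), ∃ n : ℕ, x ^ p ^ n ∈ C := by
    intro x hx
    have h := Pre_pow p N _ x hx
    rw [hMC] at h
    exact h
  have hOmax : ∀ Q : Subgroup G, Q ≤ N → N ≤ Subgroup.normalizer (Q : Set G) →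
      (∀ x ∈ Q, ∃ n : ℕ, x ^ p ^ n ∈ C) → Q ≤ Pre p N (C.subgroupOf N) := by
    intro Q h1 h2 h3
    apply Pre_max p N _ Q h1 h2
    rw [hMC]
    exact h3
  have hNO : N ≤ Subgroup.normalizer ((Pre p N (C.subgroupOf N) : Subgroup G) : Set G) :=
    le_normalizer_Pre p N _
  have hCO : C ≤ Pre p N (C.subgroupOf N) :=
    hOmax C hCN hNC (fun x hx => ⟨0, by rw [pow_zero, pow_one]; exact hx⟩)
  have hHO : H ≤ Pre p N (C.subgroupOf N) := by
    refine hOmax H hHN hNH (fun x hx => ?_)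
    obtain ⟨n, hn⟩ := hHp ⟨x, hx⟩
    have h1 : x ^ p ^ n = 1 := congrArg Subtype.val hn
    exact ⟨n, by rw [h1]; exact C.one_mem⟩
  haveI hRn := pPrimeCore_normal p ↥N
  have hKpow : ∀ x ∈ Kc p N, ∃ n : ℕ, x ^ p ^ n ∈ Rc p N :=
    fun x hx => Pre_pow p N (Cfsg.pPrimeCore p ↥N) x hx
  have hKmax : ∀ Q : Subgroup G, Q ≤ N → N ≤ Subgroup.normalizer (Q : Set G) →
      (∀ x ∈ Q, ∃ n : ℕ, x ^ p ^ n ∈ Rc p N) → Q ≤ Kc p N :=
    fun Q h1 h2 h3 => Pre_max p N (Cfsg.pPrimeCore p ↥N) Q h1 h2 h3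
  have hNK : N ≤ Subgroup.normalizer ((Kc p N : Subgroup G) : Set G) :=
    le_normalizer_Pre p N (Cfsg.pPrimeCore p ↥N)
  have hKN : Kc p N ≤ N := Kc_le p N
  have hRC : Rc p N ≤ C := by
    intro r hr
    have hrN : r ∈ N := hKN (Rc_le_Kc p N hr)
    rw [hCd, Subgroup.mem_centralizer_iff]
    intro h hh
    have hw1 : r * h * r⁻¹ * h⁻¹ ∈ Rc p N := by
      have h1 : h * r⁻¹ * h⁻¹ ∈ Rc p N :=
        (Subgroup.mem_normalizer_iff.mp (le_normalizer_Rc p N (hHN hh)) r⁻¹).mp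
          ((Rc p N).inv_mem hr)
      have e : r * h * r⁻¹ * h⁻¹ = r * (h * r⁻¹ * h⁻¹) := by group
      rw [e]
      exact (Rc p N).mul_mem hr h1
    have hw2 : r * h * r⁻¹ * h⁻¹ ∈ H :=
      H.mul_mem ((Subgroup.mem_normalizer_iff.mp (hNH hrN) h).mp hh) (H.inv_mem hh)
    have hw := coprime_inter (Rc p N) H (Rc_coprime p N) hHp _ hw1 hw2
    calc h * r = (r * h * r⁻¹ * h⁻¹)⁻¹ * (r * h) := by group
      _ = r * h := by rw [hw, inv_one, one_mul]
  constructor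
  · rintro ⟨-, hidx⟩
    -- `H` is the unique Sylow `p`-subgroup of `O`
    have hA : ∀ R : Subgroup G, R ≤ Pre p N (C.subgroupOf N) → IsPGroup p ↥R → R ≤ H := by
      intro R hRO hRp
      haveI hn : (H.subgroupOf (Pre p N (C.subgroupOf N))).Normal :=
        (Subgroup.normal_subgroupOf_iff_le_normalizer hHO).mpr (hOle.trans hNH)
      obtain ⟨S, hS⟩ := exists_sylow (Pre p N (C.subgroupOf N)) H hHp hidx
      haveI hSn : (S : Subgroup ↥(Pre p N (C.subgroupOf N))).Normal := by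
        rw [hS]
        exact hn
      have hR' : IsPGroup p ↥(R.subgroupOf (Pre p N (C.subgroupOf N))) := hRp.comap_subtype
      obtain ⟨S', hS'⟩ := hR'.exists_le_sylow
      obtain ⟨g, hg⟩ := MulAction.exists_smul_eq (↥(Pre p N (C.subgroupOf N))) S S'
      rw [Sylow.smul_eq_of_normal] at hg
      rw [← hg, hS] at hS'
      intro r hr
      have hr' : (⟨r, hRO hr⟩ : ↥(Pre p N (C.subgroupOf N))) ∈
          R.subgroupOf (Pre p N (C.subgroupOf N)) := Subgroup.mem_subgroupOf.mpr hr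
      exact Subgroup.mem_subgroupOf.mp (hS' hr')
    have h1 : (P : Subgroup G) ⊓ C ≤ H :=
      hA _ (inf_le_right.trans hCO) (P.isPGroup'.to_le inf_le_left)
    refine ⟨h1, le_antisymm ?_ ?_⟩
    · have hKO : Kc p N ≤ Pre p N (C.subgroupOf N) := by
        refine hOmax _ hKN hNK (fun x hx => ?_)
        obtain ⟨n, hn⟩ := hKpow x hx
        exact ⟨n, hRC hn⟩
      have h3 : (P : Subgroup G) ⊓ N ⊓ Kc p N ≤ H :=
        hA _ (inf_le_right.trans hKO) (hT.to_le inf_le_left)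
      calc Kc p N = ((P : Subgroup G) ⊓ N ⊓ Kc p N) ⊔ Rc p N := Kc_eq_sup N _ hT hTN hSyl
        _ ≤ H ⊔ C := sup_le (h3.trans le_sup_left) (hRC.trans le_sup_right)
    · have hHK : H ≤ Kc p N :=
        (le_Kc_of_normal_pgroup N _ hT hSyl H hHN hNH hHp).trans inf_le_right
      have hZidx : ¬ p ∣ ((P : Subgroup G) ⊓ C).relIndex C :=
        idx_of_normal (P : Subgroup G) N C hCN hNC hSyl
      have hcent : ∀ z ∈ (P : Subgroup G) ⊓ C, ∀ c ∈ C, z * c = c * z :=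
        fun z hz c hc => hcomm z (h1 hz) c hc
      obtain ⟨Q, hQC, hQcop, hZQ, hNQ⟩ := npc C ((P : Subgroup G) ⊓ C) inf_le_right
        (P.isPGroup'.to_le inf_le_left) hZidx hcent
      have hQR : Q ≤ Rc p N :=
        le_Rc_of_normal_coprime N Q (hQC.trans hCN) (hNC.trans hNQ) hQcop
      have hCK : C ≤ Kc p N :=
        calc C = ((P : Subgroup G) ⊓ C) ⊔ Q := hZQ.symm
          _ ≤ Kc p N := sup_le (h1.trans hHK) (hQR.trans (Rc_le_Kc p N))
      exact sup_le hHK hCK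
  · rintro ⟨h1, h2⟩
    refine ⟨hHO, ?_⟩
    have hCK : C ≤ Kc p N := by
      rw [h2]
      exact le_sup_right
    have hOK : Pre p N (C.subgroupOf N) ≤ Kc p N := by
      refine hKmax _ hOle hNO (fun x hx => ?_)
      obtain ⟨n, hn⟩ := hOpow x hx
      obtain ⟨m, hm⟩ := hKpow _ (hCK hn)
      exact ⟨n + m, by rw [pow_add, pow_mul]; exact hm⟩
    have hPOH : (P : Subgroup G) ⊓ Pre p N (C.subgroupOf N) ≤ H := by
      intro x hx
      have hxK : x ∈ H ⊔ C := by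
        rw [← h2]
        exact hOK hx.2
      obtain ⟨h, hh, c, hc, rfl⟩ := exists_mul_of_mem_sup H C (hCN.trans hNH) hxK
      have hcP : c ∈ (P : Subgroup G) := by
        have e : c = h⁻¹ * (h * c) := by group
        rw [e]
        exact (P : Subgroup G).mul_mem ((P : Subgroup G).inv_mem (hHP hh)) hx.1
      exact H.mul_mem hh (h1 ⟨hcP, hc⟩)
    have hidxO : ¬ p ∣ ((P : Subgroup G) ⊓ Pre p N (C.subgroupOf N)).relIndex
        (Pre p N (C.subgroupOf N)) :=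
      idx_of_normal (P : Subgroup G) N _ hOle hNO hSyl
    intro hd
    apply hidxO
    rw [← Subgroup.relIndex_mul_relIndex _ _ _ hPOH hHO]
    exact Dvd.dvd.mul_left hd _

end Cfsg.Agent.Helper9.CRad
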