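-- helper9: normalizers of L C(Y), normalizer criterion in finite groups, Y_L = Ω₁Z(C_T(Y_L)) in ambient form.
import Mathlib
import Cfsg.Agent.Helper9.RelRed2

set_option autoImplicit false

namespace Cfsg.Agent.Helper9

open Cfsg

theorem sup_centralizer_normalizes {H : Type*} [Group H] (L Y : Subgroup H)
    (hn : ∀ l ∈ L, ∀ y ∈ Y, l * y * l⁻¹ ∈ Y) :
    (∀ g ∈ L ⊔ Subgroup.centralizer (Y : Set H), ∀ y ∈ Y, g * y * g⁻¹ ∈ Y) ∧
    (∀ g ∈ L ⊔ Subgroup.centralizer (Y : Set H), ∀ y ∈ Y, g⁻¹ * y * g ∈ Y) ∧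
    (∀ g ∈ L ⊔ Subgroup.centralizer (Y : Set H), ∀ c ∈ Subgroup.centralizer (Y : Set H),
      g * c * g⁻¹ ∈ Subgroup.centralizer (Y : Set H)) := by
  have hNY : L ⊔ Subgroup.centralizer (Y : Set H) ≤ Subgroup.normalizer (Y : Set H) := by
    apply sup_le
    · exact Subgroup.le_normalizer_iff.mpr hn
    · apply Subgroup.le_normalizer_iff.mpr
      intro c hc' y hy
      have h1 := Subgroup.mem_centralizer_iff.mp hc' y hy
      have h2 : c * y * c⁻¹ = y := by rw [← h1]; group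
      rw [h2]; exact hy
  have h1 : ∀ g ∈ L ⊔ Subgroup.centralizer (Y : Set H), ∀ y ∈ Y, g * y * g⁻¹ ∈ Y :=
    fun g hg y hy => (Subgroup.mem_normalizer_iff.mp (hNY hg) y).mp hy
  have h2 : ∀ g ∈ L ⊔ Subgroup.centralizer (Y : Set H), ∀ y ∈ Y, g⁻¹ * y * g ∈ Y :=
    fun g hg y hy => (Subgroup.mem_normalizer_iff''.mp (hNY hg) y).mp hy
  exact ⟨h1, h2, fun g hg c hc => conj_mem_centralizer_of_normalizes Y g c (h2 g hg) hc⟩

/-- In a finite group, `n S n⁻¹ ≤ S` already gives `n ∈ N(S)`. -/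
theorem mem_normalizer_of_conj_le {H : Type*} [Group H] [Finite H] (S : Subgroup H) (n : H)
    (h : ∀ x ∈ S, n * x * n⁻¹ ∈ S) : n ∈ Subgroup.normalizer (S : Set H) := by
  rw [Subgroup.mem_normalizer_iff]
  intro x
  refine ⟨h x, fun hx => ?_⟩
  have hinj : Function.Injective (fun y : ↥S => (⟨n * y.1 * n⁻¹, h y.1 y.2⟩ : ↥S)) := by
    intro a b hab
    have h0 := congrArg Subtype.val hab
    have h1 : n * a.1 * n⁻¹ = n * b.1 * n⁻¹ := h0
    apply Subtype.ext
    have h2 : a.1 = n⁻¹ * (n * a.1 * n⁻¹) * n := by group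
    rw [h2, h1]; group
  obtain ⟨y, hy⟩ := (Finite.injective_iff_surjective.mp hinj) ⟨n * x * n⁻¹, hx⟩
  have h0 := congrArg Subtype.val hy
  have h1 : n * y.1 * n⁻¹ = n * x * n⁻¹ := h0
  have h2 : y.1 = x := by
    have h3 : y.1 = n⁻¹ * (n * y.1 * n⁻¹) * n := by group
    rw [h3, h1]; group
  rw [← h2]; exact y.2

/-- For `L` of characteristic `p` containing the Sylow `p`-subgroup `T`: every element of order
dividing `p` in `Z(C_T(Y_L))` lies in `Y_L`. -/
theorem mem_largestPReducedOf_of_central {H : Type*} [Group H] [Finite H] {p : ℕ} [Fact p.Prime]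
    (T : Sylow p H) (L : Subgroup H) (hTL : (T : Subgroup H) ≤ L)
    (hL : Subgroup.centralizer (Cfsg.pCore p ↥L : Set ↥L) ≤ Cfsg.pCore p ↥L) :
    ∀ z : H, z ∈ (T : Subgroup H) →
      z ∈ Subgroup.centralizer ((Cfsg.largestPReducedOf p L : Subgroup H) : Set H) →
      (∀ t ∈ (T : Subgroup H) ⊓
        Subgroup.centralizer ((Cfsg.largestPReducedOf p L : Subgroup H) : Set H), t * z = z * t) →
      z ^ p = 1 → z ∈ Cfsg.largestPReducedOf p L := by
  intro z hzT hzC hzZ hzp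
  have hYabs := largestPReduced_isPReducedNormal ↥L p
  have hmax : ∀ V : Subgroup ↥L, Cfsg.IsPReducedNormal p V → V ≤ Cfsg.largestPReduced p ↥L := by
    intro V hV
    unfold Cfsg.largestPReduced; exact le_sSup hV
  have h3 := (Cfsg.Agent.S2803.result hL (T.subtype hTL) (Cfsg.largestPReduced p ↥L)
    ⟨hYabs, hmax⟩
    (((T.subtype hTL : Sylow p ↥L) : Subgroup ↥L) ⊓
      Subgroup.centralizer ((Cfsg.largestPReduced p ↥L : Subgroup ↥L) : Set ↥L)) rfl).2.2
  have hYmem : ∀ y' : ↥L, y' ∈ Cfsg.largestPReduced p ↥L →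
      (y' : H) ∈ Cfsg.largestPReducedOf p L :=
    fun y' hy' => Subgroup.mem_map_of_mem L.subtype hy'
  have hz' : (⟨z, hTL hzT⟩ : ↥L) ∈ Cfsg.largestPReduced p ↥L := by
    rw [h3]
    unfold Cfsg.omegaOne
    apply Subgroup.subset_closure
    have hzTL : (⟨z, hTL hzT⟩ : ↥L) ∈ ((T.subtype hTL : Sylow p ↥L) : Subgroup ↥L) ⊓
        Subgroup.centralizer ((Cfsg.largestPReduced p ↥L : Subgroup ↥L) : Set ↥L) := by
      refine Subgroup.mem_inf.mpr ⟨?_, ?_⟩
      · rw [Sylow.coe_subtype]; exact hzT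
      · rw [Subgroup.mem_centralizer_iff]
        intro h hh
        have h4 := Subgroup.mem_centralizer_iff.mp hzC (h : H) (hYmem h hh)
        exact Subtype.ext h4
    refine ⟨Subgroup.mem_inf.mpr ⟨hzTL, ?_⟩, Subtype.ext hzp⟩
    rw [Subgroup.mem_centralizer_iff]
    intro t ht
    obtain ⟨ht1, ht2⟩ := Subgroup.mem_inf.mp ht
    rw [Sylow.coe_subtype] at ht1
    have htT : (t : H) ∈ (T : Subgroup H) := ht1
    have htC : (t : H) ∈
        Subgroup.centralizer ((Cfsg.largestPReducedOf p L : Subgroup H) : Set H) := by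
      rw [Subgroup.mem_centralizer_iff]
      intro y hy
      have hy2 : y ∈ (Cfsg.largestPReduced p ↥L).map L.subtype := hy
      obtain ⟨y', hy', rfl⟩ := hy2
      have h5 := Subgroup.mem_centralizer_iff.mp ht2 y' hy'
      have h6 := congrArg Subtype.val h5
      exact h6
    have h7 := hzZ (t : H) (Subgroup.mem_inf.mpr ⟨htT, htC⟩)
    exact Subtype.ext h7
  exact hYmem _ hz'

end Cfsg.Agent.Helper9
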