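-- helper9: existence of members of frak M_H above a subgroup of characteristic p (basic property).
import Mathlib
import Cfsg.Prelude.Def_LocalStructure
import Cfsg.Agent.Helper7.Large2
import Cfsg.Agent.Helper14.Conj
import Cfsg.Agent.S2802
import Cfsg.Agent.S2821
import Cfsg.Agent.S2824

set_option autoImplicit false

namespace Cfsg.Agent.Helper9.FrakM

open Cfsg

theorem mem_charP_iff {H : Type*} [Group H] {p : ℕ} (X : Subgroup H) :
    X ∈ Cfsg.charPSubgroups p H ↔ (Cfsg.pCore p ↥X ≠ ⊥ ∧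
      Subgroup.centralizer ((Cfsg.pCoreOf p X : Subgroup H) : Set H) ≤ Cfsg.pCoreOf p X) :=
  Iff.rfl

/-- Members of `𝓛_H` have characteristic `p` in the internal sense. -/
theorem char_of_mem {H : Type*} [Group H] {p : ℕ} (X : Subgroup H)
    (hX : X ∈ Cfsg.charPSubgroups p H) :
    Subgroup.centralizer (Cfsg.pCore p ↥X : Set ↥X) ≤ Cfsg.pCore p ↥X := by
  have hX2 := ((mem_charP_iff X).mp hX).2
  intro x hx
  have h1 : (x : H) ∈ Subgroup.centralizer ((Cfsg.pCoreOf p X : Subgroup H) : Set H) := by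
    rw [Subgroup.mem_centralizer_iff]
    intro y0 hy0
    have hy1 : y0 ∈ (Cfsg.pCore p ↥X).map X.subtype := hy0
    obtain ⟨y, hy, rfl⟩ := hy1
    have h2 := Subgroup.mem_centralizer_iff.mp hx y hy
    have h3 := congrArg Subtype.val h2
    exact h3
  have h5 : (x : H) ∈ (Cfsg.pCore p ↥X).map X.subtype := hX2 h1
  obtain ⟨y, hy, hyx⟩ := h5
  have h4 : y = x := Subtype.ext hyx
  rw [← h4]; exact hy

theorem pCore_ne_bot_of {H : Type*} [Group H] {p : ℕ} (X V : Subgroup H) (hVX : V ≤ X)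
    (hXV : X ≤ Subgroup.normalizer (V : Set H)) (hVp : IsPGroup p ↥V) (hV : V ≠ ⊥) :
    Cfsg.pCore p ↥X ≠ ⊥ := by
  intro h0
  apply hV
  have h1 : V ≤ Cfsg.pCoreOf p X :=
    Cfsg.Agent.Helper7.le_pCoreOf_of_normal_pgroup p V X hVX hXV hVp
  rw [eq_bot_iff]
  intro v hv
  have h2 : v ∈ (Cfsg.pCore p ↥X).map X.subtype := h1 hv
  rw [h0, Subgroup.map_bot] at h2
  exact h2

/-- In a group of parabolic characteristic `p`, every parabolic subgroup with `O_p ≠ 1` is in `𝓛_H`. -/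
theorem mem_charP_of_parabolic {H : Type*} [Group H] [Finite H] {p : ℕ} [Fact p.Prime]
    (hH : Cfsg.IsOfParabolicCharacteristic p H) (T : Sylow p H) (X : Subgroup H)
    (hTX : (T : Subgroup H) ≤ X) (hne : Cfsg.pCore p ↥X ≠ ⊥) :
    X ∈ Cfsg.charPSubgroups p H := by
  rw [mem_charP_iff]
  refine ⟨hne, ?_⟩
  obtain ⟨R, hR⟩ : ∃ R : Subgroup H, R = Cfsg.pCoreOf p X := ⟨_, rfl⟩
  rw [← hR]
  have hRp : IsPGroup p ↥R := by
    rw [hR]; exact (Cfsg.Agent.Helper1.pCore_isPGroup p ↥X).map X.subtype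
  have hRne : R ≠ ⊥ := by
    intro h0
    apply hne
    rw [hR] at h0
    exact (Subgroup.map_eq_bot_iff_of_injective _ X.subtype_injective).mp h0
  have hXN : X ≤ Subgroup.normalizer (R : Set H) := by
    rw [hR]; exact Cfsg.Agent.Helper7.le_normalizer_map_subtype (Cfsg.pCore p ↥X)
  have hTN : (T : Subgroup H) ≤ Subgroup.normalizer (R : Set H) := hTX.trans hXN
  have hN := hH R hRp hRne ⟨T, hTN⟩
  have hON : Cfsg.pCoreOf p (Subgroup.normalizer (R : Set H)) ≤ R := by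
    have h := Cfsg.Agent.Helper7.le_pCoreOf_of_normal_pgroup p
      (Cfsg.pCoreOf p (Subgroup.normalizer (R : Set H))) X
      ((pCoreOf_le_sylow T _ hTN).trans hTX)
      (hXN.trans (Cfsg.Agent.Helper7.le_normalizer_map_subtype
        (Cfsg.pCore p ↥(Subgroup.normalizer (R : Set H)))))
      ((Cfsg.Agent.Helper1.pCore_isPGroup p ↥(Subgroup.normalizer (R : Set H))).map _)
    exact h.trans hR.ge
  intro c hc
  have hcN : c ∈ Subgroup.normalizer (R : Set H) :=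
    Subgroup.centralizer_le_normalizer (R : Set H) hc
  have h1 : (⟨c, hcN⟩ : ↥(Subgroup.normalizer (R : Set H))) ∈
      Subgroup.centralizer (Cfsg.pCore p ↥(Subgroup.normalizer (R : Set H)) :
        Set ↥(Subgroup.normalizer (R : Set H))) := by
    rw [Subgroup.mem_centralizer_iff]
    intro y hy
    have hy1 : (y : H) ∈ (Cfsg.pCore p ↥(Subgroup.normalizer (R : Set H))).map
        (Subgroup.normalizer (R : Set H)).subtype := ⟨y, hy, rfl⟩
    have hyR : (y : H) ∈ R := hON hy1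
    exact Subtype.ext (Subgroup.mem_centralizer_iff.mp hc (y : H) hyR)
  have h2 := hN h1
  have h3 : c ∈ (Cfsg.pCore p ↥(Subgroup.normalizer (R : Set H))).map
      (Subgroup.normalizer (R : Set H)).subtype := ⟨⟨c, hcN⟩, h2, rfl⟩
  exact hON h3

theorem largestPReducedOf_le_sylow {H : Type*} [Group H] [Finite H] {p : ℕ} [Fact p.Prime]
    (T : Sylow p H) (X : Subgroup H) (hTX : (T : Subgroup H) ≤ X) :
    Cfsg.largestPReducedOf p X ≤ (T : Subgroup H) :=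
  (largestPReducedOf_le_pCoreOf X).trans (pCoreOf_le_sylow T X hTX)

theorem isPGroup_largestPReducedOf {H : Type*} [Group H] [Finite H] {p : ℕ} [Fact p.Prime]
    (X : Subgroup H) : IsPGroup p ↥(Cfsg.largestPReducedOf p X) := by
  intro g
  refine ⟨1, Subtype.ext ?_⟩
  rw [pow_one]
  exact (relRed_largestPReducedOf X).2.2.2.1 g.1 g.2

theorem le_normalizer_largestPReducedOf {H : Type*} [Group H] [Finite H] {p : ℕ} [Fact p.Prime]
    (X : Subgroup H) :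
    X ≤ Subgroup.normalizer ((Cfsg.largestPReducedOf p X : Subgroup H) : Set H) :=
  Subgroup.le_normalizer_iff.mpr (relRed_largestPReducedOf X).2.1

/-- `Y_{X₁} ≤ Y_{X₂}` for `T ≤ X₁ ≤ X₂` with `X₂` of characteristic `p`. -/
theorem largestPReducedOf_mono {H : Type*} [Group H] [Finite H] {p : ℕ} [Fact p.Prime]
    (T : Sylow p H) (X₁ X₂ : Subgroup H) (hT : (T : Subgroup H) ≤ X₁) (h12 : X₁ ≤ X₂)
    (hX₂ : Subgroup.centralizer (Cfsg.pCore p ↥X₂ : Set ↥X₂) ≤ Cfsg.pCore p ↥X₂) :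
    Cfsg.largestPReducedOf p X₁ ≤ Cfsg.largestPReducedOf p X₂ := by
  have h := relRed_largestPReducedOf (p := p) X₁
  obtain ⟨V, hV⟩ : ∃ V : Subgroup H, V = Cfsg.largestPReducedOf p X₁ := ⟨_, rfl⟩
  rw [← hV] at h ⊢
  obtain ⟨hVK, hn, hc, hp, hred⟩ := h
  have hrr : RelRed p (X₁.subgroupOf X₂) (V.subgroupOf X₂) := by
    refine ⟨?_, ?_, ?_, ?_, ?_⟩
    · intro x hx; exact hVK hx
    · intro k hk v hv; exact hn k.1 hk v.1 hv
    · intro a ha b hb; exact Subtype.ext (hc a.1 ha b.1 hb)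
    · intro a ha; exact Subtype.ext (hp a.1 ha)
    · intro D hDK hDn hDp d hd v hv
      have hD1 : D.map X₂.subtype ≤ X₁ := by
        rintro _ ⟨d', hd', rfl⟩; exact hDK hd'
      have hD2 : ∀ k ∈ X₁, ∀ d' ∈ D.map X₂.subtype, k * d' * k⁻¹ ∈ D.map X₂.subtype := by
        rintro k hk _ ⟨d', hd', rfl⟩
        exact ⟨⟨k, h12 hk⟩ * d' * ⟨k, h12 hk⟩⁻¹, hDn ⟨k, h12 hk⟩ hk d' hd', rfl⟩
      have hD3 : ∀ d' ∈ D.map X₂.subtype, ∃ j : ℕ, ∀ v' ∈ V,
          v' * d' ^ (p ^ j) = d' ^ (p ^ j) * v' := by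
        rintro _ ⟨d', hd', rfl⟩
        obtain ⟨j, hj⟩ := hDp d' hd'
        refine ⟨j, fun v' hv' => ?_⟩
        have h2 := hj ⟨v', h12 (hVK hv')⟩ hv'
        have h3 := congrArg Subtype.val h2
        exact h3
      exact Subtype.ext (hred (D.map X₂.subtype) hD1 hD2 hD3 d.1 ⟨d, hd, rfl⟩ v.1 hv)
  have hX := isPReducedNormal_subgroupOf_of_relRed _ _ hrr
  have hVK' : V.subgroupOf X₂ ≤ X₁.subgroupOf X₂ := hrr.1
  have hTR : ((T.subtype (hT.trans h12) : Sylow p ↥X₂) : Subgroup ↥X₂) ≤ X₁.subgroupOf X₂ := by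
    intro x hx
    rw [Sylow.coe_subtype] at hx
    exact hT hx
  have hres := Cfsg.Agent.S2802.result hX₂ (T.subtype (hT.trans h12)) (X₁.subgroupOf X₂) hTR _ hX
  rw [Subgroup.map_subgroupOf_eq_of_le hVK'] at hres
  have h2 : V.subgroupOf X₂ ≤ Cfsg.largestPReduced p ↥X₂ := by
    refine Subgroup.le_normalClosure.trans ?_
    unfold Cfsg.largestPReduced
    exact le_sSup hres
  intro y hy
  have hy2 : (⟨y, h12 (hVK hy)⟩ : ↥X₂) ∈ Cfsg.largestPReduced p ↥X₂ := h2 hy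
  show y ∈ (Cfsg.largestPReduced p ↥X₂).map X₂.subtype
  exact ⟨⟨y, h12 (hVK hy)⟩, hy2, rfl⟩

/-- `Y_L ≠ 1` for `L ≥ T` of characteristic `p` with `O_p(L) ≠ 1`. -/
theorem largestPReducedOf_ne_bot {H : Type*} [Group H] [Finite H] {p : ℕ} [Fact p.Prime]
    (T : Sylow p H) (L : Subgroup H) (hTL : (T : Subgroup H) ≤ L)
    (hL : Subgroup.centralizer (Cfsg.pCore p ↥L : Set ↥L) ≤ Cfsg.pCore p ↥L)
    (hne : Cfsg.pCore p ↥L ≠ ⊥) : Cfsg.largestPReducedOf p L ≠ ⊥ := by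
  have hTne : (T : Subgroup H) ≠ ⊥ := by
    intro h0
    apply hne
    have h1 : Cfsg.pCoreOf p L ≤ (T : Subgroup H) := pCoreOf_le_sylow T L hTL
    rw [eq_bot_iff]
    intro x hx
    have h2 : (x : H) ∈ (Cfsg.pCore p ↥L).map L.subtype := ⟨x, hx, rfl⟩
    have h3 : (x : H) ∈ (T : Subgroup H) := h1 h2
    rw [h0, Subgroup.mem_bot] at h3
    rw [Subgroup.mem_bot]
    exact Subtype.ext h3
  obtain ⟨z, hzT, hzo, hzc⟩ := Cfsg.Agent.Helper7.exists_central_orderOf_of_normal_pgroup p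
    (T : Subgroup H) (T : Subgroup H) T.isPGroup' le_rfl Subgroup.le_normalizer hTne
  have h := Cfsg.Agent.S2821.result T L hTL hL _ rfl
  have hz1 : z ∈ Cfsg.omegaOne p
      ((T : Subgroup H) ⊓ Subgroup.centralizer ((T : Subgroup H) : Set H)) := by
    unfold Cfsg.omegaOne
    apply Subgroup.subset_closure
    have hzp : z ^ p = 1 := by
      have h5 := pow_orderOf_eq_one z
      rw [hzo] at h5
      exact h5
    exact ⟨Subgroup.mem_inf.mpr ⟨hzT, hzc⟩, hzp⟩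
  have hz2 : z ∈ Cfsg.largestPReducedOf p L := h.2.2.2.2.1 (h.2.2.2.1 hz1)
  intro h0
  rw [h0, Subgroup.mem_bot] at hz2
  rw [hz2, orderOf_one] at hzo
  exact (Fact.out : p.Prime).one_lt.ne hzo

theorem sylow_le_normalizer_inf {H : Type*} [Group H] {p : ℕ} (T : Sylow p H) (C' : Subgroup H)
    (hC' : (T : Subgroup H) ≤ Subgroup.normalizer (C' : Set H)) :
    (T : Subgroup H) ≤ Subgroup.normalizer ((((T : Subgroup H) ⊓ C' : Subgroup H)) : Set H) := by
  apply Cfsg.Agent.Helper7.le_normalizer_of_conj_mem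
  intro t ht x hx
  exact Subgroup.mem_inf.mpr
    ⟨Subgroup.mul_mem _ (Subgroup.mul_mem _ ht (Subgroup.mem_inf.mp hx).1) (Subgroup.inv_mem _ ht),
      Cfsg.Agent.Helper7.conj_mem_of_mem_normalizer (hC' ht) (Subgroup.mem_inf.mp hx).2⟩

/-- A `p`-subgroup is conjugate into any subgroup of index prime to `p`. -/
theorem exists_conj_mem_of_not_dvd_index {G : Type*} [Group G] {p : ℕ} [Fact p.Prime]
    (A X : Subgroup G) (hA : IsPGroup p ↥A) (hX : ¬ p ∣ X.index) :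
    ∃ g : G, ∀ a ∈ A, g⁻¹ * a * g ∈ X := by
  obtain ⟨q, hq⟩ := hA.nonempty_fixed_point_of_prime_not_dvd_card (G ⧸ X) hX
  obtain ⟨g, rfl⟩ := QuotientGroup.mk_surjective q
  refine ⟨g, fun a ha => ?_⟩
  have h1 : (⟨a, ha⟩ : ↥A) • (QuotientGroup.mk g : G ⧸ X) = QuotientGroup.mk g := hq ⟨a, ha⟩
  have h2 : (QuotientGroup.mk (a * g) : G ⧸ X) = QuotientGroup.mk g := h1
  have h3 : (a * g)⁻¹ * g ∈ X := QuotientGroup.eq.mp h2
  have h4 := X.inv_mem h3
  have h5 : ((a * g)⁻¹ * g)⁻¹ = g⁻¹ * a * g := by group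
  rw [h5] at h4
  exact h4

/-- `C_M(Y)` is `p`-closed when `M` normalizes `T ∩ C`. -/
theorem pclosed_part {H : Type*} [Group H] [Finite H] {p : ℕ} [Fact p.Prime] (T : Sylow p H)
    (M C : Subgroup H) (hTM : (T : Subgroup H) ≤ M)
    (hMC : M ≤ Subgroup.normalizer (C : Set H))
    (hMT0 : M ≤ Subgroup.normalizer ((((T : Subgroup H) ⊓ C : Subgroup H)) : Set H)) :
    Cfsg.IsPClosed p ↥(M ⊓ C) := by
  have hTK : ∀ t ∈ (T : Subgroup H), ∀ c ∈ M ⊓ C, t * c * t⁻¹ ∈ M ⊓ C := fun t ht c hc =>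
    Subgroup.mem_inf.mpr
      ⟨M.mul_mem (M.mul_mem (hTM ht) (Subgroup.mem_inf.mp hc).1) (M.inv_mem (hTM ht)),
        Cfsg.Agent.Helper7.conj_mem_of_mem_normalizer (hMC (hTM ht)) (Subgroup.mem_inf.mp hc).2⟩
  obtain ⟨P, hP⟩ := exists_sylow_inf_of_normalizes T (M ⊓ C) hTK
  have hPn : (P : Subgroup ↥(M ⊓ C)).Normal := by
    rw [hP]
    refine ⟨fun n hn g => ?_⟩
    have hn' : (n : H) ∈ (T : Subgroup H) ⊓ (M ⊓ C) := hn
    have hn1 : (n : H) ∈ (T : Subgroup H) := (Subgroup.mem_inf.mp hn').1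
    have hn2 : (n : H) ∈ C := (Subgroup.mem_inf.mp (Subgroup.mem_inf.mp hn').2).2
    have hg : (g : H) ∈ M := (Subgroup.mem_inf.mp g.2).1
    have h1 : (g : H) * (n : H) * (g : H)⁻¹ ∈ (T : Subgroup H) ⊓ C :=
      Cfsg.Agent.Helper7.conj_mem_of_mem_normalizer (hMT0 hg) (Subgroup.mem_inf.mpr ⟨hn1, hn2⟩)
    show ((g * n * g⁻¹ : ↥(M ⊓ C)) : H) ∈ (T : Subgroup H) ⊓ (M ⊓ C)
    exact Subgroup.mem_inf.mpr ⟨(Subgroup.mem_inf.mp h1).1, (g * n * g⁻¹).2⟩
  haveI := Sylow.unique_of_normal P hPn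
  show ∀ P' : Sylow p ↥(M ⊓ C), (P' : Subgroup ↥(M ⊓ C)).Normal
  intro P'
  have h : P' = P := Subsingleton.elim _ _
  rw [h]; exact hPn

/-- The Frattini condition for a minimal `M`. -/
theorem frattini_part {H : Type*} [Group H] [Finite H] {p : ℕ} [Fact p.Prime] (T : Sylow p H)
    (M Y : Subgroup H) (hTM : (T : Subgroup H) ≤ M)
    (hMY : M ≤ Subgroup.normalizer (Y : Set H))
    (hMT0 : M ≤ Subgroup.normalizer
      ((((T : Subgroup H) ⊓ Subgroup.centralizer (Y : Set H) : Subgroup H)) : Set H))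
    (hmin : ∀ M' : Subgroup H, (T : Subgroup H) ≤ M' → M' ≤ M →
      M ≤ M' ⊔ Subgroup.centralizer (Y : Set H) → M ≤ M') :
    ((M ⊓ Subgroup.centralizer (Y : Set H)).subgroupOf M).map
        (QuotientGroup.mk' (Cfsg.pCore p ↥M)) ≤ frattini (↥M ⧸ Cfsg.pCore p ↥M) := by
  classical
  obtain ⟨C, hC⟩ : ∃ C : Subgroup H, C = Subgroup.centralizer (Y : Set H) := ⟨_, rfl⟩
  rw [← hC] at hMT0 hmin ⊢
  have hMC : M ≤ Subgroup.normalizer (C : Set H) := by
    rw [hC]; exact hMY.trans (Cfsg.Agent.Helper7.normalizer_le_normalizer_centralizer' Y)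
  have hMK : ∀ m ∈ M, ∀ k ∈ M ⊓ C, m * k * m⁻¹ ∈ M ⊓ C := fun m hm k hk =>
    Subgroup.mem_inf.mpr
      ⟨M.mul_mem (M.mul_mem hm (Subgroup.mem_inf.mp hk).1) (M.inv_mem hm),
        Cfsg.Agent.Helper7.conj_mem_of_mem_normalizer (hMC hm) (Subgroup.mem_inf.mp hk).2⟩
  have hTK : ∀ t ∈ (T : Subgroup H), ∀ c ∈ M ⊓ C, t * c * t⁻¹ ∈ M ⊓ C :=
    fun t ht => hMK t (hTM ht)
  have hT0 : (T : Subgroup H) ⊓ (M ⊓ C) = (T : Subgroup H) ⊓ C :=
    le_antisymm (le_inf inf_le_left (inf_le_right.trans inf_le_right))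
      (le_inf inf_le_left (le_inf (inf_le_left.trans hTM) inf_le_right))
  have hT0p : IsPGroup p ↥((T : Subgroup H) ⊓ C) := T.isPGroup'.to_le inf_le_left
  have hT0Op : (T : Subgroup H) ⊓ C ≤ Cfsg.pCoreOf p M :=
    Cfsg.Agent.Helper7.le_pCoreOf_of_normal_pgroup p _ M (inf_le_left.trans hTM) hMT0 hT0p
  have hnd : ¬ p ∣ ((T : Subgroup H) ⊓ C).relIndex (M ⊓ C) := by
    have h := not_dvd_relIndex_of_normalizes T (M ⊓ C) hTK
    rw [← Subgroup.inf_relIndex_right, hT0] at h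
    exact h
  unfold frattini Order.radical
  refine le_iInf₂ (fun Xb hXb' => ?_)
  have hXb : IsCoatom Xb := hXb'
  by_contra hnot
  obtain ⟨π, hπ⟩ : ∃ π : ↥M →* ↥M ⧸ Cfsg.pCore p ↥M,
      π = QuotientGroup.mk' (Cfsg.pCore p ↥M) := ⟨_, rfl⟩
  rw [← hπ] at hnot
  have hπsurj : Function.Surjective π := by rw [hπ]; exact QuotientGroup.mk'_surjective _
  have hπker : π.ker = Cfsg.pCore p ↥M := by rw [hπ]; exact QuotientGroup.ker_mk' _
  obtain ⟨X', hX'⟩ : ∃ X' : Subgroup ↥M, X' = Xb.comap π := ⟨_, rfl⟩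
  have hOpX' : Cfsg.pCore p ↥M ≤ X' := by
    intro y hy
    rw [hX', Subgroup.mem_comap]
    have h1 : π y = 1 := by
      have h2 : y ∈ π.ker := by rw [hπker]; exact hy
      exact MonoidHom.mem_ker.mp h2
    rw [h1]; exact one_mem _
  have hsup : Xb ⊔ ((M ⊓ C).subgroupOf M).map π = ⊤ := hXb.2 _ (left_lt_sup.mpr hnot)
  have hA : (X' ⊔ (M ⊓ C).subgroupOf M).map π = ⊤ := by
    rw [Subgroup.map_sup, hX', Subgroup.map_comap_eq_self_of_surjective hπsurj]; exact hsup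
  have hA' : X' ⊔ (M ⊓ C).subgroupOf M = ⊤ := by
    have hker : π.ker ≤ X' ⊔ (M ⊓ C).subgroupOf M := by
      rw [hπker]; exact le_sup_of_le_left hOpX'
    have h1 := Subgroup.comap_map_eq_self hker
    rw [hA, Subgroup.comap_top] at h1
    exact h1.symm
  obtain ⟨X, hX⟩ : ∃ X : Subgroup H, X = X'.map M.subtype := ⟨_, rfl⟩
  have hXM : X ≤ M := by
    rw [hX]; rintro _ ⟨x, -, rfl⟩; exact x.2
  have hXsub : X.subgroupOf M = X' := by
    rw [hX]; exact Subgroup.comap_map_eq_self_of_injective M.subtype_injective X'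
  have hmemX : ∀ x : ↥M, x ∈ X' ↔ (x : H) ∈ X := by
    intro x; rw [← hXsub]; exact Iff.rfl
  have hdec : ∀ m ∈ M, ∃ x ∈ X, ∃ k ∈ M ⊓ C, m = x * k := by
    intro m hm
    have h1 : (⟨m, hm⟩ : ↥M) ∈ X' ⊔ (M ⊓ C).subgroupOf M := by
      rw [hA']; exact Subgroup.mem_top _
    obtain ⟨a, ha, b, hb, hab⟩ := mem_sup_of_normalizes X' ((M ⊓ C).subgroupOf M)
      (fun a _ b hb => hMK a.1 a.2 b.1 hb) _ h1
    have h0 := congrArg Subtype.val hab
    exact ⟨a.1, (hmemX a).mp ha, b.1, hb, h0⟩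
  have hT0X : (T : Subgroup H) ⊓ C ≤ X := by
    intro y hy
    have hy2 : y ∈ (Cfsg.pCore p ↥M).map M.subtype := hT0Op hy
    obtain ⟨y', hy', rfl⟩ := hy2
    exact (hmemX y').mp (hOpX' hy')
  have hidx : X.relIndex M = X.relIndex (M ⊓ C) := by
    have hb : (M ⊓ C).relIndex X = (M ⊓ C).relIndex M := by
      haveI hKn : ((M ⊓ C).subgroupOf M).Normal := ⟨fun n hn g => hMK g.1 g.2 n.1 hn⟩
      have h1 := Subgroup.relIndex_sup_right (H := X') (K := (M ⊓ C).subgroupOf M)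
      rw [hA', Subgroup.relIndex_top_right] at h1
      have h2 : ((M ⊓ C).subgroupOf M).relIndex (X.subgroupOf M) = (M ⊓ C).relIndex X :=
        Subgroup.relIndex_subgroupOf hXM
      rw [hXsub] at h2
      exact h2.symm.trans h1.symm
    have e1 := Subgroup.relIndex_mul_relIndex (X ⊓ (M ⊓ C)) X M inf_le_left hXM
    have e2 := Subgroup.relIndex_mul_relIndex (X ⊓ (M ⊓ C)) (M ⊓ C) M inf_le_right inf_le_left
    rw [Subgroup.inf_relIndex_left] at e1
    rw [Subgroup.inf_relIndex_right] at e2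
    rw [hb] at e1
    have hne : (M ⊓ C).relIndex M ≠ 0 :=
      Subgroup.index_ne_zero_of_finite (H := (M ⊓ C).subgroupOf M)
    have e3 : (M ⊓ C).relIndex M * X.relIndex M =
        (M ⊓ C).relIndex M * X.relIndex (M ⊓ C) :=
      e1.trans (e2.symm.trans (mul_comm _ _))
    exact Nat.eq_of_mul_eq_mul_left (Nat.pos_of_ne_zero hne) e3
  have hndX : ¬ p ∣ X.relIndex M := by
    rw [hidx]
    intro hdvd
    exact hnd (hdvd.trans (Subgroup.relIndex_dvd_of_le_left (M ⊓ C) hT0X))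
  have hndX' : ¬ p ∣ X'.index := by
    rw [← hXsub]; exact hndX
  obtain ⟨g, hg⟩ := exists_conj_mem_of_not_dvd_index ((T : Subgroup H).subgroupOf M) X'
    (T.isPGroup'.comap_subtype) hndX'
  have hgT : ∀ t ∈ (T : Subgroup H), (g : H)⁻¹ * t * (g : H) ∈ X := by
    intro t ht
    have h1 := hg ⟨t, hTM ht⟩ ht
    exact (hmemX _).mp h1
  have hgM : (g : H) ∈ M := g.2
  have hXgT : (T : Subgroup H) ≤ X.map (MulAut.conj (g : H)).toMonoidHom := fun t ht =>
    (Cfsg.Agent.Helper14.mem_map_conj X (g : H) t).mpr (hgT t ht)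
  have hXgM : X.map (MulAut.conj (g : H)).toMonoidHom ≤ M := by
    intro x hx
    have h1 := hXM ((Cfsg.Agent.Helper14.mem_map_conj X (g : H) x).mp hx)
    have h2 : x = (g : H) * ((g : H)⁻¹ * x * (g : H)) * (g : H)⁻¹ := by group
    rw [h2]; exact M.mul_mem (M.mul_mem hgM h1) (M.inv_mem hgM)
  have hXgC : M ≤ X.map (MulAut.conj (g : H)).toMonoidHom ⊔ C := by
    intro m hm
    have h1 : (g : H)⁻¹ * m * (g : H) ∈ M := M.mul_mem (M.mul_mem (M.inv_mem hgM) hm) hgM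
    obtain ⟨x, hx, k, hk, hxk⟩ := hdec _ h1
    have h2 : m = ((g : H) * x * (g : H)⁻¹) * ((g : H) * k * (g : H)⁻¹) := by
      calc m = (g : H) * ((g : H)⁻¹ * m * (g : H)) * (g : H)⁻¹ := by group
        _ = (g : H) * (x * k) * (g : H)⁻¹ := by rw [hxk]
        _ = ((g : H) * x * (g : H)⁻¹) * ((g : H) * k * (g : H)⁻¹) := by group
    rw [h2]
    refine Subgroup.mul_mem _ (Subgroup.mem_sup_left ?_) (Subgroup.mem_sup_right ?_)
    · rw [Cfsg.Agent.Helper14.mem_map_conj]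
      have h3 : (g : H)⁻¹ * ((g : H) * x * (g : H)⁻¹) * (g : H) = x := by group
      rw [h3]; exact hx
    · exact (Subgroup.mem_inf.mp (hMK _ hgM k hk)).2
  have hle := hmin _ hXgT hXgM hXgC
  have hMX : M ≤ X := by
    intro m hm
    have h1 : (g : H) * m * (g : H)⁻¹ ∈ M := M.mul_mem (M.mul_mem hgM hm) (M.inv_mem hgM)
    have h2 := (Cfsg.Agent.Helper14.mem_map_conj X (g : H) _).mp (hle h1)
    have h3 : (g : H)⁻¹ * ((g : H) * m * (g : H)⁻¹) * (g : H) = m := by group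
    rw [h3] at h2; exact h2
  apply hXb.1
  rw [eq_top_iff]
  intro q _
  obtain ⟨m, rfl⟩ := hπsurj q
  have h1 : m ∈ X' := (hmemX m).mpr (hMX m.2)
  rw [hX'] at h1
  exact h1

theorem isInFrakM_intro {H : Type*} [Group H] {p : ℕ} (M Y Mt : Subgroup H)
    (hY : Cfsg.largestPReducedOf p M = Y)
    (hMt : M ⊔ Subgroup.centralizer (Y : Set H) = Mt)
    (h1 : M ∈ Cfsg.charPSubgroups p H) (h2 : Mt ∈ Cfsg.maxCharPSubgroups p H)
    (h3 : ∀ X ∈ Cfsg.maxCharPSubgroups p H, M ≤ X → X = Mt)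
    (h4 : Y = Cfsg.largestPReducedOf p Mt)
    (h5 : Cfsg.IsPClosed p ↥(M ⊓ Subgroup.centralizer (Y : Set H)))
    (h6 : ((M ⊓ Subgroup.centralizer (Y : Set H)).subgroupOf M).map
        (QuotientGroup.mk' (Cfsg.pCore p ↥M)) ≤ frattini (↥M ⧸ Cfsg.pCore p ↥M)) :
    Cfsg.IsInFrakM p M := by
  subst hY
  subst hMt
  exact ⟨h1, h2, h3, h4, h5, h6⟩

/-- Existence of `M ∈ 𝔐_H` and `L*` for `L ∈ 𝓛_H` above a Sylow `p`-subgroup, assuming all
parabolic subgroups with nontrivial `O_p` are in `𝓛_H`. -/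
theorem exists_frakM {H : Type*} [Group H] [Finite H] {p : ℕ} [Fact p.Prime] (T : Sylow p H)
    (hchar : ∀ X : Subgroup H, (T : Subgroup H) ≤ X → Cfsg.pCore p ↥X ≠ ⊥ →
      X ∈ Cfsg.charPSubgroups p H)
    (L : Subgroup H) (hTL : (T : Subgroup H) ≤ L) (hL : L ∈ Cfsg.charPSubgroups p H) :
    ∃ M Ls : Subgroup H, (T : Subgroup H) ≤ M ∧ Cfsg.IsInFrakM p M ∧ (T : Subgroup H) ≤ Ls ∧
      Ls ≤ M ∧ Ls ∈ Cfsg.charPSubgroups p H ∧
      Cfsg.largestPReducedOf p L = Cfsg.largestPReducedOf p Ls ∧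
      Cfsg.largestPReducedOf p L ≤ Cfsg.largestPReducedOf p M ∧
      L ⊔ Subgroup.centralizer ((Cfsg.largestPReducedOf p L : Subgroup H) : Set H) =
        Ls ⊔ Subgroup.centralizer ((Cfsg.largestPReducedOf p L : Subgroup H) : Set H) := by
  classical
  have hLint := char_of_mem L hL
  have hYLne : Cfsg.largestPReducedOf p L ≠ ⊥ :=
    largestPReducedOf_ne_bot T L hTL hLint ((mem_charP_iff L).mp hL).1
  have hYLT : Cfsg.largestPReducedOf p L ≤ (T : Subgroup H) := largestPReducedOf_le_sylow T L hTL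
  have hYLp : IsPGroup p ↥(Cfsg.largestPReducedOf p L) := isPGroup_largestPReducedOf L
  have hLN : L ≤ Subgroup.normalizer ((Cfsg.largestPReducedOf p L : Subgroup H) : Set H) :=
    le_normalizer_largestPReducedOf L
  obtain ⟨YL, hYL⟩ : ∃ YL : Subgroup H, YL = Cfsg.largestPReducedOf p L := ⟨_, rfl⟩
  rw [← hYL] at hYLne hYLT hYLp hLN ⊢
  -- the family
  obtain ⟨F, hF⟩ : ∃ F : Subgroup H → Prop, ∀ X, F X ↔ ((T : Subgroup H) ≤ X ∧
      X ∈ Cfsg.charPSubgroups p H ∧ YL ≤ Cfsg.largestPReducedOf p X ∧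
      ∀ l ∈ L, ∃ x ∈ X, ∃ c ∈ Subgroup.centralizer (YL : Set H), l = x * c) :=
    ⟨fun X => ((T : Subgroup H) ≤ X ∧
      X ∈ Cfsg.charPSubgroups p H ∧ YL ≤ Cfsg.largestPReducedOf p X ∧
      ∀ l ∈ L, ∃ x ∈ X, ∃ c ∈ Subgroup.centralizer (YL : Set H), l = x * c), fun X => Iff.rfl⟩
  have hFL : F L := (hF L).mpr
    ⟨hTL, hL, hYL.le, fun l hl => ⟨l, hl, 1, one_mem _, (mul_one l).symm⟩⟩
  haveI hne : Nonempty {X : Subgroup H // F X} := ⟨⟨L, hFL⟩⟩
  obtain ⟨⟨X₀, hX₀⟩, hmax⟩ := Finite.exists_max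
    (fun X : {X : Subgroup H // F X} => Nat.card ↥(Cfsg.largestPReducedOf p X.1))
  have hmax' : ∀ X : Subgroup H, F X →
      Cfsg.largestPReducedOf p X₀ ≤ Cfsg.largestPReducedOf p X →
      Cfsg.largestPReducedOf p X₀ = Cfsg.largestPReducedOf p X :=
    fun X hX hle => Subgroup.eq_of_le_of_card_ge hle (hmax ⟨X, hX⟩)
  obtain ⟨hTX₀, hX₀c, hYLX₀, hLX₀⟩ := (hF X₀).mp hX₀
  have hYrr0 := relRed_largestPReducedOf (p := p) X₀
  have hYT0 := largestPReducedOf_le_sylow T X₀ hTX₀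
  obtain ⟨Y, hYdef⟩ : ∃ Y : Subgroup H, Y = Cfsg.largestPReducedOf p X₀ := ⟨_, rfl⟩
  rw [← hYdef] at hmax' hYLX₀ hYrr0 hYT0
  have hYne : Y ≠ ⊥ := by
    intro h0
    apply hYLne
    rw [eq_bot_iff, ← h0]; exact hYLX₀
  have hYp : IsPGroup p ↥Y := T.isPGroup'.to_le hYT0
  have hNC : Subgroup.normalizer (Y : Set H) ≤
      Subgroup.normalizer ((Subgroup.centralizer (Y : Set H) : Subgroup H) : Set H) :=
    Cfsg.Agent.Helper7.normalizer_le_normalizer_centralizer' Y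
  have hsub : (YL : Set H) ⊆ (Y : Set H) := hYLX₀
  have hCle : Subgroup.centralizer (Y : Set H) ≤ Subgroup.centralizer (YL : Set H) :=
    Subgroup.centralizer_le hsub
  obtain ⟨Mt, hMt⟩ : ∃ Mt : Subgroup H, Mt = Subgroup.normalizer (Y : Set H) := ⟨_, rfl⟩
  have hCN : Subgroup.centralizer (Y : Set H) ≤ Mt := by
    rw [hMt]; exact Subgroup.centralizer_le_normalizer (Y : Set H)
  have hX₀Mt : X₀ ≤ Mt := by
    rw [hMt]; exact Subgroup.le_normalizer_iff.mpr hYrr0.2.1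
  have hTMt : (T : Subgroup H) ≤ Mt := hTX₀.trans hX₀Mt
  have hMtc : Mt ∈ Cfsg.charPSubgroups p H :=
    hchar Mt hTMt (pCore_ne_bot_of Mt Y (hYT0.trans hTMt) hMt.le hYp hYne)
  have hMtint := char_of_mem Mt hMtc
  have hY_Mt : Y ≤ Cfsg.largestPReducedOf p Mt := by
    rw [hYdef]; exact largestPReducedOf_mono T X₀ Mt hTX₀ hX₀Mt hMtint
  have hkey : ∀ X' : Subgroup H, X' ∈ Cfsg.charPSubgroups p H → (T : Subgroup H) ≤ X' →
      Y ≤ Cfsg.largestPReducedOf p X' →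
      (∀ l ∈ L, ∃ x ∈ X', ∃ c ∈ Subgroup.centralizer (YL : Set H), l = x * c) →
      Y = Cfsg.largestPReducedOf p X' ∧ X' ≤ Mt := by
    intro X' hX'c hTX' hYX' hfacX'
    have hFX' : F X' := (hF X').mpr ⟨hTX', hX'c, hYLX₀.trans hYX', hfacX'⟩
    have hEq := hmax' X' hFX' hYX'
    refine ⟨hEq, ?_⟩
    rw [hMt, hEq]
    exact le_normalizer_largestPReducedOf X'
  have hYMt_eq : Y = Cfsg.largestPReducedOf p Mt :=
    (hkey Mt hMtc hTMt hY_Mt (fun l hl => by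
      obtain ⟨x, hx, c, hc, e⟩ := hLX₀ l hl
      exact ⟨x, hX₀Mt hx, c, hc, e⟩)).1
  have hMtmax : Mt ∈ Cfsg.maxCharPSubgroups p H := by
    refine ⟨hMtc, fun X' hX'c hle => ?_⟩
    have hX'int := char_of_mem X' hX'c
    have h1 := hkey X' hX'c (hTMt.trans hle)
      (hY_Mt.trans (largestPReducedOf_mono T Mt X' hTMt hle hX'int))
      (fun l hl => by
        obtain ⟨x, hx, c, hc, e⟩ := hLX₀ l hl
        exact ⟨x, hle (hX₀Mt hx), c, hc, e⟩)
    exact le_antisymm h1.2 hle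
  -- the minimal `M`
  haveI hne2 : Nonempty {M' : Subgroup H // (T : Subgroup H) ≤ M' ∧ M' ≤ Mt ∧
      Mt ≤ M' ⊔ Subgroup.centralizer (Y : Set H)} := ⟨⟨Mt, hTMt, le_rfl, le_sup_left⟩⟩
  obtain ⟨⟨M, hMS⟩, hMmin⟩ := Finite.exists_min
    (fun M' : {M' : Subgroup H // (T : Subgroup H) ≤ M' ∧ M' ≤ Mt ∧
      Mt ≤ M' ⊔ Subgroup.centralizer (Y : Set H)} => Nat.card ↥M'.1)
  have hTM : (T : Subgroup H) ≤ M := hMS.1
  have hMMt : M ≤ Mt := hMS.2.1
  have hMtM : Mt ≤ M ⊔ Subgroup.centralizer (Y : Set H) := hMS.2.2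
  have hmin : ∀ M' : Subgroup H, (T : Subgroup H) ≤ M' → M' ≤ M →
      M ≤ M' ⊔ Subgroup.centralizer (Y : Set H) → M ≤ M' := fun M' h1 h2 h3 =>
    (Subgroup.eq_of_le_of_card_ge h2
      (hMmin ⟨M', h1, h2.trans hMMt, hMtM.trans (sup_le h3 le_sup_right)⟩)).ge
  have hMeq : M ⊔ Subgroup.centralizer (Y : Set H) = Mt := le_antisymm (sup_le hMMt hCN) hMtM
  have hYM : Y ≤ M := hYT0.trans hTM
  have hMY : M ≤ Subgroup.normalizer (Y : Set H) := by rw [← hMt]; exact hMMt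
  have hMC : M ≤ Subgroup.normalizer
      ((Subgroup.centralizer (Y : Set H) : Subgroup H) : Set H) := hMY.trans hNC
  have hMCn : ∀ a ∈ M, ∀ b ∈ Subgroup.centralizer (Y : Set H),
      a * b * a⁻¹ ∈ Subgroup.centralizer (Y : Set H) :=
    fun a ha b hb => Cfsg.Agent.Helper7.conj_mem_of_mem_normalizer (hMC ha) hb
  have hMc : M ∈ Cfsg.charPSubgroups p H :=
    hchar M hTM (pCore_ne_bot_of M Y hYM hMY hYp hYne)
  have hMint := char_of_mem M hMc
  have hYMeq : Cfsg.largestPReducedOf p M = Y := by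
    apply le_antisymm
    · exact (largestPReducedOf_mono T M Mt hTM hMMt hMtint).trans hYMt_eq.ge
    · have hrrMt : RelRed p Mt Y := by
        rw [hYMt_eq]; exact relRed_largestPReducedOf Mt
      exact le_largestPReducedOf M Y (relRed_transfer M Mt Y hrrMt
        (hMeq.trans (sup_eq_left.mpr hCN).symm) hYM)
  have hLM : ∀ l ∈ L, ∃ m ∈ M, ∃ c ∈ Subgroup.centralizer (YL : Set H), l = m * c := by
    intro l hl
    obtain ⟨x, hx, c, hc, hxc⟩ := hLX₀ l hl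
    obtain ⟨m, hm, c', hc', hmc⟩ := mem_sup_of_normalizes M (Subgroup.centralizer (Y : Set H))
      hMCn x (hMtM (hX₀Mt hx))
    refine ⟨m, hm, c' * c, Subgroup.mul_mem _ (hCle hc') hc, ?_⟩
    rw [hxc, hmc, mul_assoc]
  have h3 : ∀ X' ∈ Cfsg.maxCharPSubgroups p H, M ≤ X' → X' = Mt := by
    intro X' hX'm hle
    have hX'c : X' ∈ Cfsg.charPSubgroups p H := hX'm.1
    have hX'int := char_of_mem X' hX'c
    have h1 := hkey X' hX'c (hTM.trans hle)
      (hYMeq.ge.trans (largestPReducedOf_mono T M X' hTM hle hX'int))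
      (fun l hl => by
        obtain ⟨m, hm, c, hc, e⟩ := hLM l hl
        exact ⟨m, hle hm, c, hc, e⟩)
    exact (hX'm.2 Mt hMtc h1.2).symm
  have hMT0 : M ≤ Subgroup.normalizer
      ((((T : Subgroup H) ⊓ Subgroup.centralizer (Y : Set H) : Subgroup H)) : Set H) := by
    have h := (Cfsg.Agent.S2824.result T M M hTM hTM hMint hMint _ rfl rfl _ rfl).2
    rw [hYMeq] at h
    have h1 := hmin (M ⊓ Subgroup.normalizer
        ((((T : Subgroup H) ⊓ Subgroup.centralizer (Y : Set H) : Subgroup H)) : Set H))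
      (le_inf hTM (sylow_le_normalizer_inf T _ (hTM.trans hMC))) inf_le_left
      (le_sup_left.trans h.le)
    exact h1.trans inf_le_right
  have h5 := pclosed_part T M (Subgroup.centralizer (Y : Set H)) hTM hMC hMT0
  have h6 := frattini_part T M Y hTM hMY hMT0 hmin
  have hFrak : Cfsg.IsInFrakM p M :=
    isInFrakM_intro M Y Mt hYMeq hMeq hMc hMtmax h3 hYMt_eq h5 h6
  -- the subgroup `L*`
  have hCLN : Subgroup.centralizer (YL : Set H) ≤ Subgroup.normalizer (YL : Set H) :=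
    Subgroup.centralizer_le_normalizer (YL : Set H)
  obtain ⟨M', hM'⟩ : ∃ M' : Subgroup H,
      M' = M ⊓ (L ⊔ Subgroup.centralizer (YL : Set H)) := ⟨_, rfl⟩
  have hTM' : (T : Subgroup H) ≤ M' := by
    rw [hM']; exact le_inf hTM (hTL.trans le_sup_left)
  have hM'N : M' ≤ Subgroup.normalizer (YL : Set H) := by
    rw [hM']; exact inf_le_right.trans (sup_le hLN hCLN)
  have hM'c : M' ∈ Cfsg.charPSubgroups p H :=
    hchar M' hTM' (pCore_ne_bot_of M' YL (hYLT.trans hTM') hM'N hYLp hYLne)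
  have hM'int := char_of_mem M' hM'c
  have hfac : M' ⊔ Subgroup.centralizer (YL : Set H) =
      L ⊔ Subgroup.centralizer (YL : Set H) := by
    rw [hM']
    apply le_antisymm (sup_le inf_le_right le_sup_right)
    apply sup_le ?_ le_sup_right
    intro l hl
    obtain ⟨m, hm, c, hc, hmc⟩ := hLM l hl
    have hmL : m ∈ L ⊔ Subgroup.centralizer (YL : Set H) := by
      have h1 : m = l * c⁻¹ := by rw [hmc]; group
      rw [h1]
      exact Subgroup.mul_mem _ (Subgroup.mem_sup_left hl)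
        (Subgroup.mem_sup_right (Subgroup.inv_mem _ hc))
    rw [hmc]
    exact Subgroup.mul_mem _ (Subgroup.mem_sup_left (Subgroup.mem_inf.mpr ⟨hm, hmL⟩))
      (Subgroup.mem_sup_right hc)
  obtain ⟨T₀, hT₀⟩ : ∃ T₀ : Subgroup H,
      T₀ = (T : Subgroup H) ⊓ Subgroup.centralizer (YL : Set H) := ⟨_, rfl⟩
  obtain ⟨Ls, hLs⟩ : ∃ Ls : Subgroup H,
      Ls = M' ⊓ Subgroup.normalizer ((T₀ : Subgroup H) : Set H) := ⟨_, rfl⟩
  have hres := Cfsg.Agent.S2824.result T L M' hTL hTM' hLint hM'int T₀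
    (by rw [hT₀, hYL]) (by rw [← hYL]; exact hfac) Ls hLs
  rw [← hYL] at hres
  have hTLs : (T : Subgroup H) ≤ Ls := by
    rw [hLs, hT₀]
    exact le_inf hTM' (sylow_le_normalizer_inf T _
      (hTL.trans (hLN.trans (Cfsg.Agent.Helper7.normalizer_le_normalizer_centralizer' YL))))
  have hLsM : Ls ≤ M := by
    rw [hLs, hM']; exact inf_le_left.trans inf_le_left
  have hLsc : Ls ∈ Cfsg.charPSubgroups p H := by
    apply hchar Ls hTLs
    intro h0
    apply hYLne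
    rw [← hres.1, eq_bot_iff]
    have h1 := largestPReducedOf_le_pCoreOf (p := p) Ls
    intro y hy
    have h2 : y ∈ (Cfsg.pCore p ↥Ls).map Ls.subtype := h1 hy
    rw [h0, Subgroup.map_bot] at h2
    exact h2
  exact ⟨M, Ls, hTM, hFrak, hTLs, hLsM, hLsc, hres.1.symm, hYLX₀.trans hYMeq.ge, hres.2⟩

end Cfsg.Agent.Helper9.FrakM
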