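-- helper9: asymmetric Y_M for M in frak M_G(S) with a large subgroup: normalizers of p-subgroups above O_p(M).
import Mathlib
import Cfsg.Agent.Helper9.FrakM
import Cfsg.Agent.Helper14.WeaklyClosed
import Cfsg.Agent.Helper14.PReduced
import Cfsg.Agent.S2838

set_option autoImplicit false

namespace Cfsg.Agent.Helper9.Asym

open Cfsg

/-- Products of exactly `n` elements of `A`. -/
def wordSet {G : Type*} [Group G] (A : Set G) : ℕ → Set G
  | 0 => {1}
  | (n + 1) => {x | ∃ a ∈ A, ∃ w ∈ wordSet A n, x = a * w}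

theorem mem_wordSet_zero {G : Type*} [Group G] (A : Set G) (x : G) :
    x ∈ wordSet A 0 ↔ x = 1 := Iff.rfl

theorem mem_wordSet_succ {G : Type*} [Group G] (A : Set G) (n : ℕ) (x : G) :
    x ∈ wordSet A (n + 1) ↔ ∃ a ∈ A, ∃ w ∈ wordSet A n, x = a * w := Iff.rfl

theorem wordSet_mul_right {G : Type*} [Group G] (A : Set G) :
    ∀ n : ℕ, ∀ w ∈ wordSet A n, ∀ a ∈ A, w * a ∈ wordSet A (n + 1) := by
  intro n
  induction n with
  | zero =>
    intro w hw a ha
    have hw1 : w = 1 := (mem_wordSet_zero A w).mp hw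
    rw [hw1, one_mul]
    exact (mem_wordSet_succ A 0 a).mpr ⟨a, ha, 1, (mem_wordSet_zero A 1).mpr rfl, (mul_one a).symm⟩
  | succ n ih =>
    intro w hw a ha
    obtain ⟨b, hb, w', hw', rfl⟩ := (mem_wordSet_succ A n w).mp hw
    exact (mem_wordSet_succ A (n + 1) _).mpr ⟨b, hb, w' * a, ih w' hw' a ha, mul_assoc b w' a⟩

theorem wordSet_inv {G : Type*} [Group G] (A : Set G) (hA : ∀ a ∈ A, a⁻¹ ∈ A) :
    ∀ n : ℕ, ∀ w ∈ wordSet A n, w⁻¹ ∈ wordSet A n := by
  intro n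
  induction n with
  | zero =>
    intro w hw
    have hw1 : w = 1 := (mem_wordSet_zero A w).mp hw
    rw [hw1, inv_one]; exact (mem_wordSet_zero A 1).mpr rfl
  | succ n ih =>
    intro w hw
    obtain ⟨a, ha, w', hw', rfl⟩ := (mem_wordSet_succ A n w).mp hw
    rw [mul_inv_rev]
    exact wordSet_mul_right A n w'⁻¹ (ih w' hw') a⁻¹ (hA a ha)

theorem wordSet_mul {G : Type*} [Group G] (A : Set G) :
    ∀ n m : ℕ, ∀ x ∈ wordSet A n, ∀ y ∈ wordSet A m, x * y ∈ wordSet A (n + m) := by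
  intro n
  induction n with
  | zero =>
    intro m x hx y hy
    have hx1 : x = 1 := (mem_wordSet_zero A x).mp hx
    rw [hx1, one_mul, Nat.zero_add]; exact hy
  | succ n ih =>
    intro m x hx y hy
    obtain ⟨a, ha, w, hw, rfl⟩ := (mem_wordSet_succ A n x).mp hx
    have h := ih m w hw y hy
    have e : n + 1 + m = (n + m) + 1 := by omega
    rw [e]
    exact (mem_wordSet_succ A (n + m) _).mpr ⟨a, ha, w * y, h, mul_assoc a w y⟩

theorem exists_wordSet_of_mem_closure {G : Type*} [Group G] (A : Set G)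
    (hA : ∀ a ∈ A, a⁻¹ ∈ A) : ∀ x ∈ Subgroup.closure A, ∃ n : ℕ, x ∈ wordSet A n := by
  intro x hx
  induction hx using Subgroup.closure_induction with
  | mem a ha =>
    exact ⟨0 + 1, (mem_wordSet_succ A 0 a).mpr
      ⟨a, ha, 1, (mem_wordSet_zero A 1).mpr rfl, (mul_one a).symm⟩⟩
  | one => exact ⟨0, (mem_wordSet_zero A 1).mpr rfl⟩
  | mul a b _ _ iha ihb =>
    obtain ⟨n, hn⟩ := iha
    obtain ⟨m, hm⟩ := ihb
    exact ⟨n + m, wordSet_mul A n m a hn b hm⟩
  | inv a _ iha =>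
    obtain ⟨n, hn⟩ := iha
    exact ⟨n, wordSet_inv A hA n a hn⟩

/-- Asymmetry: a conjugate of `Y` that normalizes `Y` and is normalized by `Y` centralizes `Y`. -/
theorem asym_comm {G : Type*} [Group G] (Y : Subgroup G) (hasym : ¬ Cfsg.IsSymmetricIn Y) (k : G)
    (h1 : ∀ y ∈ Y, k * y * k⁻¹ ∈ Subgroup.normalizer (Y : Set G))
    (h2 : ∀ y ∈ Y, k⁻¹ * y * k ∈ Subgroup.normalizer (Y : Set G)) :
    ∀ y ∈ Y, k * y * k⁻¹ ∈ Subgroup.centralizer (Y : Set G) := by
  have hsym : ⁅Y, Y.map (MulAut.conj k).toMonoidHom⁆ ≤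
      Y ⊓ Y.map (MulAut.conj k).toMonoidHom := by
    rw [Subgroup.commutator_le]
    intro y hy z hz
    rw [commutatorElement_def, Subgroup.mem_inf]
    have hz' : k⁻¹ * z * k ∈ Y := (Cfsg.Agent.Helper14.mem_map_conj Y k z).mp hz
    constructor
    · have hzN : z ∈ Subgroup.normalizer (Y : Set G) := by
        have h := h1 _ hz'
        have e : k * (k⁻¹ * z * k) * k⁻¹ = z := by group
        rw [e] at h
        exact h
      have h3 : z * y⁻¹ * z⁻¹ ∈ Y :=
        (Subgroup.mem_normalizer_iff.mp hzN y⁻¹).mp (Y.inv_mem hy)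
      have e : y * z * y⁻¹ * z⁻¹ = y * (z * y⁻¹ * z⁻¹) := by group
      rw [e]; exact Y.mul_mem hy h3
    · rw [Cfsg.Agent.Helper14.mem_map_conj]
      have hn : k⁻¹ * y * k ∈ Subgroup.normalizer (Y : Set G) := h2 y hy
      have h3 := (Subgroup.mem_normalizer_iff.mp hn _).mp hz'
      have e : k⁻¹ * (y * z * y⁻¹ * z⁻¹) * k =
          ((k⁻¹ * y * k) * (k⁻¹ * z * k) * (k⁻¹ * y * k)⁻¹) * (k⁻¹ * z * k)⁻¹ := by group
      rw [e]; exact Y.mul_mem h3 (Y.inv_mem hz')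
  have hbot : ⁅Y, Y.map (MulAut.conj k).toMonoidHom⁆ = ⊥ := by
    by_contra hne
    exact hasym ⟨k, hne, hsym⟩
  have hcent := Subgroup.commutator_eq_bot_iff_le_centralizer.mp hbot
  intro y hy
  rw [Subgroup.mem_centralizer_iff]
  intro y' hy'
  exact (Subgroup.mem_centralizer_iff.mp (hcent hy') _
    (Cfsg.Agent.Helper14.conj_mem_map_conj Y k hy)).symm

/-- The word induction: all `⟨M, N_G(L)⟩`-conjugates of `Y` lie in `QM`. -/
theorem conj_mem_of_asym {G : Type*} [Group G] (M Y QM Md L : Subgroup G)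
    (hasym : ¬ Cfsg.IsSymmetricIn Y)
    (hYQ : Y ≤ QM) (hMQ : M ≤ Subgroup.normalizer (QM : Set G))
    (hMdY : Md ≤ Subgroup.normalizer (Y : Set G))
    (hQL : QM ≤ L) (hLMd : L ≤ Md)
    (hLC : L ⊓ Subgroup.centralizer (Y : Set G) ≤ QM) :
    ∀ x ∈ M ⊔ Subgroup.normalizer (L : Set G), ∀ y ∈ Y, x * y * x⁻¹ ∈ QM := by
  obtain ⟨A, hA⟩ : ∃ A : Set G, A = {x | x ∈ M ∨ x ∈ Subgroup.normalizer (L : Set G)} :=
    ⟨_, rfl⟩
  have hAinv : ∀ a ∈ A, a⁻¹ ∈ A := by
    rw [hA]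
    rintro a (ha | ha)
    · exact Or.inl (M.inv_mem ha)
    · exact Or.inr (Subgroup.inv_mem _ ha)
  have hstep : ∀ a ∈ A, ∀ q ∈ QM, a * q * a⁻¹ ∈ L := by
    rw [hA]
    rintro a (ha | ha) q hq
    · exact hQL (Cfsg.Agent.Helper7.conj_mem_of_mem_normalizer (hMQ ha) hq)
    · exact Cfsg.Agent.Helper7.conj_mem_of_mem_normalizer ha (hQL hq)
  have hword : ∀ n : ℕ, ∀ x ∈ wordSet A n, ∀ y ∈ Y, x * y * x⁻¹ ∈ QM := by
    intro n
    induction n with
    | zero =>
      intro x hx y hy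
      have hx1 : x = 1 := (mem_wordSet_zero A x).mp hx
      have e : x * y * x⁻¹ = y := by rw [hx1]; group
      rw [e]; exact hYQ hy
    | succ n ih =>
      intro x hx y hy
      have hxi := wordSet_inv A hAinv (n + 1) x hx
      obtain ⟨a, ha, w, hw, hxw⟩ := (mem_wordSet_succ A n x).mp hx
      obtain ⟨b, hb, w', hw', hxw'⟩ := (mem_wordSet_succ A n x⁻¹).mp hxi
      have h1 : ∀ y' ∈ Y, x * y' * x⁻¹ ∈ L := by
        intro y' hy'
        have e : x * y' * x⁻¹ = a * (w * y' * w⁻¹) * a⁻¹ := by rw [hxw]; group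
        rw [e]; exact hstep a ha _ (ih w hw y' hy')
      have h2 : ∀ y' ∈ Y, x⁻¹ * y' * x ∈ L := by
        intro y' hy'
        have e : x⁻¹ * y' * x = b * (w' * y' * w'⁻¹) * b⁻¹ := by
          calc x⁻¹ * y' * x = x⁻¹ * y' * (x⁻¹)⁻¹ := by rw [inv_inv]
            _ = (b * w') * y' * (b * w')⁻¹ := by rw [hxw']
            _ = b * (w' * y' * w'⁻¹) * b⁻¹ := by group
        rw [e]; exact hstep b hb _ (ih w' hw' y' hy')
      have h3 := asym_comm Y hasym x (fun y' hy' => hMdY (hLMd (h1 y' hy')))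
        (fun y' hy' => hMdY (hLMd (h2 y' hy'))) y hy
      exact hLC (Subgroup.mem_inf.mpr ⟨h1 y hy, h3⟩)
  intro x hx y hy
  have hx' : x ∈ Subgroup.closure A := by
    have h : M ⊔ Subgroup.normalizer (L : Set G) ≤ Subgroup.closure A := by
      apply sup_le
      · intro m hm
        apply Subgroup.subset_closure
        rw [hA]; exact Or.inl hm
      · intro m hm
        apply Subgroup.subset_closure
        rw [hA]; exact Or.inr hm
    exact h hx
  obtain ⟨n, hn⟩ := exists_wordSet_of_mem_closure A hAinv x hx'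
  exact hword n x hn y hy

/-- The asymmetric case, abstract form. -/
theorem core {G : Type*} [Group G] [Finite G] {p : ℕ} [Fact p.Prime] (S : Sylow p G)
    (M Y QM : Subgroup G) (hSM : (S : Subgroup G) ≤ M)
    (hasym : ¬ Cfsg.IsSymmetricIn Y) (hYne : Y ≠ ⊥) (hYQ : Y ≤ QM)
    (hMY : M ≤ Subgroup.normalizer (Y : Set G))
    (hMQ : M ≤ Subgroup.normalizer (QM : Set G))
    (hQS : QM ≤ (S : Subgroup G))
    (hQC : QM ≤ Subgroup.centralizer (Y : Set G))
    (hSC : (S : Subgroup G) ⊓ Subgroup.centralizer (Y : Set G) ≤ QM)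
    (hsyl : ∃ P : Sylow p ↥(Subgroup.centralizer (Y : Set G)),
      (P : Subgroup ↥(Subgroup.centralizer (Y : Set G))) =
        ((S : Subgroup G) ⊓ Subgroup.centralizer (Y : Set G)).subgroupOf
          (Subgroup.centralizer (Y : Set G)))
    (hU : ∀ K : Subgroup G, M ≤ K → Cfsg.pCore p ↥K ≠ ⊥ →
      K ≤ M ⊔ Subgroup.centralizer (Y : Set G)) :
    (∀ L : Subgroup G, IsPGroup p ↥L → QM ≤ L →
        Subgroup.normalizer (L : Set G) ≤ Subgroup.normalizer (QM : Set G) ∧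
        Subgroup.normalizer (QM : Set G) ≤ M ⊔ Subgroup.centralizer (Y : Set G)) ∧
      Cfsg.IsWeaklyClosedSubgroup p QM ∧
      (∀ L : Subgroup G, QM ≤ L → Cfsg.IsParabolic p
        ((L ⊓ (M ⊔ Subgroup.centralizer (Y : Set G))).subgroupOf L)) ∧
      (∀ x ∈ Y, ∀ g : G, g * x * g⁻¹ ∈ Y → ∃ m ∈ M, m * x * m⁻¹ = g * x * g⁻¹) := by
  classical
  obtain ⟨C, hC⟩ : ∃ C : Subgroup G, C = Subgroup.centralizer (Y : Set G) := ⟨_, rfl⟩
  rw [← hC] at hQC hSC hsyl hU ⊢
  obtain ⟨Md, hMd⟩ : ∃ Md : Subgroup G, Md = M ⊔ C := ⟨_, rfl⟩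
  rw [← hMd] at hU ⊢
  have hQMp : IsPGroup p ↥QM := S.isPGroup'.to_le hQS
  have hQMne : QM ≠ ⊥ := by
    intro h0; apply hYne; rw [eq_bot_iff, ← h0]; exact hYQ
  have hCN : C ≤ Subgroup.normalizer (Y : Set G) := by
    rw [hC]; exact Subgroup.centralizer_le_normalizer (Y : Set G)
  have hMdY : Md ≤ Subgroup.normalizer (Y : Set G) := by
    rw [hMd]; exact sup_le hMY hCN
  have hMdC : Md ≤ Subgroup.normalizer (C : Set G) := by
    rw [hC]; exact hMdY.trans (Cfsg.Agent.Helper7.normalizer_le_normalizer_centralizer' Y)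
  have hP5 : ∀ L : Subgroup G, IsPGroup p ↥L → QM ≤ L → L ⊓ C ≤ QM := by
    intro L hL hQL
    obtain ⟨P, hP⟩ := hsyl
    have hA : IsPGroup p ↥((L ⊓ C).subgroupOf C) := (hL.to_le inf_le_left).comap_subtype
    have hPA : (P : Subgroup ↥C) ≤ (L ⊓ C).subgroupOf C := by
      rw [hP]
      intro x hx
      have hx' : (x : G) ∈ (S : Subgroup G) ⊓ C := hx
      exact Subgroup.mem_inf.mpr ⟨hQL (hSC hx'), x.2⟩
    have hEq := P.is_maximal' hA hPA
    intro x hx
    have hx1 : (⟨x, (Subgroup.mem_inf.mp hx).2⟩ : ↥C) ∈ (L ⊓ C).subgroupOf C := hx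
    rw [hEq, hP] at hx1
    exact hSC hx1
  have h1a : ∀ L : Subgroup G, IsPGroup p ↥L → QM ≤ L → L ≤ Md →
      Subgroup.normalizer (L : Set G) ≤ Md ∧
      Subgroup.normalizer (L : Set G) ≤ Subgroup.normalizer (QM : Set G) := by
    intro L hL hQL hLMd
    have hLC : L ⊓ Subgroup.centralizer (Y : Set G) ≤ QM := by
      rw [← hC]; exact hP5 L hL hQL
    have hword := conj_mem_of_asym M Y QM Md L hasym hYQ hMQ hMdY hQL hLMd hLC
    obtain ⟨H, hH⟩ : ∃ H : Subgroup G, H = M ⊔ Subgroup.normalizer (L : Set G) := ⟨_, rfl⟩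
    rw [← hH] at hword
    obtain ⟨V, hV⟩ : ∃ V : Subgroup G,
        V = Subgroup.closure {z : G | ∃ x ∈ H, ∃ y ∈ Y, z = x * y * x⁻¹} := ⟨_, rfl⟩
    have hVQ : V ≤ QM := by
      rw [hV, Subgroup.closure_le]
      rintro _ ⟨x, hx, y, hy, rfl⟩
      exact hword x hx y hy
    have hMH : M ≤ H := by rw [hH]; exact le_sup_left
    have hVH : V ≤ H := by
      rw [hV, Subgroup.closure_le]
      rintro _ ⟨x, hx, y, hy, rfl⟩
      exact H.mul_mem (H.mul_mem hx (hMH (hSM (hQS (hYQ hy))))) (H.inv_mem hx)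
    have hYV : Y ≤ V := by
      intro y hy
      rw [hV]
      apply Subgroup.subset_closure
      exact ⟨1, H.one_mem, y, hy, by group⟩
    have hHV : H ≤ Subgroup.normalizer (V : Set G) := by
      apply Cfsg.Agent.Helper7.le_normalizer_of_conj_mem
      intro k hk v hv
      rw [hV] at hv ⊢
      induction hv using Subgroup.closure_induction with
      | mem z hz =>
        obtain ⟨x, hx, y, hy, rfl⟩ := hz
        apply Subgroup.subset_closure
        exact ⟨k * x, H.mul_mem hk hx, y, hy, by group⟩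
      | one =>
        have e : k * 1 * k⁻¹ = 1 := by group
        rw [e]; exact Subgroup.one_mem _
      | mul a b _ _ iha ihb =>
        have e : k * (a * b) * k⁻¹ = (k * a * k⁻¹) * (k * b * k⁻¹) := by group
        rw [e]; exact Subgroup.mul_mem _ iha ihb
      | inv a _ iha =>
        have e : k * a⁻¹ * k⁻¹ = (k * a * k⁻¹)⁻¹ := by group
        rw [e]; exact Subgroup.inv_mem _ iha
    have hVne : V ≠ ⊥ := by
      intro h0; apply hYne; rw [eq_bot_iff, ← h0]; exact hYV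
    have hHne : Cfsg.pCore p ↥H ≠ ⊥ :=
      Cfsg.Agent.Helper9.FrakM.pCore_ne_bot_of H V hVH hHV (hQMp.to_le hVQ) hVne
    have hHMd : H ≤ Md := hU H hMH hHne
    have hNMd : Subgroup.normalizer (L : Set G) ≤ Md := by
      refine le_trans ?_ hHMd
      rw [hH]; exact le_sup_right
    refine ⟨hNMd, ?_⟩
    apply Cfsg.Agent.Helper7.le_normalizer_of_conj_mem
    intro n hn q hq
    apply hP5 L hL hQL
    exact Subgroup.mem_inf.mpr ⟨Cfsg.Agent.Helper7.conj_mem_of_mem_normalizer hn (hQL hq),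
      Cfsg.Agent.Helper7.conj_mem_of_mem_normalizer (hMdC (hNMd hn)) (hQC hq)⟩
  have hNQ : Subgroup.normalizer (QM : Set G) ≤ Md := by
    apply hU _ hMQ
    exact Cfsg.Agent.Helper9.FrakM.pCore_ne_bot_of _ QM Subgroup.le_normalizer le_rfl hQMp hQMne
  have h1b : ∀ L : Subgroup G, IsPGroup p ↥L → QM ≤ L →
      L ≤ Subgroup.normalizer (QM : Set G) := by
    intro L hL hQL
    obtain ⟨L₁, hL₁⟩ : ∃ L₁ : Subgroup G, L₁ = L ⊓ Subgroup.normalizer (QM : Set G) :=
      ⟨_, rfl⟩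
    have hL₁L : L₁ ≤ L := by rw [hL₁]; exact inf_le_left
    have hQL₁ : QM ≤ L₁ := by rw [hL₁]; exact le_inf hQL Subgroup.le_normalizer
    have hL₁Md : L₁ ≤ Md := by rw [hL₁]; exact inf_le_right.trans hNQ
    have hN₁ := (h1a L₁ (hL.to_le hL₁L) hQL₁ hL₁Md).2
    have hLL₁ : L ≤ L₁ := by
      haveI hnil : Group.IsNilpotent ↥L := hL.isNilpotent
      have hnc := (normalizerCondition_iff_only_full_group_self_normalizing (G := ↥L)).mp
        Group.normalizerCondition_of_isNilpotent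
      have hself : Subgroup.normalizer ((L₁.subgroupOf L : Subgroup ↥L) : Set ↥L) =
          L₁.subgroupOf L := by
        refine le_antisymm ?_ Subgroup.le_normalizer
        intro x hxN
        have hxN' : (x : G) ∈ Subgroup.normalizer (L₁ : Set G) := by
          apply mem_normalizer_of_conj_le
          intro z hz
          have hz' : (⟨z, hL₁L hz⟩ : ↥L) ∈ L₁.subgroupOf L := hz
          have h2 := (Subgroup.mem_normalizer_iff.mp hxN ⟨z, hL₁L hz⟩).mp hz'
          exact h2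
        have hx2 : (x : G) ∈ L ⊓ Subgroup.normalizer (QM : Set G) :=
          Subgroup.mem_inf.mpr ⟨x.2, hN₁ hxN'⟩
        rw [← hL₁] at hx2
        exact hx2
      have htop := hnc _ hself
      intro x hx
      have hx' : (⟨x, hx⟩ : ↥L) ∈ L₁.subgroupOf L := by rw [htop]; exact Subgroup.mem_top _
      exact hx'
    have hL₁N : L₁ ≤ Subgroup.normalizer (QM : Set G) := by rw [hL₁]; exact inf_le_right
    exact hLL₁.trans hL₁N
  have hpart1 : ∀ L : Subgroup G, IsPGroup p ↥L → QM ≤ L →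
      Subgroup.normalizer (L : Set G) ≤ Subgroup.normalizer (QM : Set G) ∧
      Subgroup.normalizer (QM : Set G) ≤ Md := by
    intro L hL hQL
    exact ⟨(h1a L hL hQL ((h1b L hL hQL).trans hNQ)).2, hNQ⟩
  have hwc : Cfsg.IsWeaklyClosedSubgroup p QM :=
    (Cfsg.Agent.S2838.result QM hQMp hQMne).2.mpr (fun R hR hQR => (hpart1 R hR hQR).1)
  have hWC := Cfsg.Agent.Helper14.wc'_of_isWeaklyClosedSubgroup hwc
  have hpart3 : ∀ L : Subgroup G, QM ≤ L → Cfsg.IsParabolic p ((L ⊓ Md).subgroupOf L) := by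
    intro L hQL
    obtain ⟨T, hT⟩ := (hQMp.comap_subtype (K := L)).exists_le_sylow
    refine ⟨T, ?_⟩
    have hPp : IsPGroup p ↥((T : Subgroup ↥L).map L.subtype) := T.isPGroup'.map _
    have hQP : QM ≤ (T : Subgroup ↥L).map L.subtype := by
      intro q hq
      have hq' : (⟨q, hQL hq⟩ : ↥L) ∈ (T : Subgroup ↥L) := hT hq
      exact ⟨⟨q, hQL hq⟩, hq', rfl⟩
    have hPN := (h1b _ hPp hQP).trans hNQ
    intro t ht
    have ht' : (t : G) ∈ (T : Subgroup ↥L).map L.subtype := ⟨t, ht, rfl⟩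
    exact Subgroup.mem_inf.mpr ⟨t.2, hPN ht'⟩
  have hpart4 : ∀ x ∈ Y, ∀ g : G, g * x * g⁻¹ ∈ Y →
      ∃ m ∈ M, m * x * m⁻¹ = g * x * g⁻¹ := by
    intro x hx g hgx
    obtain ⟨K, hK⟩ : ∃ K : Subgroup G,
        K = Subgroup.centralizer ({g * x * g⁻¹} : Set G) := ⟨_, rfl⟩
    have hQK : QM ≤ K := by
      intro q hq
      rw [hK, Subgroup.mem_centralizer_iff]
      intro z hz
      have hz1 : z = g * x * g⁻¹ := hz
      rw [hz1]
      have hqC : q ∈ Subgroup.centralizer (Y : Set G) := by rw [← hC]; exact hQC hq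
      exact Subgroup.mem_centralizer_iff.mp hqC _ hgx
    have hgK : QM.map (MulAut.conj g).toMonoidHom ≤ K := by
      intro z hz
      rw [Cfsg.Agent.Helper14.mem_map_conj] at hz
      have hqC : g⁻¹ * z * g ∈ Subgroup.centralizer (Y : Set G) := by rw [← hC]; exact hQC hz
      have h1 := Subgroup.mem_centralizer_iff.mp hqC x hx
      rw [hK, Subgroup.mem_centralizer_iff]
      intro w hw
      have hw1 : w = g * x * g⁻¹ := hw
      rw [hw1]
      calc g * x * g⁻¹ * z = g * (x * (g⁻¹ * z * g)) * g⁻¹ := by group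
        _ = g * ((g⁻¹ * z * g) * x) * g⁻¹ := by rw [h1]
        _ = z * (g * x * g⁻¹) := by group
    obtain ⟨k, hk, hkeq⟩ := Cfsg.Agent.Helper14.wc'_conj_in_subgroup hQMp hWC K hQK g hgK
    have hn : k⁻¹ * g ∈ Subgroup.normalizer (QM : Set G) := by
      apply mem_normalizer_of_conj_le
      intro q hq
      have h1 : g * q * g⁻¹ ∈ QM.map (MulAut.conj k).toMonoidHom := by
        rw [← hkeq, Cfsg.Agent.Helper14.mem_map_conj]
        have e : g⁻¹ * (g * q * g⁻¹) * g = q := by group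
        rw [e]; exact hq
      rw [Cfsg.Agent.Helper14.mem_map_conj] at h1
      have e : k⁻¹ * g * q * (k⁻¹ * g)⁻¹ = k⁻¹ * (g * q * g⁻¹) * k := by group
      rw [e]; exact h1
    have hnMd : k⁻¹ * g ∈ M ⊔ C := by rw [← hMd]; exact hNQ hn
    have hMCn : ∀ a ∈ M, ∀ b ∈ C, a * b * a⁻¹ ∈ C := fun a ha b hb =>
      Cfsg.Agent.Helper7.conj_mem_of_mem_normalizer
        (hMdC (by rw [hMd]; exact Subgroup.mem_sup_left ha)) hb
    obtain ⟨m, hm, c, hc, hmc⟩ := mem_sup_of_normalizes M C hMCn _ hnMd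
    refine ⟨m, hm, ?_⟩
    have hcx : c * x * c⁻¹ = x := by
      have hcC : c ∈ Subgroup.centralizer (Y : Set G) := by rw [← hC]; exact hc
      have h1 := Subgroup.mem_centralizer_iff.mp hcC x hx
      rw [← h1]; group
    have hkx : k⁻¹ * (g * x * g⁻¹) * k = g * x * g⁻¹ := by
      have hk' : k ∈ Subgroup.centralizer ({g * x * g⁻¹} : Set G) := by rw [← hK]; exact hk
      have h1 := Subgroup.mem_centralizer_iff.mp hk' (g * x * g⁻¹) (Set.mem_singleton _)
      calc k⁻¹ * (g * x * g⁻¹) * k = k⁻¹ * ((g * x * g⁻¹) * k) := by group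
        _ = k⁻¹ * (k * (g * x * g⁻¹)) := by rw [h1]
        _ = g * x * g⁻¹ := by group
    calc m * x * m⁻¹ = m * (c * x * c⁻¹) * m⁻¹ := by rw [hcx]
      _ = (m * c) * x * (m * c)⁻¹ := by group
      _ = (k⁻¹ * g) * x * (k⁻¹ * g)⁻¹ := by rw [hmc]
      _ = k⁻¹ * (g * x * g⁻¹) * k := by group
      _ = g * x * g⁻¹ := hkx
  exact ⟨hpart1, hwc, hpart3, hpart4⟩

/-- The asymmetric case for `M ∈ 𝔐_G(S)` with a large subgroup `Q ≤ S`. -/
theorem main {G : Type*} [Group G] [Finite G] {p : ℕ} [Fact p.Prime] (S : Sylow p G)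
    (Q : Subgroup G) (hQp : IsPGroup p ↥Q) (hQ1 : Q ≠ ⊥) (hQ : Cfsg.IsLarge Q)
    (M : Subgroup G) (hSM : (S : Subgroup G) ≤ M) (hM : Cfsg.IsInFrakM p M)
    (hasym : ¬ Cfsg.IsSymmetricIn (Cfsg.largestPReducedOf p M)) :
    (∀ L : Subgroup G, IsPGroup p ↥L → (Cfsg.pCoreOf p M) ≤ L →
        Subgroup.normalizer ((L : Subgroup G) : Set G) ≤
          Subgroup.normalizer (((Cfsg.pCoreOf p M) : Subgroup G) : Set G) ∧
        Subgroup.normalizer (((Cfsg.pCoreOf p M) : Subgroup G) : Set G) ≤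
          (M ⊔ Subgroup.centralizer (((Cfsg.largestPReducedOf p M) : Subgroup G) : Set G))) ∧
      Cfsg.IsWeaklyClosedSubgroup p (Cfsg.pCoreOf p M) ∧
      (∀ L : Subgroup G, (Cfsg.pCoreOf p M) ≤ L → Cfsg.IsParabolic p
        ((L ⊓ (M ⊔ Subgroup.centralizer
          (((Cfsg.largestPReducedOf p M) : Subgroup G) : Set G))).subgroupOf L)) ∧
      (∀ x ∈ (Cfsg.largestPReducedOf p M), ∀ g : G,
        g * x * g⁻¹ ∈ (Cfsg.largestPReducedOf p M) → ∃ m ∈ M, m * x * m⁻¹ = g * x * g⁻¹) := by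
  obtain ⟨hMc, hMdmax, hMduniq, hYMd, hcl, hfrat⟩ := hM
  have hMint := Cfsg.Agent.Helper9.FrakM.char_of_mem M hMc
  have hpar := Cfsg.Agent.Helper7.large_parabolic Q hQp hQ1 hQ
  have hchar : ∀ X : Subgroup G, (S : Subgroup G) ≤ X → Cfsg.pCore p ↥X ≠ ⊥ →
      X ∈ Cfsg.charPSubgroups p G :=
    fun X hSX hne => (Cfsg.Agent.Helper9.FrakM.mem_charP_iff X).mpr
      ⟨hne, hpar.2.1 X ⟨S, hSX⟩ hne⟩
  have hMY := Cfsg.Agent.Helper9.FrakM.le_normalizer_largestPReducedOf (p := p) M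
  have hMC : M ≤ Subgroup.normalizer ((Subgroup.centralizer
      ((Cfsg.largestPReducedOf p M : Subgroup G) : Set G) : Subgroup G) : Set G) :=
    hMY.trans (Cfsg.Agent.Helper7.normalizer_le_normalizer_centralizer' _)
  have hSC : (S : Subgroup G) ⊓ Subgroup.centralizer
      ((Cfsg.largestPReducedOf p M : Subgroup G) : Set G) ≤ Cfsg.pCoreOf p M := by
    intro x hx
    rw [Subgroup.mem_inf] at hx
    obtain ⟨a, ha⟩ := S.isPGroup' ⟨x, hx.1⟩
    have ha' : x ^ p ^ a = 1 := congrArg Subtype.val ha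
    exact Cfsg.Agent.Helper14.pelement_mem_pCoreOf_of_isPClosed M _ hMC hcl x (hSM hx.1)
      hx.2 a ha'
  have hU : ∀ K : Subgroup G, M ≤ K → Cfsg.pCore p ↥K ≠ ⊥ →
      K ≤ M ⊔ Subgroup.centralizer ((Cfsg.largestPReducedOf p M : Subgroup G) : Set G) := by
    intro K hMK hKne
    have hKc := hchar K (hSM.trans hMK) hKne
    haveI hne : Nonempty {X : Subgroup G // X ∈ Cfsg.charPSubgroups p G ∧ K ≤ X} :=
      ⟨⟨K, hKc, le_rfl⟩⟩
    obtain ⟨⟨X, hX⟩, hmax⟩ := Finite.exists_max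
      (fun X : {X : Subgroup G // X ∈ Cfsg.charPSubgroups p G ∧ K ≤ X} => Nat.card ↥X.1)
    have hXmax : X ∈ Cfsg.maxCharPSubgroups p G := by
      refine ⟨hX.1, fun X' hX'c hle => ?_⟩
      exact (Subgroup.eq_of_le_of_card_ge hle (hmax ⟨X', hX'c, hX.2.trans hle⟩)).symm
    have hXeq := hMduniq X hXmax (hMK.trans hX.2)
    rw [← hXeq]; exact hX.2
  exact core S M (Cfsg.largestPReducedOf p M) (Cfsg.pCoreOf p M) hSM hasym
    (Cfsg.Agent.Helper9.FrakM.largestPReducedOf_ne_bot S M hSM hMint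
      ((Cfsg.Agent.Helper9.FrakM.mem_charP_iff M).mp hMc).1)
    (largestPReducedOf_le_pCoreOf M) hMY
    (Cfsg.Agent.Helper7.le_normalizer_map_subtype (Cfsg.pCore p ↥M))
    (pCoreOf_le_sylow S M hSM)
    (Cfsg.Agent.Helper14.pCoreOf_le_centralizer_largestPReducedOf p M)
    hSC (Cfsg.Agent.S2821.result S M hSM hMint _ rfl).1 hU

end Cfsg.Agent.Helper9.Asym
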