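-- helper9: Burnside-type coprime action on A/A' and the criterion Y ≤ O_p(L) from [Y, A] ≤ [I, A].
import Mathlib
import Cfsg.Agent.Helper9.Asym
import Cfsg.Agent.Helper23.FixedLift
import Cfsg.Agent.Helper14.PIrred
import Cfsg.Agent.Helper14.Subnormal
import Cfsg.Agent.S0012

set_option autoImplicit false

namespace Cfsg.Agent.Helper9.Burn

open Cfsg

theorem conj_mem_commutator_self {G : Type*} [Group G] (A : Subgroup G) (l : G)
    (hl : l ∈ Subgroup.normalizer (A : Set G)) (c : G) (hc : c ∈ ⁅A, A⁆) :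
    l * c * l⁻¹ ∈ ⁅A, A⁆ := by
  have h1 : l * c * l⁻¹ ∈ (⁅A, A⁆).map (MulAut.conj l).toMonoidHom :=
    Cfsg.Agent.Helper14.conj_mem_map_conj _ l hc
  rw [Subgroup.map_commutator,
    Cfsg.Agent.Helper7.map_conj_eq_self_of_mem_normalizer A hl] at h1
  exact h1

/-- A `q`-group acting trivially on `A/A'` (`A` a `p`-group, `q ≠ p`) centralizes `A`. -/
theorem le_centralizer_of_qgroup {G : Type*} [Group G] [Finite G] {p q : ℕ} [Fact p.Prime]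
    [Fact q.Prime] (hqp : q ≠ p) (A P : Subgroup G) (hA : IsPGroup p ↥A) (hP : IsPGroup q ↥P)
    (hPA : P ≤ Subgroup.normalizer (A : Set G))
    (hact : ∀ c ∈ P, ∀ a ∈ A, c * a * c⁻¹ * a⁻¹ ∈ ⁅A, A⁆) :
    A ≤ Subgroup.centralizer (P : Set G) := by
  have hNA : ⁅A, A⁆ ≤ A := by
    rw [Subgroup.commutator_le]
    intro a ha b hb
    rw [commutatorElement_def]
    exact A.mul_mem (A.mul_mem (A.mul_mem ha hb) (A.inv_mem ha)) (A.inv_mem hb)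
  have hNp : IsPGroup p ↥(⁅A, A⁆) := hA.to_le hNA
  have hNq : ¬ q ∣ Nat.card ↥(⁅A, A⁆) := by
    obtain ⟨n, hn⟩ := IsPGroup.iff_card.mp hNp
    rw [hn]
    intro hdvd
    have h1 := (Fact.out : q.Prime).dvd_of_dvd_pow hdvd
    exact hqp ((Nat.prime_dvd_prime_iff_eq (Fact.out : q.Prime) (Fact.out : p.Prime)).mp h1)
  have hlift : ∀ a ∈ A, ∃ n ∈ ⁅A, A⁆, ∀ c ∈ P, c * (a * n) = (a * n) * c := by
    intro a ha
    apply Cfsg.Agent.Helper23.exists_fixed_lift_gen (⁅A, A⁆) hNq P hP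
    · intro c hc n hn
      exact conj_mem_commutator_self A c (hPA hc) n hn
    · intro c hc
      have h1 := hact c hc a ha
      have e : a⁻¹ * c * a * c⁻¹ = a⁻¹ * (c * a * c⁻¹ * a⁻¹) * a⁻¹⁻¹ := by group
      rw [e]
      exact conj_mem_commutator_self A a⁻¹ (Subgroup.le_normalizer (A.inv_mem ha)) _ h1
  obtain ⟨K, hK⟩ : ∃ K : Subgroup ↥A,
      K = (A ⊓ Subgroup.centralizer (P : Set G)).subgroupOf A := ⟨_, rfl⟩
  have hcomm : ∀ c ∈ ⁅A, A⁆, ∃ c' : ↥A, c' ∈ commutator ↥A ∧ (c' : G) = c := by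
    intro c hc
    have h1 : (commutator ↥A).map A.subtype = ⁅A, A⁆ := by
      rw [commutator_def, Subgroup.map_commutator, ← MonoidHom.range_eq_map,
        Subgroup.range_subtype]
    rw [← h1] at hc
    obtain ⟨c', hc', hce⟩ := hc
    exact ⟨c', hc', hce⟩
  have hfr := (Cfsg.Agent.S0012.result p hA).1
  have hsup : K ⊔ frattini ↥A = ⊤ := by
    rw [eq_top_iff]
    intro a _
    obtain ⟨n, hn, hcent⟩ := hlift a.1 a.2
    obtain ⟨n', hn', hn'e⟩ := hcomm n hn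
    have h1 : a * n' ∈ K := by
      rw [hK]
      show ((a * n' : ↥A) : G) ∈ A ⊓ Subgroup.centralizer (P : Set G)
      refine Subgroup.mem_inf.mpr ⟨(a * n').2, ?_⟩
      rw [Subgroup.mem_centralizer_iff]
      intro c hc
      have h2 := hcent c hc
      show c * ((a : G) * (n' : G)) = (a : G) * (n' : G) * c
      rw [hn'e]; exact h2
    have h3 : a = (a * n') * n'⁻¹ := by group
    rw [h3]
    exact Subgroup.mul_mem _ (Subgroup.mem_sup_left h1)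
      (Subgroup.mem_sup_right (Subgroup.inv_mem _ (hfr hn')))
  have hKtop : K = ⊤ := frattini_nongenerating hsup
  intro a ha
  have h1 : (⟨a, ha⟩ : ↥A) ∈ K := by rw [hKtop]; exact Subgroup.mem_top _
  rw [hK] at h1
  exact (Subgroup.mem_inf.mp h1).2

/-- `p'`-elements acting trivially on `A/A'` centralize the `p`-group `A`. -/
theorem mem_centralizer_of_coprime {G : Type*} [Group G] [Finite G] {p : ℕ} [Fact p.Prime]
    (A K : Subgroup G) (hA : IsPGroup p ↥A) (hKA : K ≤ Subgroup.normalizer (A : Set G))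
    (hact : ∀ c ∈ K, ∀ a ∈ A, c * a * c⁻¹ * a⁻¹ ∈ ⁅A, A⁆) :
    ∀ n : ℕ, n.Coprime p → ∀ x ∈ K, x ^ n = 1 → x ∈ Subgroup.centralizer (A : Set G) := by
  intro n
  induction n using Nat.strong_induction_on with
  | _ n ih =>
    intro hnp x hxK hxn
    have hp := (Fact.out : p.Prime)
    by_cases hn1 : n = 1
    · rw [hn1, pow_one] at hxn
      rw [hxn]; exact Subgroup.one_mem _
    have hpn : ¬ p ∣ n := (Nat.Prime.coprime_iff_not_dvd hp).mp hnp.symm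
    have hn0 : n ≠ 0 := by
      intro h0
      apply hpn
      rw [h0]; exact dvd_zero p
    obtain ⟨q, hq, hqn⟩ := Nat.exists_prime_and_dvd hn1
    haveI : Fact q.Prime := ⟨hq⟩
    have hqp : q ≠ p := by
      intro h
      rw [h] at hqn
      exact hpn hqn
    obtain ⟨e, m, hm, hnem⟩ := Nat.exists_eq_pow_mul_and_not_dvd hn0 q hq.ne_one
    have he : e ≠ 0 := by
      intro h0
      rw [h0, pow_zero, one_mul] at hnem
      rw [hnem] at hqn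
      exact hm hqn
    have hqe : 2 ≤ q ^ e := hq.two_le.trans (Nat.le_self_pow he q)
    have hm0 : 0 < m := by
      apply Nat.pos_of_ne_zero
      intro h0
      apply hn0
      rw [hnem, h0, mul_zero]
    have hmlt : m < n := by
      have h2 := Nat.mul_le_mul_right m hqe
      rw [hnem]
      nlinarith [h2, hm0]
    have hmp : m.Coprime p := Nat.Coprime.coprime_dvd_left (Dvd.intro_left (q ^ e) hnem.symm) hnp
    have hx1 : (x ^ m) ^ (q ^ e) = 1 := by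
      rw [← pow_mul, mul_comm, ← hnem]; exact hxn
    have hx2 : (x ^ (q ^ e)) ^ m = 1 := by
      rw [← pow_mul, ← hnem]; exact hxn
    have h2 := ih m hmlt hmp (x ^ (q ^ e)) (K.pow_mem hxK _) hx2
    have hP : IsPGroup q ↥(Subgroup.zpowers (x ^ m)) :=
      Cfsg.Agent.Helper14.isPGroup_zpowers_of_pow (x ^ m) e hx1
    have hPK : Subgroup.zpowers (x ^ m) ≤ K := Subgroup.zpowers_le.mpr (K.pow_mem hxK _)
    have h1c := le_centralizer_of_qgroup hqp A (Subgroup.zpowers (x ^ m)) hA hP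
      (hPK.trans hKA) (fun c hc => hact c (hPK hc))
    have h1 : x ^ m ∈ Subgroup.centralizer (A : Set G) := by
      rw [Subgroup.mem_centralizer_iff]
      intro a ha
      exact (Subgroup.mem_centralizer_iff.mp (h1c ha) (x ^ m) (Subgroup.mem_zpowers _)).symm
    have hcop : Nat.Coprime m (q ^ e) :=
      (Nat.Coprime.pow_left e ((Nat.Prime.coprime_iff_not_dvd hq).mpr hm)).symm
    obtain ⟨u, v, huv⟩ : ∃ u v : ℤ, (1 : ℤ) = (m : ℤ) * u + ((q ^ e : ℕ) : ℤ) * v := by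
      have h := Nat.gcd_eq_gcd_ab m (q ^ e)
      rw [hcop.gcd_eq_one, Nat.cast_one] at h
      exact ⟨_, _, h⟩
    have hx : x = (x ^ m) ^ u * (x ^ (q ^ e)) ^ v := by
      calc x = x ^ (1 : ℤ) := (zpow_one x).symm
        _ = x ^ ((m : ℤ) * u + ((q ^ e : ℕ) : ℤ) * v) := by rw [← huv]
        _ = (x ^ m) ^ u * (x ^ (q ^ e)) ^ v := by
          rw [zpow_add, zpow_mul, zpow_mul, zpow_natCast, zpow_natCast]
    rw [hx]
    exact Subgroup.mul_mem _ (Subgroup.zpow_mem _ h1 _) (Subgroup.zpow_mem _ h2 _)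

/-- Uniqueness of `M†` among overgroups of `M` with nontrivial `O_p`. -/
theorem le_dagger {G : Type*} [Group G] [Finite G] {p : ℕ} [Fact p.Prime] (S : Sylow p G)
    (Q : Subgroup G) (hQp : IsPGroup p ↥Q) (hQ1 : Q ≠ ⊥) (hQ : Cfsg.IsLarge Q)
    (M : Subgroup G) (hSM : (S : Subgroup G) ≤ M) (hM : Cfsg.IsInFrakM p M)
    (K : Subgroup G) (hMK : M ≤ K) (hKne : Cfsg.pCore p ↥K ≠ ⊥) :
    K ≤ M ⊔ Subgroup.centralizer ((Cfsg.largestPReducedOf p M : Subgroup G) : Set G) := by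
  obtain ⟨hMc, hMdmax, hMduniq, hYMd, hcl, hfrat⟩ := hM
  have hpar := Cfsg.Agent.Helper7.large_parabolic Q hQp hQ1 hQ
  have hKc : K ∈ Cfsg.charPSubgroups p G :=
    (Cfsg.Agent.Helper9.FrakM.mem_charP_iff K).mpr ⟨hKne, hpar.2.1 K ⟨S, hSM.trans hMK⟩ hKne⟩
  haveI hne : Nonempty {X : Subgroup G // X ∈ Cfsg.charPSubgroups p G ∧ K ≤ X} :=
    ⟨⟨K, hKc, le_rfl⟩⟩
  obtain ⟨⟨X, hX⟩, hmax⟩ := Finite.exists_max
    (fun X : {X : Subgroup G // X ∈ Cfsg.charPSubgroups p G ∧ K ≤ X} => Nat.card ↥X.1)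
  have hXmax : X ∈ Cfsg.maxCharPSubgroups p G := by
    refine ⟨hX.1, fun X' hX'c hle => ?_⟩
    exact (Subgroup.eq_of_le_of_card_ge hle (hmax ⟨X', hX'c, hX.2.trans hle⟩)).symm
  have hXeq := hMduniq X hXmax (hMK.trans hX.2)
  rw [← hXeq]; exact hX.2

/-- `Y ≤ O_p(L)` from `[Y, A] ≤ [I, A]`, abstract form. -/
theorem pcore_of_comm {G : Type*} [Group G] [Finite G] {p : ℕ} [Fact p.Prime]
    (Md Qd I Y L A : Subgroup G)
    (hQdp : IsPGroup p ↥Qd) (hMdQ : Md ≤ Subgroup.normalizer (Qd : Set G))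
    (hIMd : Subgroup.normalizer (I : Set G) ≤ Md)
    (hY : Y ≤ Qd) (hYL : Y ≤ L)
    (hAp : IsPGroup p ↥A) (hLA : L ≤ Subgroup.normalizer (A : Set G))
    (hIA : I ≤ A) (hc : ⁅Y, A⁆ ≤ ⁅I, A⁆) :
    Y ≤ Cfsg.pCoreOf p L := by
  classical
  obtain ⟨L₀, hL₀⟩ : ∃ L₀ : Subgroup G,
      L₀ = Subgroup.closure {z : G | ∃ l ∈ L, ∃ y ∈ Y, z = l * y * l⁻¹} := ⟨_, rfl⟩
  have hL₀L : L₀ ≤ L := by
    rw [hL₀, Subgroup.closure_le]
    rintro _ ⟨l, hl, y, hy, rfl⟩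
    exact L.mul_mem (L.mul_mem hl (hYL hy)) (L.inv_mem hl)
  have hYL₀ : Y ≤ L₀ := by
    intro y hy
    rw [hL₀]
    apply Subgroup.subset_closure
    exact ⟨1, L.one_mem, y, hy, by group⟩
  have hind : ∀ (P : G → Prop), (∀ l ∈ L, ∀ y ∈ Y, P (l * y * l⁻¹)) → P 1 →
      (∀ a b, a ∈ L₀ → b ∈ L₀ → P a → P b → P (a * b)) → (∀ a, a ∈ L₀ → P a → P a⁻¹) →
      ∀ g ∈ L₀, P g := by
    intro P hgen h1 hmul hinv g hg
    rw [hL₀] at hg
    induction hg using Subgroup.closure_induction with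
    | mem z hz =>
      obtain ⟨l, hl, y, hy, rfl⟩ := hz
      exact hgen l hl y hy
    | one => exact h1
    | mul a b ha hb iha ihb =>
      exact hmul a b (by rw [hL₀]; exact ha) (by rw [hL₀]; exact hb) iha ihb
    | inv a ha iha => exact hinv a (by rw [hL₀]; exact ha) iha
  have hLL₀ : L ≤ Subgroup.normalizer (L₀ : Set G) := by
    apply Cfsg.Agent.Helper7.le_normalizer_of_conj_mem
    intro k hk v hv
    refine hind (fun v => k * v * k⁻¹ ∈ L₀) ?_ ?_ ?_ ?_ v hv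
    · intro l hl y hy
      show k * (l * y * l⁻¹) * k⁻¹ ∈ L₀
      rw [hL₀]
      apply Subgroup.subset_closure
      exact ⟨k * l, L.mul_mem hk hl, y, hy, by group⟩
    · show k * 1 * k⁻¹ ∈ L₀
      have e : k * 1 * k⁻¹ = 1 := by group
      rw [e]; exact Subgroup.one_mem _
    · intro a b _ _ iha ihb
      show k * (a * b) * k⁻¹ ∈ L₀
      have e : k * (a * b) * k⁻¹ = (k * a * k⁻¹) * (k * b * k⁻¹) := by group
      rw [e]; exact Subgroup.mul_mem _ iha ihb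
    · intro a _ iha
      show k * a⁻¹ * k⁻¹ ∈ L₀
      have e : k * a⁻¹ * k⁻¹ = (k * a * k⁻¹)⁻¹ := by group
      rw [e]; exact Subgroup.inv_mem _ iha
  -- action on A / A'
  have hIAc : ⁅I, A⁆ ≤ ⁅A, A⁆ := Subgroup.commutator_mono hIA le_rfl
  have hact : ∀ g ∈ L₀, ∀ a ∈ A, g * a * g⁻¹ * a⁻¹ ∈ ⁅A, A⁆ := by
    intro g hg
    refine hind (fun g => ∀ a ∈ A, g * a * g⁻¹ * a⁻¹ ∈ ⁅A, A⁆) ?_ ?_ ?_ ?_ g hg
    · intro l hl y hy a ha
      show l * y * l⁻¹ * a * (l * y * l⁻¹)⁻¹ * a⁻¹ ∈ ⁅A, A⁆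
      have ha' : l⁻¹ * a * l ∈ A := by
        have h := Cfsg.Agent.Helper7.conj_mem_of_mem_normalizer (hLA (L.inv_mem hl)) ha
        rw [inv_inv] at h; exact h
      have h1 : y * (l⁻¹ * a * l) * y⁻¹ * (l⁻¹ * a * l)⁻¹ ∈ ⁅A, A⁆ := by
        apply hIAc; apply hc
        have h2 := Subgroup.commutator_mem_commutator hy ha'
        rw [commutatorElement_def] at h2
        exact h2
      have e : l * y * l⁻¹ * a * (l * y * l⁻¹)⁻¹ * a⁻¹ =
          l * (y * (l⁻¹ * a * l) * y⁻¹ * (l⁻¹ * a * l)⁻¹) * l⁻¹ := by group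
      rw [e]
      exact conj_mem_commutator_self A l (hLA hl) _ h1
    · intro a ha
      show (1 : G) * a * 1⁻¹ * a⁻¹ ∈ ⁅A, A⁆
      have e : (1 : G) * a * 1⁻¹ * a⁻¹ = 1 := by group
      rw [e]; exact Subgroup.one_mem _
    · intro g h hg hh ihg ihh a ha
      show g * h * a * (g * h)⁻¹ * a⁻¹ ∈ ⁅A, A⁆
      have e : g * h * a * (g * h)⁻¹ * a⁻¹ =
          (g * (h * a * h⁻¹ * a⁻¹) * g⁻¹) * (g * a * g⁻¹ * a⁻¹) := by group
      rw [e]
      exact Subgroup.mul_mem _ (conj_mem_commutator_self A g (hLA (hL₀L hg)) _ (ihh a ha))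
        (ihg a ha)
    · intro g hg ihg a ha
      show g⁻¹ * a * g⁻¹⁻¹ * a⁻¹ ∈ ⁅A, A⁆
      have e : g⁻¹ * a * g⁻¹⁻¹ * a⁻¹ = g⁻¹ * (g * a * g⁻¹ * a⁻¹)⁻¹ * g⁻¹⁻¹ := by group
      rw [e]
      exact conj_mem_commutator_self A g⁻¹ (hLA (L.inv_mem (hL₀L hg))) _
        (Subgroup.inv_mem _ (ihg a ha))
  have hcop : ∀ x ∈ L₀, (orderOf x).Coprime p → x ∈ Subgroup.centralizer (A : Set G) :=
    fun x hx hxo => mem_centralizer_of_coprime A L₀ hAp (hL₀L.trans hLA) hact (orderOf x) hxo x hx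
      (pow_orderOf_eq_one x)
  have hCMd : Subgroup.centralizer (A : Set G) ≤ Md := by
    have hsub : (I : Set G) ⊆ (A : Set G) := hIA
    exact (Subgroup.centralizer_le hsub).trans
      ((Subgroup.centralizer_le_normalizer (I : Set G)).trans hIMd)
  obtain ⟨D, hD⟩ : ∃ D : Subgroup G, D = L₀ ⊓ Subgroup.centralizer (A : Set G) := ⟨_, rfl⟩
  have hDL₀ : D ≤ L₀ := by rw [hD]; exact inf_le_left
  have hDMd : D ≤ Md := by rw [hD]; exact inf_le_right.trans hCMd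
  have hLCA : L ≤ Subgroup.normalizer
      ((Subgroup.centralizer (A : Set G) : Subgroup G) : Set G) :=
    hLA.trans (Cfsg.Agent.Helper7.normalizer_le_normalizer_centralizer' A)
  have hLD : L ≤ Subgroup.normalizer (D : Set G) := by
    rw [hD]
    apply Cfsg.Agent.Helper7.le_normalizer_of_conj_mem
    intro k hk d hd
    exact Subgroup.mem_inf.mpr
      ⟨Cfsg.Agent.Helper7.conj_mem_of_mem_normalizer (hLL₀ hk) (Subgroup.mem_inf.mp hd).1,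
        Cfsg.Agent.Helper7.conj_mem_of_mem_normalizer (hLCA hk) (Subgroup.mem_inf.mp hd).2⟩
  have hW : D ⊓ Qd ≤ Cfsg.pCoreOf p D := by
    apply Cfsg.Agent.Helper7.le_pCoreOf_of_normal_pgroup p (D ⊓ Qd) D inf_le_left
    · apply Cfsg.Agent.Helper7.le_normalizer_of_conj_mem
      intro d hd w hw
      exact Subgroup.mem_inf.mpr
        ⟨D.mul_mem (D.mul_mem hd (Subgroup.mem_inf.mp hw).1) (D.inv_mem hd),
          Cfsg.Agent.Helper7.conj_mem_of_mem_normalizer (hMdQ (hDMd hd))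
            (Subgroup.mem_inf.mp hw).2⟩
    · exact hQdp.to_le inf_le_right
  have hRD : Cfsg.pCoreOf p D ≤ Cfsg.pCoreOf p L₀ :=
    Cfsg.Agent.Helper14.pCoreOf_le_pCoreOf_of_le_normalizer p D L₀ hDL₀ (hL₀L.trans hLD)
  have hgenR : ∀ d ∈ D, ∀ l ∈ L, ∀ y ∈ Y,
      d * (l * y * l⁻¹) * d⁻¹ * (l * y * l⁻¹)⁻¹ ∈ Cfsg.pCoreOf p L₀ := by
    intro d hd l hl y hy
    have hd' : l⁻¹ * d * l ∈ D := by
      have h := Cfsg.Agent.Helper7.conj_mem_of_mem_normalizer (hLD (L.inv_mem hl)) hd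
      rw [inv_inv] at h; exact h
    have h1 : (l⁻¹ * d * l) * y * (l⁻¹ * d * l)⁻¹ * y⁻¹ ∈ D ⊓ Qd := by
      refine Subgroup.mem_inf.mpr ⟨?_, ?_⟩
      · have h2 : y * (l⁻¹ * d * l)⁻¹ * y⁻¹ ∈ D :=
          Cfsg.Agent.Helper7.conj_mem_of_mem_normalizer (hLD (hYL hy)) (D.inv_mem hd')
        have e : (l⁻¹ * d * l) * y * (l⁻¹ * d * l)⁻¹ * y⁻¹ =
            (l⁻¹ * d * l) * (y * (l⁻¹ * d * l)⁻¹ * y⁻¹) := by group
        rw [e]; exact D.mul_mem hd' h2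
      · have h2 : (l⁻¹ * d * l) * y * (l⁻¹ * d * l)⁻¹ ∈ Qd :=
          Cfsg.Agent.Helper7.conj_mem_of_mem_normalizer (hMdQ (hDMd hd')) (hY hy)
        exact Qd.mul_mem h2 (Qd.inv_mem (hY hy))
    have h3 : l * ((l⁻¹ * d * l) * y * (l⁻¹ * d * l)⁻¹ * y⁻¹) * l⁻¹ ∈ Cfsg.pCoreOf p D :=
      Cfsg.Agent.Helper14.pCoreOf_map_conj_le p D l (hLD hl)
        (Cfsg.Agent.Helper14.conj_mem_map_conj _ l (hW h1))
    have e : d * (l * y * l⁻¹) * d⁻¹ * (l * y * l⁻¹)⁻¹ =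
        l * ((l⁻¹ * d * l) * y * (l⁻¹ * d * l)⁻¹ * y⁻¹) * l⁻¹ := by group
    rw [e]; exact hRD h3
  have hL₀R : L₀ ≤ Subgroup.normalizer ((Cfsg.pCoreOf p L₀ : Subgroup G) : Set G) :=
    Cfsg.Agent.Helper7.le_normalizer_map_subtype (Cfsg.pCore p ↥L₀)
  have hDR : ∀ d ∈ D, ∀ g ∈ L₀, d * g * d⁻¹ * g⁻¹ ∈ Cfsg.pCoreOf p L₀ := by
    intro d hd g hg
    refine hind (fun g => d * g * d⁻¹ * g⁻¹ ∈ Cfsg.pCoreOf p L₀) ?_ ?_ ?_ ?_ g hg
    · intro l hl y hy; exact hgenR d hd l hl y hy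
    · show d * 1 * d⁻¹ * (1 : G)⁻¹ ∈ Cfsg.pCoreOf p L₀
      have e : d * 1 * d⁻¹ * (1 : G)⁻¹ = 1 := by group
      rw [e]; exact Subgroup.one_mem _
    · intro a b ha hb iha ihb
      show d * (a * b) * d⁻¹ * (a * b)⁻¹ ∈ Cfsg.pCoreOf p L₀
      have e : d * (a * b) * d⁻¹ * (a * b)⁻¹ =
          (d * a * d⁻¹ * a⁻¹) * (a * (d * b * d⁻¹ * b⁻¹) * a⁻¹) := by group
      rw [e]
      exact Subgroup.mul_mem _ iha (Cfsg.Agent.Helper7.conj_mem_of_mem_normalizer (hL₀R ha) ihb)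
    · intro a ha iha
      show d * a⁻¹ * d⁻¹ * a⁻¹⁻¹ ∈ Cfsg.pCoreOf p L₀
      have e : d * a⁻¹ * d⁻¹ * a⁻¹⁻¹ = a⁻¹ * (d * a * d⁻¹ * a⁻¹)⁻¹ * a⁻¹⁻¹ := by group
      rw [e]
      exact Cfsg.Agent.Helper7.conj_mem_of_mem_normalizer (hL₀R (L₀.inv_mem ha))
        (Subgroup.inv_mem _ iha)
  -- a normal Sylow subgroup of L₀
  obtain ⟨T⟩ : Nonempty (Sylow p ↥L₀) := inferInstance
  have hRT : Cfsg.pCore p ↥L₀ ≤ (T : Subgroup ↥L₀) := Cfsg.Agent.Helper14.pCore_le_sylow T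
  have hEle : ∀ r : ↥L₀, r ∈ Cfsg.pResidual p ↥L₀ → (r : G) ∈ D := by
    intro r hr
    have h1 : (r : G) ∈ (Cfsg.pResidual p ↥L₀).map L₀.subtype := ⟨r, hr, rfl⟩
    rw [Cfsg.Agent.Helper14.map_pResidual_eq_closure] at h1
    have hle : Subgroup.closure {x : G | x ∈ L₀ ∧ Nat.Coprime (orderOf x) p} ≤ D := by
      rw [Subgroup.closure_le]
      rintro x ⟨hx, hxo⟩
      rw [hD]
      exact Subgroup.mem_inf.mpr ⟨hx, hcop x hx hxo⟩
    exact hle h1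
  have hTn : (T : Subgroup ↥L₀).Normal := by
    refine ⟨fun t ht g => ?_⟩
    haveI := Cfsg.Agent.Helper6.pResidual_normal p ↥L₀
    have hmem : g ∈ Cfsg.pResidual p ↥L₀ ⊔ (T : Subgroup ↥L₀) := by
      rw [Cfsg.Agent.Helper14.pResidual_sup_sylow T]; exact Subgroup.mem_top _
    obtain ⟨r₀, hr₀, t₀, ht₀, rfl⟩ := Cfsg.Agent.Helper14.exists_mul_of_mem_sup_normal _ _ hmem
    have ht' : t₀ * t * t₀⁻¹ ∈ (T : Subgroup ↥L₀) :=
      Subgroup.mul_mem _ (Subgroup.mul_mem _ ht₀ ht) (Subgroup.inv_mem _ ht₀)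
    have hcomm : r₀ * (t₀ * t * t₀⁻¹) * r₀⁻¹ * (t₀ * t * t₀⁻¹)⁻¹ ∈ Cfsg.pCore p ↥L₀ := by
      have h1 := hDR (r₀ : G) (hEle r₀ hr₀) ((t₀ * t * t₀⁻¹ : ↥L₀) : G) (t₀ * t * t₀⁻¹).2
      have h2 : ((r₀ * (t₀ * t * t₀⁻¹) * r₀⁻¹ * (t₀ * t * t₀⁻¹)⁻¹ : ↥L₀) : G) ∈
          (Cfsg.pCore p ↥L₀).map L₀.subtype := h1
      obtain ⟨w, hw, hwe⟩ := h2
      have h3 : w = r₀ * (t₀ * t * t₀⁻¹) * r₀⁻¹ * (t₀ * t * t₀⁻¹)⁻¹ := Subtype.ext hwe
      rw [← h3]; exact hw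
    have e : r₀ * t₀ * t * (r₀ * t₀)⁻¹ =
        (r₀ * (t₀ * t * t₀⁻¹) * r₀⁻¹ * (t₀ * t * t₀⁻¹)⁻¹) * (t₀ * t * t₀⁻¹) := by group
    rw [e]
    exact Subgroup.mul_mem _ (hRT hcomm) ht'
  haveI := Sylow.unique_of_normal T hTn
  have hYT : ∀ y ∈ Y, y ∈ Cfsg.pCoreOf p L₀ := by
    intro y hy
    have hYp : IsPGroup p ↥(Y.subgroupOf L₀) := (hQdp.to_le hY).comap_subtype
    obtain ⟨T', hT'⟩ := hYp.exists_le_sylow
    have hTT : T' = T := Subsingleton.elim _ _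
    rw [hTT] at hT'
    have h1 : (⟨y, hYL₀ hy⟩ : ↥L₀) ∈ (T : Subgroup ↥L₀) := hT' hy
    have h2 : (T : Subgroup ↥L₀) ≤ Cfsg.pCore p ↥L₀ :=
      Cfsg.Agent.Helper1.le_pCore hTn T.isPGroup'
    show y ∈ (Cfsg.pCore p ↥L₀).map L₀.subtype
    exact ⟨⟨y, hYL₀ hy⟩, h2 h1, rfl⟩
  intro y hy
  exact Cfsg.Agent.Helper14.pCoreOf_le_pCoreOf_of_le_normalizer p L₀ L hL₀L hLL₀ (hYT y hy)

end Cfsg.Agent.Helper9.Burn
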