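import Mathlib
import Cfsg.Prelude.Def_Transfer
import Cfsg.Agent.Helper23.QP5

/-!
# Piece E for S3767: from an extraspecial group with a cyclic group of automorphisms to a symplectic
`ZMod p`-module with an isometry.
-/

set_option autoImplicit false

namespace Cfsg.Agent.Helper9.ESE

open scoped commutatorElement

universe u

/-- conjugation by a normalizing element -/
def cj {G : Type u} [Group G] (P : Subgroup G) (e : G) (he : e ∈ Subgroup.normalizer (P : Set G)) :
    ↥P ≃* ↥P where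
  toFun a := ⟨e * a.1 * e⁻¹, (Subgroup.mem_normalizer_iff.1 he a.1).1 a.2⟩
  invFun a := ⟨e⁻¹ * a.1 * e, by
    have h := (Subgroup.mem_normalizer_iff.1 (Subgroup.inv_mem _ he) a.1).1 a.2
    simpa using h⟩
  left_inv a := Subtype.ext (by simp [mul_assoc])
  right_inv a := Subtype.ext (by simp [mul_assoc])
  map_mul' a b := Subtype.ext (by simp [mul_assoc])

theorem cj_apply {G : Type u} [Group G] (P : Subgroup G) (e : G)
    (he : e ∈ Subgroup.normalizer (P : Set G)) (a : ↥P) :
    ((cj P e he a : ↥P) : G) = e * a.1 * e⁻¹ := rfl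

theorem comm_mul_right {K : Type*} [Group K] (a b b' : K)
    (hc : ∀ g : K, g * ⁅a, b'⁆ = ⁅a, b'⁆ * g) : ⁅a, b * b'⁆ = ⁅a, b⁆ * ⁅a, b'⁆ := by
  have h1 : ⁅a, b * b'⁆ = a * b * a⁻¹ * ⁅a, b'⁆ * b⁻¹ := by
    simp only [commutatorElement_def]; group
  rw [h1, mul_assoc, ← hc b⁻¹]
  simp only [commutatorElement_def]; group

theorem comm_mul_left {K : Type*} [Group K] (a a' b : K)
    (hc : ∀ g : K, g * ⁅a', b⁆ = ⁅a', b⁆ * g) : ⁅a * a', b⁆ = ⁅a, b⁆ * ⁅a', b⁆ := by
  have h1 : ⁅a * a', b⁆ = a * ⁅a', b⁆ * b * a⁻¹ * b⁻¹ := by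
    simp only [commutatorElement_def]; group
  rw [h1, hc a, hc ⁅a, b⁆]
  simp only [commutatorElement_def]; group

theorem pack' {A : Type u} [CommGroup A] {p : ℕ} [Fact p.Prime]
    {V : Type u} [AddCommGroup V] [Module (ZMod p) V] (e : A ≃ V) (he : ∀ a b, e (a * b) = e a + e b)
    (β : A →* A →* Multiplicative (ZMod p)) (σ : A ≃* A) :
    ∃ (B : V →ₗ[ZMod p] V →ₗ[ZMod p] ZMod p) (x : V ≃ₗ[ZMod p] V),
      (∀ a b, B (e a) (e b) = Multiplicative.toAdd (β a b)) ∧ (∀ a, x (e a) = e (σ a)) := by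
  have he1 : e 1 = 0 := by
    have h := he 1 1
    rw [mul_one] at h
    exact (add_eq_left.mp h.symm)
  have hes : ∀ u v : V, e.symm (u + v) = e.symm u * e.symm v := by
    intro u v
    apply e.injective
    rw [he, e.apply_symm_apply, e.apply_symm_apply, e.apply_symm_apply]
  let B₁ : V → (V →+ ZMod p) := fun u =>
    AddMonoidHom.mk' (fun v => Multiplicative.toAdd (β (e.symm u) (e.symm v)))
      (fun v v' => by
        show Multiplicative.toAdd (β (e.symm u) (e.symm (v + v'))) = _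
        rw [hes, map_mul]; rfl)
  let B₂ : V →+ (V →+ ZMod p) :=
    AddMonoidHom.mk' B₁
      (fun u u' => by
        apply AddMonoidHom.ext
        intro v
        show Multiplicative.toAdd (β (e.symm (u + u')) (e.symm v)) =
          Multiplicative.toAdd (β (e.symm u) (e.symm v)) +
          Multiplicative.toAdd (β (e.symm u') (e.symm v))
        rw [hes, map_mul]; rfl)
  let f : V →+ V := AddMonoidHom.mk' (fun v => e (σ (e.symm v))) (fun u v => by
    show e (σ (e.symm (u + v))) = e (σ (e.symm u)) + e (σ (e.symm v))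
    rw [hes, map_mul, he])
  have hfinj : Function.Injective (f.toZModLinearMap p) := by
    intro a b hab
    have h1 : e (σ (e.symm a)) = e (σ (e.symm b)) := hab
    exact e.symm.injective (σ.injective (e.injective h1))
  have hfsurj : Function.Surjective (f.toZModLinearMap p) := by
    intro b
    refine ⟨e (σ.symm (e.symm b)), ?_⟩
    show e (σ (e.symm (e (σ.symm (e.symm b))))) = b
    rw [e.symm_apply_apply, σ.apply_symm_apply, e.apply_symm_apply]
  refine ⟨LinearMap.mk₂ (ZMod p) (fun u v => B₂ u v)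
      (fun m₁ m₂ n => by rw [map_add]; rfl)
      (fun c m n => ZMod.map_smul ((AddMonoidHom.eval n).comp B₂) c m)
      (fun m n₁ n₂ => map_add _ _ _)
      (fun c m n => ZMod.map_smul (B₂ m) c n),
    LinearEquiv.ofBijective (f.toZModLinearMap p) ⟨hfinj, hfsurj⟩, ?_, ?_⟩
  · intro a b
    show Multiplicative.toAdd (β (e.symm (e a)) (e.symm (e b))) = _
    rw [e.symm_apply_apply, e.symm_apply_apply]
  · intro a
    show e (σ (e.symm (e a))) = e (σ a)
    rw [e.symm_apply_apply]

/-- packaging a finite abelian group of exponent `p` with a bimultiplicative map and an automorphism as a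
`ZMod p`-module with a bilinear form and a linear automorphism -/
theorem pack {A : Type u} [CommGroup A] [Finite A] {p : ℕ} [Fact p.Prime] (hexp : ∀ a : A, a ^ p = 1)
    (β : A →* A →* Multiplicative (ZMod p)) (σ : A ≃* A) :
    ∃ (V : Type u) (_ : AddCommGroup V) (_ : Module (ZMod p) V) (_ : Finite V)
      (B : V →ₗ[ZMod p] V →ₗ[ZMod p] ZMod p) (x : V ≃ₗ[ZMod p] V) (e : A ≃ V),
      (∀ a b, B (e a) (e b) = Multiplicative.toAdd (β a b)) ∧ (∀ a, x (e a) = e (σ a)) ∧ e 1 = 0 := by
  have hexpV : ∀ v : Additive A, p • v = 0 := fun v => hexp (Additive.toMul v)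
  obtain ⟨B, x, h1, h2⟩ := @pack' A _ p _ (Additive A) _ (AddCommGroup.zmodModule hexpV)
    Additive.ofMul (fun a b => rfl) β σ
  exact ⟨Additive A, inferInstance, AddCommGroup.zmodModule hexpV, inferInstance, B, x,
    Additive.ofMul, h1, h2, rfl⟩

theorem transl {G : Type u} [Group G] [Finite G] {p : ℕ} [Fact p.Prime] (P H : Subgroup G)
    (hP : Cfsg.IsExtraspecial p ↥P) (n : ℕ) (hn : Nat.card P = p ^ (2 * n + 1)) (hH : IsCyclic H)
    (hcop : (Nat.card H).Coprime p) (hHP : H ≤ Subgroup.normalizer (P : Set G))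
    (hfix : ∀ x ∈ H, x ≠ 1 → P ⊓ Subgroup.centralizer {x} = (Subgroup.center ↥P).map P.subtype) :
    ∃ (V : Type u) (_ : AddCommGroup V) (_ : Module (ZMod p) V) (_ : Finite V)
      (B : V →ₗ[ZMod p] V →ₗ[ZMod p] ZMod p) (x : V ≃ₗ[ZMod p] V),
      (∀ v, B v v = 0) ∧ (∀ u, (∀ v, B u v = 0) → u = 0) ∧ (∀ u v, B (x u) (x v) = B u v) ∧
      x ^ (Nat.card H) = 1 ∧
      (∀ i, 0 < i → i < Nat.card H → ∀ v, (x ^ i) v = v → v = 0) ∧ Nat.card V = p ^ (2 * n) := by
  classical
  have hp : p.Prime := Fact.out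
  obtain ⟨⟨hPp, hfrat, hcomm⟩, hZcard⟩ := hP
  have hcc : ∀ a b : ↥P, ⁅a, b⁆ ∈ Subgroup.center ↥P := by
    intro a b
    rw [← hcomm, commutator_def]
    exact Subgroup.commutator_mem_commutator (Subgroup.mem_top a) (Subgroup.mem_top b)
  have hcen : ∀ a b g : ↥P, g * ⁅a, b⁆ = ⁅a, b⁆ * g := fun a b g =>
    Subgroup.mem_center_iff.mp (hcc a b) g
  have hcardM : Nat.card (Multiplicative (ZMod p)) = p := by
    rw [Nat.card_eq_fintype_card, Fintype.card_multiplicative, ZMod.card]
  obtain ⟨ψ, -⟩ : ∃ ψ : ↥(Subgroup.center ↥P) ≃* Multiplicative (ZMod p), True :=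
    ⟨mulEquivOfPrimeCardEq hZcard hcardM, trivial⟩
  -- the commutator pairing on the abelianization
  obtain ⟨β, hβ⟩ : ∃ β : Abelianization ↥P →* Abelianization ↥P →* Multiplicative (ZMod p),
      ∀ a b : ↥P, β (Abelianization.of a) (Abelianization.of b) = ψ ⟨⁅a, b⁆, hcc a b⟩ := by
    let cHom : ↥P → (↥P →* Multiplicative (ZMod p)) := fun a =>
      { toFun := fun b => ψ ⟨⁅a, b⁆, hcc a b⟩
        map_one' := by
          have h1 : (⟨⁅a, (1 : ↥P)⁆, hcc a 1⟩ : ↥(Subgroup.center ↥P)) = 1 :=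
            Subtype.ext (by simp)
          rw [h1, map_one]
        map_mul' := fun b b' => by
          have h1 : (⟨⁅a, b * b'⁆, hcc a (b * b')⟩ : ↥(Subgroup.center ↥P)) =
              ⟨⁅a, b⁆, hcc a b⟩ * ⟨⁅a, b'⁆, hcc a b'⟩ :=
            Subtype.ext (comm_mul_right a b b' (hcen a b'))
          rw [h1, map_mul] }
    let B1 : ↥P →* (Abelianization ↥P →* Multiplicative (ZMod p)) :=
      { toFun := fun a => Abelianization.lift (cHom a)
        map_one' := by
          apply Abelianization.hom_ext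
          apply MonoidHom.ext
          intro b
          rw [MonoidHom.comp_apply, Abelianization.lift_apply_of, MonoidHom.comp_apply,
            MonoidHom.one_apply]
          show ψ ⟨⁅(1 : ↥P), b⁆, hcc 1 b⟩ = 1
          have h1 : (⟨⁅(1 : ↥P), b⁆, hcc 1 b⟩ : ↥(Subgroup.center ↥P)) = 1 :=
            Subtype.ext (by simp)
          rw [h1, map_one]
        map_mul' := fun a a' => by
          apply Abelianization.hom_ext
          apply MonoidHom.ext
          intro b
          rw [MonoidHom.comp_apply, Abelianization.lift_apply_of, MonoidHom.comp_apply,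
            MonoidHom.mul_apply, Abelianization.lift_apply_of, Abelianization.lift_apply_of]
          show ψ ⟨⁅a * a', b⁆, hcc (a * a') b⟩ = ψ ⟨⁅a, b⁆, hcc a b⟩ * ψ ⟨⁅a', b⁆, hcc a' b⟩
          have h1 : (⟨⁅a * a', b⁆, hcc (a * a') b⟩ : ↥(Subgroup.center ↥P)) =
              ⟨⁅a, b⁆, hcc a b⟩ * ⟨⁅a', b⁆, hcc a' b⟩ :=
            Subtype.ext (comm_mul_left a a' b (hcen a' b))
          rw [h1, map_mul] }
    refine ⟨Abelianization.lift B1, fun a b => ?_⟩
    rw [Abelianization.lift_apply_of]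
    show Abelianization.lift (cHom a) (Abelianization.of b) = _
    rw [Abelianization.lift_apply_of]
    rfl
  have hsurj : ∀ q : Abelianization ↥P, ∃ a : ↥P, Abelianization.of a = q :=
    fun q => QuotientGroup.mk_surjective q
  have hof1 : ∀ a : ↥P, Abelianization.of a = 1 ↔ a ∈ Subgroup.center ↥P := by
    intro a
    rw [← hcomm, ← Abelianization.ker_of, MonoidHom.mem_ker]
  have hexp : ∀ q : Abelianization ↥P, q ^ p = 1 := by
    intro q
    obtain ⟨a, rfl⟩ := hsurj q
    rw [← map_pow, hof1, ← hfrat]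
    exact Cfsg.Agent.Helper23.QP.pow_mem_frattini hPp a
  -- the generator
  obtain ⟨g, hg⟩ := hH.exists_generator
  have hgord : orderOf g = Nat.card H := orderOf_eq_card_of_forall_mem_zpowers hg
  have gN : (g : G) ∈ Subgroup.normalizer (P : Set G) := hHP g.2
  have gNi : ∀ i : ℕ, (g : G) ^ i ∈ Subgroup.normalizer (P : Set G) := fun i => pow_mem gN i
  -- elements of H centralize the centre of P
  have hyZ : ∀ y ∈ H, ∀ z : ↥P, z ∈ Subgroup.center ↥P → y * (z : G) * y⁻¹ = (z : G) := by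
    intro y hy z hz
    by_cases hy1 : y = 1
    · rw [hy1]; simp
    · have h1 := hfix y hy hy1
      have h2 : (z : G) ∈ (Subgroup.center ↥P).map P.subtype := ⟨z, hz, rfl⟩
      rw [← h1] at h2
      have h3 := Subgroup.mem_centralizer_iff.mp h2.2 y (Set.mem_singleton y)
      rw [h3, mul_inv_cancel_right]
  obtain ⟨V, iV1, iV2, iV3, B, x, e, hB, hxe, he1⟩ :=
    pack hexp β (cj P (g : G) gN).abelianizationCongr
  have hVsurj : ∀ v : V, ∃ a : ↥P, e (Abelianization.of a) = v := by
    intro v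
    obtain ⟨q, hq⟩ := e.surjective v
    obtain ⟨a, ha⟩ := hsurj q
    exact ⟨a, by rw [ha, hq]⟩
  have hxa : ∀ a : ↥P, x (e (Abelianization.of a)) = e (Abelianization.of (cj P (g : G) gN a)) := by
    intro a
    rw [hxe]
    rfl
  have hxi : ∀ (i : ℕ) (a : ↥P),
      (x ^ i) (e (Abelianization.of a)) = e (Abelianization.of (cj P ((g : G) ^ i) (gNi i) a)) := by
    intro i
    induction i with
    | zero =>
      intro a
      rw [pow_zero]
      have h1 : cj P ((g : G) ^ 0) (gNi 0) a = a := Subtype.ext (by rw [cj_apply]; simp)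
      rw [h1]
      rfl
    | succ i ih =>
      intro a
      rw [pow_succ']
      show x ((x ^ i) (e (Abelianization.of a))) = _
      rw [ih, hxa]
      have h1 : cj P (g : G) gN (cj P ((g : G) ^ i) (gNi i) a) = cj P ((g : G) ^ (i + 1)) (gNi (i + 1)) a :=
        Subtype.ext (by rw [cj_apply, cj_apply, cj_apply, pow_succ']; group)
      rw [h1]
  have hBa : ∀ a b : ↥P, B (e (Abelianization.of a)) (e (Abelianization.of b)) =
      Multiplicative.toAdd (ψ ⟨⁅a, b⁆, hcc a b⟩) := by
    intro a b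
    rw [hB, hβ]
  have hVcard : Nat.card V = p ^ (2 * n) := by
    have h1 : Nat.card V = Nat.card (Abelianization ↥P) := (Nat.card_congr e).symm
    have h2 : Nat.card (Abelianization ↥P) = (commutator ↥P).index := rfl
    have h3 := Subgroup.card_mul_index (commutator ↥P)
    rw [hcomm, hZcard, hn] at h3
    rw [h1, h2, hcomm]
    have h4 : p * (Subgroup.center ↥P).index = p * p ^ (2 * n) := by rw [h3]; ring
    exact Nat.eq_of_mul_eq_mul_left hp.pos h4
  refine ⟨V, iV1, iV2, iV3, B, x, ?_, ?_, ?_, ?_, ?_, hVcard⟩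
  · -- alternating
    intro v
    obtain ⟨a, rfl⟩ := hVsurj v
    rw [hBa]
    have h1 : (⟨⁅a, a⁆, hcc a a⟩ : ↥(Subgroup.center ↥P)) = 1 :=
      Subtype.ext (commutatorElement_self a)
    rw [h1, map_one]
    rfl
  · -- nondegenerate
    intro u hu
    obtain ⟨a, rfl⟩ := hVsurj u
    have h1 : a ∈ Subgroup.center ↥P := by
      rw [Subgroup.mem_center_iff]
      intro b
      have h2 := hu (e (Abelianization.of b))
      rw [hBa] at h2
      have h3 : ψ ⟨⁅a, b⁆, hcc a b⟩ = 1 := h2
      have h4 : (⟨⁅a, b⁆, hcc a b⟩ : ↥(Subgroup.center ↥P)) = 1 := by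
        apply ψ.injective
        rw [h3, map_one]
      have h5 : ⁅a, b⁆ = 1 := congrArg Subtype.val h4
      exact (commutatorElement_eq_one_iff_mul_comm.mp h5).symm
    rw [(hof1 a).mpr h1, he1]
  · -- invariance
    intro u v
    obtain ⟨a, rfl⟩ := hVsurj u
    obtain ⟨b, rfl⟩ := hVsurj v
    rw [hxa, hxa, hBa, hBa]
    have h1 : (⟨⁅cj P (g : G) gN a, cj P (g : G) gN b⁆, hcc _ _⟩ : ↥(Subgroup.center ↥P)) =
        ⟨⁅a, b⁆, hcc a b⟩ := by
      apply Subtype.ext
      show ⁅cj P (g : G) gN a, cj P (g : G) gN b⁆ = ⁅a, b⁆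
      rw [← map_commutatorElement]
      apply Subtype.ext
      rw [cj_apply]
      exact hyZ g g.2 _ (hcc a b)
    rw [h1]
  · -- x ^ card H = 1
    apply LinearEquiv.ext
    intro v
    obtain ⟨a, rfl⟩ := hVsurj v
    rw [hxi]
    have h1 : (g : G) ^ Nat.card H = 1 := by
      have h2 : g ^ Nat.card H = 1 := pow_card_eq_one'
      have h3 : ((g ^ Nat.card H : ↥H) : G) = ((1 : ↥H) : G) := congrArg Subtype.val h2
      rw [Subgroup.coe_pow, Subgroup.coe_one] at h3
      exact h3
    have h4 : cj P ((g : G) ^ Nat.card H) (gNi _) a = a :=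
      Subtype.ext (by rw [cj_apply, h1]; simp)
    rw [h4]
    rfl
  · -- freeness
    intro i hi hiN v hv
    obtain ⟨a, rfl⟩ := hVsurj v
    rw [hxi] at hv
    have hq : Abelianization.of (cj P ((g : G) ^ i) (gNi i) a) = Abelianization.of a := e.injective hv
    -- y := g ^ i
    have hyH : (g : G) ^ i ∈ H := pow_mem g.2 i
    have hy1 : (g : G) ^ i ≠ 1 := by
      intro h0
      have h2 : g ^ i = 1 := Subtype.ext (by simpa using h0)
      have h3 := orderOf_dvd_of_pow_eq_one h2
      rw [hgord] at h3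
      exact absurd (Nat.le_of_dvd hi h3) (not_le.mpr hiN)
    -- c := a⁻¹ * cj a is central
    have hc : a⁻¹ * cj P ((g : G) ^ i) (gNi i) a ∈ Subgroup.center ↥P := by
      rw [← hof1, map_mul, map_inv, hq, inv_mul_cancel]
    obtain ⟨c, hcdef⟩ : ∃ c : ↥P, c = a⁻¹ * cj P ((g : G) ^ i) (gNi i) a := ⟨_, rfl⟩
    rw [← hcdef] at hc
    have hca : ((g : G) ^ i) * (a : G) * ((g : G) ^ i)⁻¹ = (a : G) * (c : G) := by
      rw [hcdef]
      simp [cj_apply]
    have hcy : ((g : G) ^ i) * (c : G) * ((g : G) ^ i)⁻¹ = (c : G) := hyZ _ hyH c hc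
    -- powers
    have hk : ∀ k : ℕ, (((g : G) ^ i) ^ k) * (a : G) * (((g : G) ^ i) ^ k)⁻¹ = (a : G) * (c : G) ^ k := by
      intro k
      induction k with
      | zero => simp
      | succ k ih =>
        have h5 : (((g : G) ^ i) ^ (k + 1)) * (a : G) * (((g : G) ^ i) ^ (k + 1))⁻¹ =
            ((g : G) ^ i) * ((((g : G) ^ i) ^ k) * (a : G) * (((g : G) ^ i) ^ k)⁻¹) * ((g : G) ^ i)⁻¹ := by
          rw [pow_succ']; group
        rw [h5, ih]
        have h6 : ((g : G) ^ i) * ((a : G) * (c : G) ^ k) * ((g : G) ^ i)⁻¹ =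
            (((g : G) ^ i) * (a : G) * ((g : G) ^ i)⁻¹) * (((g : G) ^ i) * (c : G) * ((g : G) ^ i)⁻¹) ^ k := by
          rw [conj_pow]; group
        rw [h6, hca, hcy, pow_succ, mul_assoc]
        congr 1
        have h7 : Commute (c : G) ((c : G) ^ k) := (Commute.refl (c : G)).pow_right k
        exact h7.eq
    have hcN : (c : G) ^ Nat.card H = 1 := by
      have h5 := hk (Nat.card H)
      have h6 : ((g : G) ^ i) ^ Nat.card H = 1 := by
        rw [← pow_mul, mul_comm, pow_mul]
        have h2 : g ^ Nat.card H = 1 := pow_card_eq_one'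
        have h3 : (g : G) ^ Nat.card H = 1 := by
          have h3' : ((g ^ Nat.card H : ↥H) : G) = ((1 : ↥H) : G) := congrArg Subtype.val h2
          rw [Subgroup.coe_pow, Subgroup.coe_one] at h3'
          exact h3'
        rw [h3, one_pow]
      rw [h6] at h5
      simp at h5
      exact h5
    have hcp : (c : G) ^ p = 1 := by
      have h5 : (⟨c, hc⟩ : ↥(Subgroup.center ↥P)) ^ Nat.card ↥(Subgroup.center ↥P) = 1 := pow_card_eq_one'
      rw [hZcard] at h5
      have h6 := congrArg (fun t : ↥(Subgroup.center ↥P) => ((t : ↥P) : G)) h5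
      simpa using h6
    have hc1 : (c : G) = 1 := by
      have h5 := orderOf_dvd_of_pow_eq_one hcN
      have h6 := orderOf_dvd_of_pow_eq_one hcp
      have h7 : orderOf (c : G) ∣ Nat.gcd (Nat.card H) p := Nat.dvd_gcd h5 h6
      rw [hcop] at h7
      exact orderOf_eq_one_iff.mp (Nat.dvd_one.mp h7)
    rw [hc1, mul_one] at hca
    -- a is centralized by y
    have ha1 : (a : G) ∈ P ⊓ Subgroup.centralizer {(g : G) ^ i} := by
      refine Subgroup.mem_inf.mpr ⟨a.2, ?_⟩
      rw [Subgroup.mem_centralizer_iff]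
      intro y hy
      rw [Set.mem_singleton_iff] at hy
      rw [hy]
      calc ((g : G) ^ i) * (a : G) = (((g : G) ^ i) * (a : G) * ((g : G) ^ i)⁻¹) * ((g : G) ^ i) := by group
        _ = (a : G) * ((g : G) ^ i) := by rw [hca]
    rw [hfix _ hyH hy1] at ha1
    obtain ⟨a', ha', haa'⟩ := ha1
    have h8 : a' = a := Subtype.ext haa'
    rw [h8] at ha'
    rw [(hof1 a).mpr ha', he1]

end Cfsg.Agent.Helper9.ESE
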