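-- helper9: a p-group acting on subnormal subgroups of F*(H) when O_p(H) = 1
import Mathlib
import Cfsg.Agent.S1318
import Cfsg.Agent.S0026
import Cfsg.Agent.Helper14.Comm
import Cfsg.Agent.Helper9.StrEmb
import Cfsg.Agent.Helper9.PReduced2

set_option autoImplicit false

namespace Cfsg.Agent.Helper9.FStar

open Cfsg

variable {G : Type*} [Group G]

/-- Conjugation by an element of the normalizer, as an automorphism of the subgroup. -/
def conjEquiv (H : Subgroup G) (y : G) (hy : y ∈ Subgroup.normalizer (H : Set G)) : ↥H ≃* ↥H where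
  toFun x := ⟨y * (x : G) * y⁻¹, (Subgroup.mem_normalizer_iff.mp hy (x : G)).mp x.2⟩
  invFun x := ⟨y⁻¹ * (x : G) * y, (Subgroup.mem_normalizer_iff''.mp hy (x : G)).mp x.2⟩
  left_inv x := by
    apply Subtype.ext
    show y⁻¹ * (y * (x : G) * y⁻¹) * y = (x : G)
    group
  right_inv x := by
    apply Subtype.ext
    show y * (y⁻¹ * (x : G) * y) * y⁻¹ = (x : G)
    group
  map_mul' a b := by
    apply Subtype.ext
    show y * ((a : G) * (b : G)) * y⁻¹ = (y * (a : G) * y⁻¹) * (y * (b : G) * y⁻¹)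
    group

/-- `F*(A) ∩ B = F*(B)` for `B` subnormal in `A`. -/
theorem fstar_inf_subnormal {A : Type*} [Group A] [Finite A] (B : Subgroup A)
    (hBsn : B.IsSubnormal) :
    Cfsg.generalizedFittingSubgroup A ⊓ B = (Cfsg.generalizedFittingSubgroup ↥B).map B.subtype := by
  classical
  have hFB := Cfsg.Agent.S1318.fitting_subnormal B hBsn
  apply le_antisymm
  · obtain ⟨S, hSdef⟩ : ∃ S : Subgroup A, S = Cfsg.generalizedFittingSubgroup A ⊓ B := ⟨_, rfl⟩
    rw [← hSdef]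
    have hSF : S ≤ Cfsg.generalizedFittingSubgroup A := by rw [hSdef]; exact inf_le_left
    have hSB : S ≤ B := by rw [hSdef]; exact inf_le_right
    have hSsn : S.IsSubnormal := by
      rw [hSdef]
      exact Subgroup.IsSubnormal.inf
        (Cfsg.Agent.Helper9.generalizedFittingSubgroup_normal A).isSubnormal hBsn
    have hsn : (S.subgroupOf (Cfsg.generalizedFittingSubgroup A)).IsSubnormal := by
      rw [hSdef, Subgroup.inf_subgroupOf_left]
      exact hBsn.subgroupOf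
    obtain ⟨h1, h2⟩ := Cfsg.Agent.S1318.result S hSF hsn
    have hFle : (Cfsg.fittingSubgroup ↥S).map S.subtype ≤
        (Cfsg.fittingSubgroup ↥B).map B.subtype := by
      rw [h1, hFB]
      exact inf_le_inf_left _ hSB
    have hEle : (Cfsg.layer ↥S).map S.subtype ≤ (Cfsg.layer ↥B).map B.subtype := by
      rw [Subgroup.map_le_iff_le_comap]
      unfold Cfsg.layer
      apply sSup_le
      intro K hK
      rw [← Subgroup.map_le_iff_le_comap]
      have hK' : Cfsg.IsComponent (K.map S.subtype) :=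
        (Cfsg.Agent.Helper7.isComponent_map_subtype hSsn K).mp hK
      have hKB : K.map S.subtype ≤ B := by
        rintro _ ⟨x, -, rfl⟩; exact hSB x.2
      have h3 : Cfsg.IsComponent ((K.map S.subtype).subgroupOf B) :=
        Cfsg.Agent.Helper7.isComponent_subgroupOf hK' hKB
      have h4 : (K.map S.subtype).subgroupOf B ≤ Cfsg.layer ↥B := Cfsg.Agent.Helper7.le_layer h3
      intro x hx
      exact ⟨⟨x, hKB hx⟩, h4 (Subgroup.mem_subgroupOf.mpr hx), rfl⟩
    intro x hx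
    have hx' : (⟨x, hx⟩ : ↥S) ∈ Cfsg.fittingSubgroup ↥S ⊔ Cfsg.layer ↥S := by
      rw [h2]; exact Subgroup.mem_top _
    have hx2 : x ∈ (Cfsg.fittingSubgroup ↥S ⊔ Cfsg.layer ↥S).map S.subtype := ⟨⟨x, hx⟩, hx', rfl⟩
    rw [Subgroup.map_sup] at hx2
    have hle : (Cfsg.fittingSubgroup ↥S).map S.subtype ⊔ (Cfsg.layer ↥S).map S.subtype ≤
        (Cfsg.generalizedFittingSubgroup ↥B).map B.subtype := by
      unfold Cfsg.generalizedFittingSubgroup
      rw [Subgroup.map_sup]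
      exact sup_le (hFle.trans le_sup_right) (hEle.trans le_sup_left)
    exact hle hx2
  · apply le_inf
    · unfold Cfsg.generalizedFittingSubgroup
      rw [Subgroup.map_sup]
      apply sup_le_sup
      · rw [Subgroup.map_le_iff_le_comap]
        unfold Cfsg.layer
        apply sSup_le
        intro K hK
        rw [← Subgroup.map_le_iff_le_comap]
        exact Cfsg.Agent.Helper7.le_layer
          ((Cfsg.Agent.Helper7.isComponent_map_subtype hBsn K).mp hK)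
      · rw [hFB]; exact inf_le_left
    · rintro _ ⟨x, -, rfl⟩; exact x.2

/-- If `L = [L, Y] C_L(Y)` then `[L, Y] = [L, Y, Y]`. -/
theorem comm_le_comm_comm [Finite G] (L Y : Subgroup G)
    (h : L ≤ ⁅L, Y⁆ ⊔ (L ⊓ Subgroup.centralizer (Y : Set G))) : ⁅L, Y⁆ ≤ ⁅⁅L, Y⁆, Y⁆ := by
  obtain ⟨U, hU⟩ : ∃ U : Subgroup G, U = ⁅L, Y⁆ := ⟨_, rfl⟩
  rw [← hU] at h ⊢
  obtain ⟨W, hW⟩ : ∃ W : Subgroup G, W = ⁅U, Y⁆ := ⟨_, rfl⟩
  rw [← hW]
  have hUW : U ≤ Subgroup.normalizer (W : Set G) := by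
    rw [hW]; exact Cfsg.Agent.Helper14.le_normalizer_commutator_left U Y
  have hLU : L ≤ Subgroup.normalizer (U : Set G) := by
    rw [hU]; exact Cfsg.Agent.Helper14.le_normalizer_commutator_left L Y
  obtain ⟨S, hS⟩ : ∃ S : Subgroup G, ∀ x, x ∈ S ↔
      (x ∈ Subgroup.normalizer (W : Set G) ∧ ∀ y ∈ Y, x * y * x⁻¹ * y⁻¹ ∈ W) := by
    refine ⟨{ carrier := {x | x ∈ Subgroup.normalizer (W : Set G) ∧
                ∀ y ∈ Y, x * y * x⁻¹ * y⁻¹ ∈ W}
              mul_mem' := ?_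
              one_mem' := ⟨one_mem _, fun y _ => by
                have e : (1 : G) * y * (1 : G)⁻¹ * y⁻¹ = 1 := by group
                rw [e]; exact one_mem _⟩
              inv_mem' := ?_ }, fun _ => Iff.rfl⟩
    · rintro a b ⟨ha1, ha2⟩ ⟨hb1, hb2⟩
      refine ⟨mul_mem ha1 hb1, fun y hy => ?_⟩
      have e : a * b * y * (a * b)⁻¹ * y⁻¹
          = (a * (b * y * b⁻¹ * y⁻¹) * a⁻¹) * (a * y * a⁻¹ * y⁻¹) := by group
      rw [e]
      exact mul_mem ((Subgroup.mem_normalizer_iff.mp ha1 _).mp (hb2 y hy)) (ha2 y hy)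
    · rintro a ⟨ha1, ha2⟩
      refine ⟨inv_mem ha1, fun y hy => ?_⟩
      have e : a⁻¹ * y * a⁻¹⁻¹ * y⁻¹ = a⁻¹ * (a * y * a⁻¹ * y⁻¹)⁻¹ * a⁻¹⁻¹ := by group
      rw [e]
      exact (Subgroup.mem_normalizer_iff.mp (inv_mem ha1) _).mp (inv_mem (ha2 y hy))
  have hUS : U ≤ S := by
    intro u hu
    rw [hS]
    refine ⟨hUW hu, fun y hy => ?_⟩
    have h1 := Subgroup.commutator_mem_commutator hu hy
    rw [commutatorElement_def] at h1
    rw [hW]; exact h1
  have hCS : L ⊓ Subgroup.centralizer (Y : Set G) ≤ S := by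
    intro c hc
    obtain ⟨hcL, hcY⟩ := Subgroup.mem_inf.mp hc
    rw [hS]
    have hcy : ∀ y ∈ Y, y * c = c * y := Subgroup.mem_centralizer_iff.mp hcY
    refine ⟨?_, fun y hy => ?_⟩
    · apply Cfsg.Agent.Helper9.mem_normalizer_of_conj_le
      intro w hw
      have h1 : (MulAut.conj c).toMonoidHom w ∈ W.map (MulAut.conj c).toMonoidHom := ⟨w, hw, rfl⟩
      rw [hW, Subgroup.map_commutator] at h1
      have h2 : U.map (MulAut.conj c).toMonoidHom ≤ U := by
        rintro _ ⟨u, hu, rfl⟩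
        exact (Subgroup.mem_normalizer_iff.mp (hLU hcL) u).mp hu
      have h3 : Y.map (MulAut.conj c).toMonoidHom ≤ Y := by
        rintro _ ⟨y, hy, rfl⟩
        have e : (MulAut.conj c).toMonoidHom y = y := by
          show c * y * c⁻¹ = y
          rw [← hcy y hy]; group
        rw [e]; exact hy
      have h4 := Subgroup.commutator_mono h2 h3 h1
      rw [hW]
      exact h4
    · have e : c * y * c⁻¹ * y⁻¹ = 1 := by rw [← hcy y hy]; group
      rw [e]; exact one_mem _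
  rw [hU, Subgroup.commutator_le]
  intro l hl y hy
  have h1 := (hS l).mp ((sup_le hUS hCS) (h hl))
  rw [commutatorElement_def]
  exact h1.2 y hy

theorem not_dvd_card_fitting [Finite G] {p : ℕ} [Fact p.Prime] (hO : Cfsg.pCore p G = ⊥) :
    ¬ p ∣ Nat.card ↥(Cfsg.fittingSubgroup G) := by
  intro hdvd
  obtain ⟨P⟩ : Nonempty (Sylow p ↥(Cfsg.fittingSubgroup G)) := inferInstance
  apply P.ne_bot_of_dvd_card hdvd
  rw [Subgroup.eq_bot_iff_forall]
  intro z hz
  have hn := Cfsg.Agent.Helper1.sylow_of_normal_nilpotent_normal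
    (Cfsg.Agent.Helper1.fitting_normal G) Cfsg.Agent.Helper1.fitting_isNilpotent p P
  have hpg : IsPGroup p ↥((P : Subgroup ↥(Cfsg.fittingSubgroup G)).map
      (Cfsg.fittingSubgroup G).subtype) := P.isPGroup'.map _
  have h1 := Cfsg.Agent.Helper1.le_pCore hn hpg
  have h2 : ((z : ↥(Cfsg.fittingSubgroup G)) : G) ∈ Cfsg.pCore p G := h1 ⟨z, hz, rfl⟩
  rw [hO, Subgroup.mem_bot] at h2
  exact Subtype.ext h2

theorem pCore_eq_bot_of_subnormal {X : Type*} [Group X] [Finite X] {p : ℕ} [Fact p.Prime]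
    (hO : Cfsg.pCore p X = ⊥) (K : Subgroup X) (hK : K.IsSubnormal) : Cfsg.pCore p ↥K = ⊥ := by
  rw [Subgroup.eq_bot_iff_forall]
  intro z hz
  have hsn : ((Cfsg.pCore p ↥K).map K.subtype).IsSubnormal :=
    (Cfsg.Agent.Helper1.pCore_normal p ↥K).isSubnormal.trans' hK
  have hpg : IsPGroup p ↥((Cfsg.pCore p ↥K).map K.subtype) :=
    (Cfsg.Agent.Helper1.pCore_isPGroup p ↥K).map _
  have h1 := Cfsg.Agent.Helper9.subnormal_pgroup_le_pCore _ hsn hpg
  have h2 : (z : X) ∈ Cfsg.pCore p X := h1 ⟨z, hz, rfl⟩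
  rw [hO, Subgroup.mem_bot] at h2
  exact Subtype.ext h2

/-- `L = [L, Y] C_L(Y)` for `L ≤ F*(H)` subnormal in `H`, `O_p(H) = 1`, `Y` a `p`-group
normalizing `H` and `L`. -/
theorem le_comm_sup_cent [Finite G] {p : ℕ} [Fact p.Prime] (H : Subgroup G)
    (hO : Cfsg.pCore p ↥H = ⊥) (Y : Subgroup G) (hY : IsPGroup p ↥Y)
    (hYH : Y ≤ Subgroup.normalizer (H : Set G)) (L : Subgroup G)
    (hLF : L ≤ (Cfsg.generalizedFittingSubgroup ↥H).map H.subtype)
    (hLsn : (L.subgroupOf H).IsSubnormal) (hYL : Y ≤ Subgroup.normalizer (L : Set G)) :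
    L ≤ ⁅L, Y⁆ ⊔ (L ⊓ Subgroup.centralizer (Y : Set G)) := by
  classical
  have hp : p.Prime := Fact.out
  have hLH : L ≤ H := by
    intro l hl
    obtain ⟨z, -, rfl⟩ := hLF hl
    exact z.2
  obtain ⟨L', hL'⟩ : ∃ L' : Subgroup ↥H, L' = L.subgroupOf H := ⟨_, rfl⟩
  rw [← hL'] at hLsn
  have hmemL' : ∀ x : ↥H, x ∈ L' ↔ (x : G) ∈ L := by
    intro x; rw [hL']; exact Subgroup.mem_subgroupOf
  have hL'F : L' ≤ Cfsg.generalizedFittingSubgroup ↥H := by
    intro x hx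
    obtain ⟨z, hz, hzx⟩ := hLF ((hmemL' x).mp hx)
    have e : z = x := Subtype.ext hzx
    rw [← e]; exact hz
  obtain ⟨h1, h2⟩ := Cfsg.Agent.S1318.result L' hL'F hLsn.subgroupOf
  obtain ⟨R, hR⟩ : ∃ R : Subgroup G,
      R = ⁅L, Y⁆ ⊔ (L ⊓ Subgroup.centralizer (Y : Set G)) := ⟨_, rfl⟩
  rw [← hR]
  obtain ⟨F₀, hF₀⟩ : ∃ F₀ : Subgroup G,
      F₀ = (Cfsg.fittingSubgroup ↥H ⊓ L').map H.subtype := ⟨_, rfl⟩
  have hF₀L : F₀ ≤ L := by
    rw [hF₀]; rintro _ ⟨x, hx, rfl⟩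
    exact (hmemL' x).mp (Subgroup.mem_inf.mp hx).2
  have hF₀inv : ∀ y ∈ Y, ∀ u ∈ F₀, y * u * y⁻¹ ∈ F₀ := by
    intro y hy u hu
    rw [hF₀] at hu ⊢
    obtain ⟨x, hx, rfl⟩ := hu
    obtain ⟨hxF, hxL⟩ := Subgroup.mem_inf.mp hx
    refine ⟨conjEquiv H y (hYH hy) x, Subgroup.mem_inf.mpr ⟨?_, ?_⟩, rfl⟩
    · have hch := Cfsg.Agent.Helper9.fittingSubgroup_characteristic ↥H
      have h3 := (Subgroup.characteristic_iff_map_eq.mp hch) (conjEquiv H y (hYH hy))
      have h4 : (conjEquiv H y (hYH hy)) x ∈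
          (Cfsg.fittingSubgroup ↥H).map (conjEquiv H y (hYH hy)).toMonoidHom :=
        Subgroup.mem_map_of_mem _ hxF
      rw [h3] at h4
      exact h4
    · rw [hmemL']
      show y * (x : G) * y⁻¹ ∈ L
      exact (Subgroup.mem_normalizer_iff.mp (hYL hy) _).mp ((hmemL' x).mp hxL)
  have hF₀p : ¬ p ∣ Nat.card ↥F₀ := by
    intro hd
    apply not_dvd_card_fitting hO
    rw [hF₀, Subgroup.card_map_of_injective H.subtype_injective] at hd
    exact hd.trans (Subgroup.card_dvd_of_le inf_le_left)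
  have hYF₀ : Y ≤ Subgroup.normalizer (F₀ : Set G) := fun y hy =>
    Cfsg.Agent.Helper9.mem_normalizer_of_conj_le F₀ y (hF₀inv y hy)
  have hcop : (Nat.card ↥Y).Coprime (Nat.card ↥F₀) := by
    obtain ⟨m, hm⟩ := IsPGroup.iff_card.1 hY
    rw [hm]
    exact Nat.Coprime.pow_left m ((Nat.Prime.coprime_iff_not_dvd hp).2 hF₀p)
  have hYsol : Group.IsSolvable ↥Y := by
    haveI : Group.IsNilpotent ↥Y := hY.isNilpotent
    exact inferInstance
  have hF₀R : F₀ ≤ R := by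
    have h3 := Cfsg.Agent.S0026.result Y F₀ hYF₀ hcop (Or.inl hYsol)
    refine h3.ge.trans ?_
    rw [hR]
    exact sup_le_sup (Subgroup.commutator_mono hF₀L le_rfl) (inf_le_inf_right _ hF₀L)
  have hLnorm : L ≤ Subgroup.normalizer ((⁅L, Y⁆ : Subgroup G) : Set G) :=
    Cfsg.Agent.Helper14.le_normalizer_commutator_left L Y
  have hcompR : ∀ K₁ : Subgroup ↥H, Cfsg.IsComponent K₁ → K₁ ≤ L' → K₁.map H.subtype ≤ R := by
    intro K₁ hK₁ hK₁L
    obtain ⟨K₂, hK₂⟩ : ∃ K₂ : Subgroup G, K₂ = K₁.map H.subtype := ⟨_, rfl⟩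
    rw [← hK₂]
    have hK₂L : K₂ ≤ L := by
      rw [hK₂]; rintro _ ⟨x, hx, rfl⟩
      exact (hmemL' x).mp (hK₁L hx)
    have hq₂ : Cfsg.IsQuasisimple ↥K₂ := by
      rw [hK₂]; exact (Cfsg.Agent.Helper7.isQuasisimple_map_subtype K₁).mpr hK₁.2
    have hperf : ⁅K₂, K₂⁆ = K₂ := Subgroup.isPerfect_iff.mp hq₂.1
    by_cases hmove : ∃ y, ∃ hy : y ∈ Y, K₁.map (conjEquiv H y (hYH hy)).toMonoidHom ≠ K₁
    · obtain ⟨y, hy, hne⟩ := hmove
      have hK₁' : Cfsg.IsComponent (K₁.map (conjEquiv H y (hYH hy)).toMonoidHom) :=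
        Cfsg.Agent.Helper9.isComponent_map _ K₁ hK₁
      have hcomm := Cfsg.Agent.Helper7.components_commute hK₁ hK₁' (Ne.symm hne)
      rw [Subgroup.commutator_eq_bot_iff_le_centralizer] at hcomm
      have hle : K₂ ≤ ⁅L, Y⁆ := by
        rw [← hperf, Subgroup.commutator_le]
        intro k hk k' hk'
        rw [hK₂] at hk hk'
        obtain ⟨κ, hκ, rfl⟩ := hk
        obtain ⟨κ', hκ', rfl⟩ := hk'
        have hz : (conjEquiv H y (hYH hy)) κ⁻¹ ∈
            K₁.map (conjEquiv H y (hYH hy)).toMonoidHom :=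
          Subgroup.mem_map_of_mem _ (inv_mem hκ)
        have hzc := Subgroup.mem_centralizer_iff.mp (hcomm hκ') _ hz
        have hzc0 := congrArg Subtype.val hzc
        have hzc' : (y * (κ : G)⁻¹ * y⁻¹) * (κ' : G) = (κ' : G) * (y * (κ : G)⁻¹ * y⁻¹) := hzc0
        have hκL : (κ : G) ∈ L := hK₂L (by rw [hK₂]; exact ⟨κ, hκ, rfl⟩)
        have hκ'L : (κ' : G) ∈ L := hK₂L (by rw [hK₂]; exact ⟨κ', hκ', rfl⟩)
        have hu : (κ : G) * y * (κ : G)⁻¹ * y⁻¹ ∈ ⁅L, Y⁆ := by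
          have h3 := Subgroup.commutator_mem_commutator hκL hy
          rw [commutatorElement_def] at h3
          exact h3
        have hu2 : (κ' : G) * ((κ : G) * y * (κ : G)⁻¹ * y⁻¹)⁻¹ * (κ' : G)⁻¹ ∈ ⁅L, Y⁆ :=
          (Subgroup.mem_normalizer_iff.mp (hLnorm hκ'L) _).mp (inv_mem hu)
        rw [commutatorElement_def]
        show (κ : G) * (κ' : G) * (κ : G)⁻¹ * (κ' : G)⁻¹ ∈ ⁅L, Y⁆
        have e : (κ : G) * (κ' : G) * (κ : G)⁻¹ * (κ' : G)⁻¹
            = ((κ : G) * y * (κ : G)⁻¹ * y⁻¹) *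
              ((κ' : G) * ((κ : G) * y * (κ : G)⁻¹ * y⁻¹)⁻¹ * (κ' : G)⁻¹) := by
          obtain ⟨z, hzdef⟩ : ∃ z : G, z = y * (κ : G)⁻¹ * y⁻¹ := ⟨_, rfl⟩
          rw [← hzdef] at hzc'
          have e1 : (κ : G) * y * (κ : G)⁻¹ * y⁻¹ = (κ : G) * z := by rw [hzdef]; group
          rw [e1]
          calc (κ : G) * (κ' : G) * (κ : G)⁻¹ * (κ' : G)⁻¹
              = (κ : G) * ((κ' : G) * z) * z⁻¹ * (κ : G)⁻¹ * (κ' : G)⁻¹ := by group
            _ = (κ : G) * (z * (κ' : G)) * z⁻¹ * (κ : G)⁻¹ * (κ' : G)⁻¹ := by rw [hzc']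
            _ = ((κ : G) * z) * ((κ' : G) * ((κ : G) * z)⁻¹ * (κ' : G)⁻¹) := by group
        rw [e]
        exact mul_mem hu hu2
      rw [hR]
      exact hle.trans le_sup_left
    · push_neg at hmove
      have hYK₂ : Y ≤ Subgroup.normalizer (K₂ : Set G) := by
        intro y hy
        apply Cfsg.Agent.Helper9.mem_normalizer_of_conj_le
        intro k hk
        rw [hK₂] at hk ⊢
        obtain ⟨κ, hκ, rfl⟩ := hk
        have h3 : (conjEquiv H y (hYH hy)) κ ∈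
            K₁.map (conjEquiv H y (hYH hy)).toMonoidHom := Subgroup.mem_map_of_mem _ hκ
        rw [hmove y hy] at h3
        exact ⟨conjEquiv H y (hYH hy) κ, h3, rfl⟩
      have hVK : ⁅K₂, Y⁆ ≤ K₂ :=
        Cfsg.Agent.Helper14.commutator_le_left_of_le_normalizer K₂ Y hYK₂
      have hK₂V : K₂ ≤ Subgroup.normalizer ((⁅K₂, Y⁆ : Subgroup G) : Set G) :=
        Cfsg.Agent.Helper14.le_normalizer_commutator_left K₂ Y
      have hVn : ((⁅K₂, Y⁆ : Subgroup G).subgroupOf K₂).Normal :=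
        Subgroup.normal_subgroupOf_of_le_normalizer hK₂V
      rcases Cfsg.Agent.Helper7.quasisimple_subnormal hq₂ _ hVn.isSubnormal with htop | hcen
      · have h3 : K₂ ≤ ⁅K₂, Y⁆ := Subgroup.subgroupOf_eq_top.mp htop
        rw [hR]
        exact (h3.trans (Subgroup.commutator_mono hK₂L le_rfl)).trans le_sup_left
      · have h4 : ⁅⁅K₂, Y⁆, K₂⁆ = ⊥ := by
          rw [Subgroup.commutator_eq_bot_iff_le_centralizer]
          intro v hv
          rw [Subgroup.mem_centralizer_iff]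
          intro k hk
          have hvc := hcen (Subgroup.mem_subgroupOf.mpr hv :
            (⟨v, hVK hv⟩ : ↥K₂) ∈ (⁅K₂, Y⁆ : Subgroup G).subgroupOf K₂)
          have h5 := Subgroup.mem_center_iff.mp hvc ⟨k, hk⟩
          have h6 := congrArg Subtype.val h5
          exact h6
        have h5 : ⁅⁅Y, K₂⁆, K₂⁆ = ⊥ := by rw [Subgroup.commutator_comm Y K₂]; exact h4
        have h6 : ⁅⁅K₂, K₂⁆, Y⁆ = ⊥ := Subgroup.commutator_commutator_eq_bot_of_rotate h4 h5
        rw [hperf, Subgroup.commutator_eq_bot_iff_le_centralizer] at h6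
        rw [hR]
        exact (le_inf hK₂L h6).trans le_sup_right
  intro l hl
  have hl' : (⟨⟨l, hLH hl⟩, (hmemL' _).mpr hl⟩ : ↥L') ∈
      Cfsg.fittingSubgroup ↥L' ⊔ Cfsg.layer ↥L' := by
    rw [h2]; exact Subgroup.mem_top _
  have hmap : ((Cfsg.fittingSubgroup ↥L' ⊔ Cfsg.layer ↥L').map L'.subtype).map H.subtype ≤ R := by
    rw [Subgroup.map_sup, Subgroup.map_sup]
    apply sup_le
    · rw [h1, ← hF₀]; exact hF₀R
    · rw [Subgroup.map_le_iff_le_comap, Subgroup.map_le_iff_le_comap]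
      unfold Cfsg.layer
      apply sSup_le
      intro K hK
      rw [← Subgroup.map_le_iff_le_comap, ← Subgroup.map_le_iff_le_comap]
      apply hcompR
      · exact (Cfsg.Agent.Helper7.isComponent_map_subtype hLsn K).mp hK
      · rintro _ ⟨x, -, rfl⟩; exact x.2
  exact hmap ⟨⟨l, hLH hl⟩, ⟨⟨⟨l, hLH hl⟩, (hmemL' _).mpr hl⟩, hl', rfl⟩, rfl⟩

/-- Type-level form: `F*(K) = [F*(K), Y] C_{F*(K)}(Y)` for `K` subnormal in `X` containing the
`p`-group `Y`, when `O_p(X) = 1`. -/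
theorem fstar_sub {X : Type*} [Group X] [Finite X] {p : ℕ} [Fact p.Prime]
    (hO : Cfsg.pCore p X = ⊥) (Y : Subgroup X) (hY : IsPGroup p ↥Y) (K : Subgroup X)
    (hK : K.IsSubnormal) (hYK : Y ≤ K) :
    (Cfsg.generalizedFittingSubgroup ↥K).map K.subtype ≤
      ⁅(Cfsg.generalizedFittingSubgroup ↥K).map K.subtype, Y⁆ ⊔
        ((Cfsg.generalizedFittingSubgroup ↥K).map K.subtype ⊓
          Subgroup.centralizer (Y : Set X)) := by
  apply le_comm_sup_cent K (pCore_eq_bot_of_subnormal hO K hK) Y hY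
    (hYK.trans Subgroup.le_normalizer) _ le_rfl
  · have e : ((Cfsg.generalizedFittingSubgroup ↥K).map K.subtype).subgroupOf K =
        Cfsg.generalizedFittingSubgroup ↥K :=
      Subgroup.comap_map_eq_self_of_injective K.subtype_injective _
    rw [e]
    exact (Cfsg.Agent.Helper9.generalizedFittingSubgroup_normal ↥K).isSubnormal
  · intro y hy
    apply Cfsg.Agent.Helper9.mem_normalizer_of_conj_le
    rintro _ ⟨z, hz, rfl⟩
    have hn := Cfsg.Agent.Helper9.generalizedFittingSubgroup_normal ↥K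
    exact ⟨(⟨y, hYK hy⟩ : ↥K) * z * (⟨y, hYK hy⟩ : ↥K)⁻¹, hn.conj_mem z hz ⟨y, hYK hy⟩, rfl⟩

end Cfsg.Agent.Helper9.FStar
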