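-- helper9: more on p-groups acting on F*(X) with O_p(X) = 1: fixed points lie in the derived group
import Mathlib
import Cfsg.Agent.Helper9.FStar

set_option autoImplicit false

namespace Cfsg.Agent.Helper9.FStar

open Cfsg

/-- `L = [L, Y] C_L(Y)` for `L ≤ F*(X)` subnormal in `X`, `O_p(X) = 1`, `Y` a `p`-subgroup
normalizing `L`. -/
theorem fstar_sn {X : Type*} [Group X] [Finite X] {p : ℕ} [Fact p.Prime]
    (hO : Cfsg.pCore p X = ⊥) (Y : Subgroup X) (hY : IsPGroup p ↥Y) (L : Subgroup X)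
    (hLF : L ≤ Cfsg.generalizedFittingSubgroup X) (hLsn : L.IsSubnormal)
    (hYL : Y ≤ Subgroup.normalizer (L : Set X)) :
    L ≤ ⁅L, Y⁆ ⊔ (L ⊓ Subgroup.centralizer (Y : Set X)) := by
  have e := fstar_inf_subnormal (⊤ : Subgroup X) Subgroup.IsSubnormal.top
  rw [inf_top_eq] at e
  apply le_comm_sup_cent (⊤ : Subgroup X)
    (pCore_eq_bot_of_subnormal hO ⊤ Subgroup.IsSubnormal.top) Y hY ?_ L ?_ hLsn.subgroupOf hYL
  · intro y _
    rw [Subgroup.mem_normalizer_iff]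
    intro h
    exact ⟨fun _ => Subgroup.mem_top _, fun _ => Subgroup.mem_top _⟩
  · rw [← e]; exact hLF

/-- A `p`-element of an abelian subnormal subgroup is trivial when `O_p(X) = 1`. -/
theorem eq_one_of_abelian_subnormal {X : Type*} [Group X] [Finite X] {p : ℕ} [Fact p.Prime]
    (hO : Cfsg.pCore p X = ⊥) (Z : Subgroup X) (hZsn : Z.IsSubnormal)
    (hZc : ∀ a ∈ Z, ∀ b ∈ Z, a * b = b * a) (c : X) (hc : c ∈ Z) (k : ℕ)
    (hck : c ^ p ^ k = 1) : c = 1 := by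
  have hzle : Subgroup.zpowers c ≤ Z := by rw [Subgroup.zpowers_le]; exact hc
  have hn : ((Subgroup.zpowers c).subgroupOf Z).Normal := by
    constructor
    intro n hn g
    have e : g * n * g⁻¹ = n := by
      apply Subtype.ext
      show (g : X) * (n : X) * (g : X)⁻¹ = (n : X)
      rw [hZc g g.2 n n.2]; group
    rw [e]; exact hn
  have hsn : (Subgroup.zpowers c).IsSubnormal :=
    Subgroup.IsSubnormal.trans hzle hn.isSubnormal hZsn
  have hpg : IsPGroup p ↥(Subgroup.zpowers c) := by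
    rintro ⟨g, hg⟩
    obtain ⟨n, rfl⟩ := Subgroup.mem_zpowers_iff.mp hg
    refine ⟨k, Subtype.ext ?_⟩
    show (c ^ n) ^ p ^ k = 1
    rw [← zpow_natCast (c ^ n) (p ^ k), zpow_comm, zpow_natCast, hck, one_zpow]
  have h6 := Cfsg.Agent.Helper9.subnormal_pgroup_le_pCore _ hsn hpg
  rw [hO] at h6
  exact (Subgroup.mem_bot).mp (h6 (Subgroup.mem_zpowers c))

/-- If `L = [L, Q]` then `C_L(Q) ≤ L'`, for `L ≤ F*(X)` subnormal in `X`, `O_p(X) = 1`, `Q` a
`p`-subgroup normalizing `L`. -/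
theorem cent_le_comm {X : Type*} [Group X] [Finite X] {p : ℕ} [Fact p.Prime]
    (hO : Cfsg.pCore p X = ⊥) (Q : Subgroup X) (hQ : IsPGroup p ↥Q) (L : Subgroup X)
    (hLF : L ≤ Cfsg.generalizedFittingSubgroup X) (hLsn : L.IsSubnormal)
    (hQL : Q ≤ Subgroup.normalizer (L : Set X)) (hLQ : ⁅L, Q⁆ = L) :
    L ⊓ Subgroup.centralizer (Q : Set X) ≤ ⁅L, L⁆ := by
  classical
  have hp : p.Prime := Fact.out
  haveI : Fintype ↥Q := Fintype.ofFinite ↥Q
  obtain ⟨N, hNdef⟩ : ∃ N : ↥L → Abelianization ↥L, ∀ l : ↥L,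
      N l = ∏ q : ↥Q, Abelianization.of (conjEquiv L (q : X) (hQL q.2) l) := ⟨_, fun _ => rfl⟩
  have hNmul : ∀ a b : ↥L, N (a * b) = N a * N b := by
    intro a b
    rw [hNdef, hNdef, hNdef, ← Finset.prod_mul_distrib]
    apply Finset.prod_congr rfl
    intro q _
    rw [map_mul, map_mul]
  have hN1 : N 1 = 1 := by
    rw [hNdef]
    apply Finset.prod_eq_one
    intro q _
    rw [map_one, map_one]
  have hNconj : ∀ (q₀ : ↥Q) (l : ↥L), N (conjEquiv L (q₀ : X) (hQL q₀.2) l) = N l := by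
    intro q₀ l
    rw [hNdef, hNdef]
    apply Fintype.prod_equiv (Equiv.mulRight q₀)
    intro q
    refine congrArg _ ?_
    apply Subtype.ext
    show (q : X) * ((q₀ : X) * (l : X) * (q₀ : X)⁻¹) * (q : X)⁻¹
      = ((q * q₀ : ↥Q) : X) * (l : X) * ((q * q₀ : ↥Q) : X)⁻¹
    rw [Subgroup.coe_mul]; group
  have hNtriv : ∀ l : ↥L, N l = 1 := by
    have hle : ⁅L, Q⁆ ≤ (MonoidHom.mk' N hNmul).ker.map L.subtype := by
      rw [Subgroup.commutator_le]
      intro l hl q hq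
      obtain ⟨q', hq'⟩ : ∃ q' : ↥Q, (q' : X) = q := ⟨⟨q, hq⟩, rfl⟩
      refine ⟨(⟨l, hl⟩ : ↥L) * conjEquiv L (q' : X) (hQL q'.2) (⟨l, hl⟩ : ↥L)⁻¹, ?_, ?_⟩
      · show N ((⟨l, hl⟩ : ↥L) * conjEquiv L (q' : X) (hQL q'.2) (⟨l, hl⟩ : ↥L)⁻¹) = 1
        rw [hNmul, hNconj, ← hNmul, mul_inv_cancel, hN1]
      · rw [commutatorElement_def]
        show l * ((q' : X) * l⁻¹ * (q' : X)⁻¹) = l * q * l⁻¹ * q⁻¹
        rw [hq']; group
    intro l
    have h1 : (l : X) ∈ ⁅L, Q⁆ := by rw [hLQ]; exact l.2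
    obtain ⟨k, hk, hkl⟩ := hle h1
    have e : k = l := Subtype.ext hkl
    rw [← e]
    exact hk
  intro x hx
  obtain ⟨hxL, hxC⟩ := Subgroup.mem_inf.mp hx
  obtain ⟨m, hm⟩ := IsPGroup.iff_card.1 hQ
  have h1 : (Abelianization.of (⟨x, hxL⟩ : ↥L)) ^ (p ^ m) = 1 := by
    have h2 := hNtriv ⟨x, hxL⟩
    have h3 : N ⟨x, hxL⟩ = ∏ _q : ↥Q, Abelianization.of (⟨x, hxL⟩ : ↥L) := by
      rw [hNdef]
      apply Finset.prod_congr rfl
      intro q _
      refine congrArg _ ?_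
      apply Subtype.ext
      show (q : X) * x * (q : X)⁻¹ = x
      have h4 := Subgroup.mem_centralizer_iff.mp hxC (q : X) q.2
      rw [h4]; group
    rw [h3, Finset.prod_const, Finset.card_univ, ← Nat.card_eq_fintype_card, hm] at h2
    exact h2
  obtain ⟨n, hn⟩ : ∃ n : ℕ, n = Nat.card ↥(Cfsg.fittingSubgroup ↥L) := ⟨_, rfl⟩
  have hnp : ¬ p ∣ n := by
    intro hd
    apply not_dvd_card_fitting hO
    have h2 := Cfsg.Agent.S1318.fitting_subnormal L hLsn
    have h3 : Nat.card ↥((Cfsg.fittingSubgroup ↥L).map L.subtype) = n := by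
      rw [hn, Subgroup.card_map_of_injective L.subtype_injective]
    rw [h2] at h3
    rw [← h3] at hd
    exact hd.trans (Subgroup.card_dvd_of_le inf_le_left)
  have hall : ∀ l : ↥L, (Abelianization.of l) ^ n = 1 := by
    obtain ⟨-, h2'⟩ := Cfsg.Agent.S1318.result L hLF hLsn.subgroupOf
    obtain ⟨T, hT⟩ : ∃ T : Subgroup ↥L, ∀ l : ↥L, l ∈ T ↔ (Abelianization.of l) ^ n = 1 :=
      ⟨((powMonoidHom n : Abelianization ↥L →* Abelianization ↥L).comp Abelianization.of).ker,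
        fun _ => Iff.rfl⟩
    have hFT : Cfsg.fittingSubgroup ↥L ≤ T := by
      intro f hf
      rw [hT, ← map_pow]
      have h3 : (⟨f, hf⟩ : ↥(Cfsg.fittingSubgroup ↥L)) ^ n = 1 := by
        rw [hn]; exact pow_card_eq_one'
      have h5 := congrArg Subtype.val h3
      have h4 : f ^ n = 1 := h5
      rw [h4, map_one]
    have hET : Cfsg.layer ↥L ≤ T := by
      unfold Cfsg.layer
      apply sSup_le
      intro K hK k hk
      rw [hT]
      have hperf := Cfsg.Agent.Helper7.IsComponent.perfect hK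
      have h3 : k ∈ commutator ↥L := by
        have h4 : ⁅K, K⁆ ≤ ⁅(⊤ : Subgroup ↥L), ⊤⁆ := Subgroup.commutator_mono le_top le_top
        rw [hperf] at h4
        exact h4 hk
      have h5 : Abelianization.of k = 1 := by
        rw [← MonoidHom.mem_ker, Abelianization.ker_of]; exact h3
      rw [h5, one_pow]
    intro l
    rw [← hT]
    have h6 : l ∈ Cfsg.fittingSubgroup ↥L ⊔ Cfsg.layer ↥L := by
      rw [h2']; exact Subgroup.mem_top _
    exact (sup_le hFT hET) h6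
  have h3 := hall ⟨x, hxL⟩
  have h4 : Abelianization.of (⟨x, hxL⟩ : ↥L) = 1 := by
    have hd1 := orderOf_dvd_of_pow_eq_one h1
    have hd2 := orderOf_dvd_of_pow_eq_one h3
    have hcop : Nat.Coprime (p ^ m) n :=
      Nat.Coprime.pow_left m ((Nat.Prime.coprime_iff_not_dvd hp).2 hnp)
    have hd3 := Nat.dvd_gcd hd1 hd2
    rw [Nat.Coprime.gcd_eq_one hcop] at hd3
    exact orderOf_eq_one_iff.mp (Nat.dvd_one.mp hd3)
  have h5 : (⟨x, hxL⟩ : ↥L) ∈ commutator ↥L := by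
    rw [← Abelianization.ker_of, MonoidHom.mem_ker]; exact h4
  have h6 : x ∈ (commutator ↥L).map L.subtype := ⟨⟨x, hxL⟩, h5, rfl⟩
  have h7 : (commutator ↥L).map L.subtype = ⁅L, L⁆ := by
    rw [commutator_def, Subgroup.map_commutator, ← MonoidHom.range_eq_map, Subgroup.range_subtype]
  rw [h7] at h6
  exact h6

end Cfsg.Agent.Helper9.FStar
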