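-- helper9: existence of members of frak H_G(O_p(M)) (asymmetric, char-p-tall case).
import Mathlib
import Cfsg.Prelude.Def_LocalStructure
import Cfsg.Agent.Helper9.Asym

set_option autoImplicit false

namespace Cfsg.Agent.Helper9.FrakH

open Cfsg

/-- Internal characteristic `p` gives the external form. -/
theorem char_ext {G : Type*} [Group G] {p : ℕ} (L : Subgroup G)
    (h : Subgroup.centralizer (Cfsg.pCore p ↥L : Set ↥L) ≤ Cfsg.pCore p ↥L) :
    ∀ x ∈ L, x ∈ Subgroup.centralizer ((Cfsg.pCoreOf p L : Subgroup G) : Set G) →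
      x ∈ Cfsg.pCoreOf p L := by
  intro x hxL hx
  have h1 : (⟨x, hxL⟩ : ↥L) ∈ Subgroup.centralizer (Cfsg.pCore p ↥L : Set ↥L) := by
    rw [Subgroup.mem_centralizer_iff]
    intro y hy
    have hy' : (y : G) ∈ Cfsg.pCoreOf p L := by
      show (y : G) ∈ (Cfsg.pCore p ↥L).map L.subtype
      exact ⟨y, hy, rfl⟩
    have h2 := Subgroup.mem_centralizer_iff.mp hx (y : G) hy'
    exact Subtype.ext h2
  have h3 := h h1
  show x ∈ (Cfsg.pCore p ↥L).map L.subtype
  exact ⟨⟨x, hxL⟩, h3, rfl⟩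

/-- External characteristic `p` gives the internal form. -/
theorem char_int {G : Type*} [Group G] {p : ℕ} (L : Subgroup G)
    (h : ∀ x ∈ L, x ∈ Subgroup.centralizer ((Cfsg.pCoreOf p L : Subgroup G) : Set G) →
      x ∈ Cfsg.pCoreOf p L) :
    Subgroup.centralizer (Cfsg.pCore p ↥L : Set ↥L) ≤ Cfsg.pCore p ↥L := by
  intro x hx
  have h1 : (x : G) ∈ Subgroup.centralizer ((Cfsg.pCoreOf p L : Subgroup G) : Set G) := by
    rw [Subgroup.mem_centralizer_iff]
    intro y0 hy0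
    have hy1 : y0 ∈ (Cfsg.pCore p ↥L).map L.subtype := hy0
    obtain ⟨y, hy, rfl⟩ := hy1
    have h2 := Subgroup.mem_centralizer_iff.mp hx y hy
    have h3 := congrArg Subtype.val h2
    exact h3
  have h5 : (x : G) ∈ (Cfsg.pCore p ↥L).map L.subtype := h x x.2 h1
  obtain ⟨y, hy, hyx⟩ := h5
  have h4 : y = x := Subtype.ext hyx
  rw [← h4]; exact hy

theorem pCoreOf_map_conj_le' {G : Type*} [Group G] (p : ℕ) (L : Subgroup G) (c : G) :
    (Cfsg.pCoreOf p L).map (MulAut.conj c).toMonoidHom ≤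
      Cfsg.pCoreOf p (L.map (MulAut.conj c).toMonoidHom) := by
  refine Cfsg.Agent.Helper7.le_pCoreOf_of_normal_pgroup p _ _ ?_ ?_ ?_
  · exact Subgroup.map_mono (Cfsg.Agent.Helper14.pCoreOf_le p L)
  · rw [Cfsg.Agent.Helper14.normalizer_map_conj]
    exact Subgroup.map_mono (Cfsg.Agent.Helper7.le_normalizer_map_subtype _)
  · exact Cfsg.Agent.Helper14.isPGroup_map_conj _ c (Cfsg.Agent.Helper14.pCoreOf_isPGroup p L)

theorem pCoreOf_map_conj_eq {G : Type*} [Group G] (p : ℕ) (L : Subgroup G) (c : G) :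
    Cfsg.pCoreOf p (L.map (MulAut.conj c).toMonoidHom) =
      (Cfsg.pCoreOf p L).map (MulAut.conj c).toMonoidHom := by
  refine le_antisymm ?_ (pCoreOf_map_conj_le' p L c)
  have h1 := pCoreOf_map_conj_le' p (L.map (MulAut.conj c).toMonoidHom) c⁻¹
  rw [Cfsg.Agent.Helper14.map_conj_inv_map_conj L c] at h1
  have h2 := Subgroup.map_mono (f := (MulAut.conj c).toMonoidHom) h1
  rw [Cfsg.Agent.Helper14.map_conj_map_conj_inv
    (Cfsg.pCoreOf p (L.map (MulAut.conj c).toMonoidHom)) c] at h2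
  exact h2

/-- Characteristic `p` (external form) is invariant under conjugation. -/
theorem char_ext_conj {G : Type*} [Group G] {p : ℕ} (L : Subgroup G) (c : G)
    (h : ∀ x ∈ L, x ∈ Subgroup.centralizer ((Cfsg.pCoreOf p L : Subgroup G) : Set G) →
      x ∈ Cfsg.pCoreOf p L) :
    ∀ x ∈ L.map (MulAut.conj c).toMonoidHom,
      x ∈ Subgroup.centralizer
        ((Cfsg.pCoreOf p (L.map (MulAut.conj c).toMonoidHom) : Subgroup G) : Set G) →
      x ∈ Cfsg.pCoreOf p (L.map (MulAut.conj c).toMonoidHom) := by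
  intro x hxL hx
  rw [pCoreOf_map_conj_eq] at hx
  rw [pCoreOf_map_conj_eq]
  rw [Cfsg.Agent.Helper14.mem_map_conj] at hxL
  rw [Cfsg.Agent.Helper14.mem_map_conj]
  apply h _ hxL
  rw [Subgroup.mem_centralizer_iff]
  intro y hy
  have h1 : c * y * c⁻¹ ∈ (Cfsg.pCoreOf p L).map (MulAut.conj c).toMonoidHom :=
    Cfsg.Agent.Helper14.conj_mem_map_conj _ c hy
  have h2 := Subgroup.mem_centralizer_iff.mp hx _ h1
  calc y * (c⁻¹ * x * c) = c⁻¹ * (c * y * c⁻¹ * x) * c := by group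
    _ = c⁻¹ * (x * (c * y * c⁻¹)) * c := by rw [h2]
    _ = c⁻¹ * x * c * y := by group

/-- A subgroup of a group of characteristic `p` normalized by `O_p` has characteristic `p`. -/
theorem char_of_normalized {G : Type*} [Group G] [Finite G] {p : ℕ} [Fact p.Prime]
    (H P : Subgroup G)
    (hH : ∀ x ∈ H, x ∈ Subgroup.centralizer ((Cfsg.pCoreOf p H : Subgroup G) : Set G) →
      x ∈ Cfsg.pCoreOf p H)
    (hPH : P ≤ H) (hAP : Cfsg.pCoreOf p H ≤ Subgroup.normalizer (P : Set G)) :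
    ∀ x ∈ P, x ∈ Subgroup.centralizer ((Cfsg.pCoreOf p P : Subgroup G) : Set G) →
      x ∈ Cfsg.pCoreOf p P := by
  have hHA : H ≤ Subgroup.normalizer ((Cfsg.pCoreOf p H : Subgroup G) : Set G) :=
    Cfsg.Agent.Helper7.le_normalizer_map_subtype _
  have hPB : P ≤ Subgroup.normalizer ((Cfsg.pCoreOf p P : Subgroup G) : Set G) :=
    Cfsg.Agent.Helper7.le_normalizer_map_subtype _
  have hAp : IsPGroup p ↥(Cfsg.pCoreOf p H) := Cfsg.Agent.Helper14.pCoreOf_isPGroup p H
  have hBp : IsPGroup p ↥(Cfsg.pCoreOf p P) := Cfsg.Agent.Helper14.pCoreOf_isPGroup p P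
  obtain ⟨A, hA⟩ : ∃ A : Subgroup G, A = Cfsg.pCoreOf p H := ⟨_, rfl⟩
  obtain ⟨B, hB⟩ : ∃ B : Subgroup G, B = Cfsg.pCoreOf p P := ⟨_, rfl⟩
  rw [← hA] at hH hAP hHA hAp
  rw [← hB] at hPB hBp
  rw [← hB]
  have h1 : A ⊓ P ≤ B := by
    rw [hB]
    refine Cfsg.Agent.Helper7.le_pCoreOf_of_normal_pgroup p _ _ inf_le_right ?_
      (hAp.to_le inf_le_left)
    apply Cfsg.Agent.Helper7.le_normalizer_of_conj_mem
    intro x hx y hy
    rw [Subgroup.mem_inf] at hy ⊢
    exact ⟨(Subgroup.mem_normalizer_iff.mp (hHA (hPH hx)) y).mp hy.1,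
      P.mul_mem (P.mul_mem hx hy.2) (P.inv_mem hx)⟩
  have hCp : IsPGroup p ↥(P ⊓ Subgroup.centralizer (B : Set G)) := by
    apply Cfsg.Agent.Helper7.isPGroup_of_forall_coprime_eq_one p
    intro x hx hxo
    rw [Subgroup.mem_inf] at hx
    obtain ⟨hxP, hxC⟩ := hx
    have hxA : x ∈ A := by
      apply hH x (hPH hxP)
      rw [Subgroup.mem_centralizer_iff]
      intro a ha
      obtain ⟨b, hb⟩ : ∃ b : G, b = x * a * x⁻¹ * a⁻¹ := ⟨_, rfl⟩
      have hbA : b ∈ A := by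
        rw [hb]
        exact A.mul_mem ((Subgroup.mem_normalizer_iff.mp (hHA (hPH hxP)) a).mp ha)
          (A.inv_mem ha)
      have hbP : b ∈ P := by
        have h2 : a * x⁻¹ * a⁻¹ ∈ P :=
          (Subgroup.mem_normalizer_iff.mp (hAP ha) x⁻¹).mp (P.inv_mem hxP)
        have e : b = x * (a * x⁻¹ * a⁻¹) := by rw [hb]; group
        rw [e]
        exact P.mul_mem hxP h2
      have hbB : b ∈ B := h1 (Subgroup.mem_inf.mpr ⟨hbA, hbP⟩)
      have hcomm : Commute x b := (Subgroup.mem_centralizer_iff.mp hxC b hbB).symm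
      have hpow : ∀ n : ℕ, x ^ n * a * (x ^ n)⁻¹ = b ^ n * a := by
        intro n
        induction n with
        | zero => simp
        | succ n ih =>
          have e1 : x ^ (n + 1) * a * (x ^ (n + 1))⁻¹ =
              x * (x ^ n * a * (x ^ n)⁻¹) * x⁻¹ := by
            rw [pow_succ']
            generalize x ^ n = w
            group
          have e2 : x * b ^ n = b ^ n * x := (hcomm.pow_right n).eq
          have e3 : x * a * x⁻¹ = b * a := by rw [hb]; group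
          rw [e1, ih]
          calc x * (b ^ n * a) * x⁻¹ = (x * b ^ n) * (a * x⁻¹) := by simp only [mul_assoc]
            _ = b ^ n * x * (a * x⁻¹) := by rw [e2]
            _ = b ^ n * (x * a * x⁻¹) := by simp only [mul_assoc]
            _ = b ^ n * (b * a) := by rw [e3]
            _ = b ^ (n + 1) * a := by rw [pow_succ, mul_assoc]
      have hbn : b ^ orderOf x = 1 := by
        have h3 := hpow (orderOf x)
        rw [pow_orderOf_eq_one] at h3
        have h4 : b ^ orderOf x * a = 1 * a := by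
          rw [← h3]; group
        exact mul_right_cancel h4
      obtain ⟨k, hk⟩ := hBp ⟨b, hbB⟩
      have hk' : b ^ p ^ k = 1 := congrArg Subtype.val hk
      have hb1 : b = 1 := by
        have hd1 : orderOf b ∣ orderOf x := orderOf_dvd_of_pow_eq_one hbn
        have hd2 : orderOf b ∣ p ^ k := orderOf_dvd_of_pow_eq_one hk'
        have hcop : Nat.Coprime (p ^ k) (orderOf x) := Nat.Coprime.pow_left k hxo.symm
        have h6 : orderOf b = 1 :=
          Nat.Coprime.eq_one_of_dvd (Nat.Coprime.coprime_dvd_left hd2 hcop) hd1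
        exact orderOf_eq_one_iff.mp h6
      rw [hb1] at hb
      have h7 : x * a * x⁻¹ = a := mul_inv_eq_one.mp hb.symm
      have h8 : x * a = a * x := mul_inv_eq_iff_eq_mul.mp h7
      exact h8.symm
    obtain ⟨k, hk⟩ := hAp ⟨x, hxA⟩
    have hk' : x ^ p ^ k = 1 := congrArg Subtype.val hk
    have hd : orderOf x ∣ p ^ k := orderOf_dvd_of_pow_eq_one hk'
    have h6 : orderOf x = 1 := Nat.Coprime.eq_one_of_dvd (Nat.Coprime.pow_right k hxo) hd
    exact orderOf_eq_one_iff.mp h6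
  have hPC : P ≤ Subgroup.normalizer
      ((P ⊓ Subgroup.centralizer (B : Set G) : Subgroup G) : Set G) := by
    apply Cfsg.Agent.Helper7.le_normalizer_of_conj_mem
    intro g hg y hy
    rw [Subgroup.mem_inf] at hy ⊢
    refine ⟨P.mul_mem (P.mul_mem hg hy.1) (P.inv_mem hg), ?_⟩
    have hgN := Cfsg.Agent.Helper7.normalizer_le_normalizer_centralizer' B (hPB hg)
    exact (Subgroup.mem_normalizer_iff.mp hgN y).mp hy.2
  have hCB : P ⊓ Subgroup.centralizer (B : Set G) ≤ B := by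
    rw [hB]
    rw [hB] at hPC hCp
    exact Cfsg.Agent.Helper7.le_pCoreOf_of_normal_pgroup p _ _ inf_le_left hPC hCp
  intro x hxP hxC
  exact hCB (Subgroup.mem_inf.mpr ⟨hxP, hxC⟩)

/-- Existence of a member of `ℌ_G(O_p(M))` when `Y_M` is char-`p`-tall and asymmetric. -/
theorem exists_frakH {G : Type*} [Group G] [Finite G] {p : ℕ} [Fact p.Prime] (S : Sylow p G)
    (Q : Subgroup G) (hQp : IsPGroup p ↥Q) (hQ1 : Q ≠ ⊥) (hQ : Cfsg.IsLarge Q)
    (M : Subgroup G) (hSM : (S : Subgroup G) ≤ M) (hM : Cfsg.IsInFrakM p M)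
    (htall : Cfsg.IsCharPTall p (Cfsg.largestPReducedOf p M))
    (hasym : ¬ Cfsg.IsSymmetricIn (Cfsg.largestPReducedOf p M)) :
    ∃ H : Subgroup G, Cfsg.IsInFrakH p M H := by
  classical
  obtain ⟨h1, hwc, -, -⟩ := Cfsg.Agent.Helper9.Asym.main S Q hQp hQ1 hQ M hSM hM hasym
  have hOp : IsPGroup p ↥(Cfsg.pCoreOf p M) := Cfsg.Agent.Helper14.pCoreOf_isPGroup p M
  have hOC : Cfsg.pCoreOf p M ≤
      Subgroup.centralizer ((Cfsg.largestPReducedOf p M : Subgroup G) : Set G) :=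
    Cfsg.Agent.Helper14.pCoreOf_le_centralizer_largestPReducedOf p M
  have hYO : Cfsg.largestPReducedOf p M ≤ Cfsg.pCoreOf p M :=
    largestPReducedOf_le_pCoreOf M
  have hMdY : (M ⊔ Subgroup.centralizer ((Cfsg.largestPReducedOf p M : Subgroup G) : Set G)) ≤
      Subgroup.normalizer ((Cfsg.largestPReducedOf p M : Subgroup G) : Set G) :=
    sup_le (Cfsg.Agent.Helper9.FrakM.le_normalizer_largestPReducedOf (p := p) M)
      (Subgroup.centralizer_le_normalizer _)
  have hNO : Subgroup.normalizer ((Cfsg.pCoreOf p M : Subgroup G) : Set G) ≤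
      Subgroup.normalizer ((Cfsg.largestPReducedOf p M : Subgroup G) : Set G) :=
    (h1 _ hOp le_rfl).2.trans hMdY
  -- Step 1: a subgroup of characteristic p above O_p(M)
  obtain ⟨T, L, hTL, hLc, hYL⟩ := htall
  have hOsub : IsPGroup p ↥((Cfsg.pCoreOf p M).subgroupOf
      (Subgroup.centralizer ((Cfsg.largestPReducedOf p M : Subgroup G) : Set G))) :=
    hOp.comap_subtype
  obtain ⟨c, hc⟩ := Cfsg.Agent.Helper14.exists_le_sylow_conj T _ hOsub
  have hOL : Cfsg.pCoreOf p M ≤ L.map (MulAut.conj (c : G)).toMonoidHom := by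
    intro x hx
    have hxC := hOC hx
    have h2 : (⟨x, hxC⟩ : ↥(Subgroup.centralizer
        ((Cfsg.largestPReducedOf p M : Subgroup G) : Set G))) ∈
        ((T : Subgroup _).map (MulAut.conj c).toMonoidHom) :=
      hc (Subgroup.mem_subgroupOf.mpr hx)
    rw [Cfsg.Agent.Helper14.mem_map_conj] at h2
    rw [Cfsg.Agent.Helper14.mem_map_conj]
    have h3 : (c : G)⁻¹ * x * (c : G) ∈ (T : Subgroup _).map (Subgroup.centralizer
        ((Cfsg.largestPReducedOf p M : Subgroup G) : Set G)).subtype :=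
      ⟨c⁻¹ * ⟨x, hxC⟩ * c, h2, rfl⟩
    exact hTL h3
  have hH0c := char_ext_conj L (c : G) (char_ext L hLc)
  have hH0Y : ¬ Cfsg.largestPReducedOf p M ≤
      Cfsg.pCoreOf p (L.map (MulAut.conj (c : G)).toMonoidHom) := by
    intro hle
    apply hYL
    intro y hy
    have h2 := hle hy
    rw [pCoreOf_map_conj_eq, Cfsg.Agent.Helper14.mem_map_conj] at h2
    have h3 : (c : G)⁻¹ * y * (c : G) = y := by
      have h4 := Subgroup.mem_centralizer_iff.mp c.2 y hy
      rw [mul_assoc, h4, inv_mul_cancel_left]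
    rw [h3] at h2
    exact h2
  -- Step 2: a minimal one
  have hex : ∃ n : ℕ, ∃ H : Subgroup G,
      ((∀ x ∈ H, x ∈ Subgroup.centralizer ((Cfsg.pCoreOf p H : Subgroup G) : Set G) →
          x ∈ Cfsg.pCoreOf p H) ∧
        Cfsg.pCoreOf p M ≤ H ∧ ¬ Cfsg.largestPReducedOf p M ≤ Cfsg.pCoreOf p H) ∧
      Nat.card ↥H = n :=
    ⟨_, L.map (MulAut.conj (c : G)).toMonoidHom, ⟨hH0c, hOL, hH0Y⟩, rfl⟩
  obtain ⟨H, ⟨hHc, hOH, hHY⟩, hHn⟩ := Nat.find_spec hex
  have hHmin : ∀ H' : Subgroup G,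
      (∀ x ∈ H', x ∈ Subgroup.centralizer ((Cfsg.pCoreOf p H' : Subgroup G) : Set G) →
          x ∈ Cfsg.pCoreOf p H') →
      Cfsg.pCoreOf p M ≤ H' → ¬ Cfsg.largestPReducedOf p M ≤ Cfsg.pCoreOf p H' →
      Nat.card ↥H ≤ Nat.card ↥H' := by
    intro H' h1' h2' h3'
    rw [hHn]
    exact Nat.find_min' hex ⟨H', ⟨h1', h2', h3'⟩, rfl⟩
  refine ⟨H, ?_⟩
  unfold Cfsg.IsInFrakH
  refine ⟨char_int H hHc, hOH, hHY, ?_⟩
  intro P hOP hPH
  by_contra hPY
  have hex2 : ∃ n : ℕ, ∃ R : Subgroup G,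
      (Cfsg.pCoreOf p M ≤ R ∧ R < H ∧ ¬ Cfsg.largestPReducedOf p M ≤ Cfsg.pCoreOf p R) ∧
      Nat.card ↥R = n :=
    ⟨_, P, ⟨hOP, hPH, hPY⟩, rfl⟩
  obtain ⟨R, ⟨hOR, hRH, hRY⟩, hRn⟩ := Nat.find_spec hex2
  have hRmin : ∀ R' : Subgroup G, Cfsg.pCoreOf p M ≤ R' → R' < H →
      ¬ Cfsg.largestPReducedOf p M ≤ Cfsg.pCoreOf p R' → Nat.card ↥R ≤ Nat.card ↥R' := by
    intro R' h1' h2' h3'
    rw [hRn]
    exact Nat.find_min' hex2 ⟨R', ⟨h1', h2', h3'⟩, rfl⟩
  have hHA : H ≤ Subgroup.normalizer ((Cfsg.pCoreOf p H : Subgroup G) : Set G) :=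
    Cfsg.Agent.Helper7.le_normalizer_map_subtype _
  have hAp : IsPGroup p ↥(Cfsg.pCoreOf p H) := Cfsg.Agent.Helper14.pCoreOf_isPGroup p H
  have hAO : Cfsg.pCoreOf p H ≤
      Subgroup.normalizer ((Cfsg.pCoreOf p M : Subgroup G) : Set G) := by
    have hp : IsPGroup p ↥(Cfsg.pCoreOf p M ⊔ Cfsg.pCoreOf p H) :=
      IsPGroup.to_sup_of_normal_right' hOp hAp (hOH.trans hHA)
    exact le_sup_right.trans (Cfsg.Agent.Helper14.wc'_le_normalizer
      (Cfsg.Agent.Helper14.wc'_of_isWeaklyClosedSubgroup hwc) _ hp le_sup_left)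
  have hAY : Cfsg.pCoreOf p H ≤
      Subgroup.normalizer ((Cfsg.largestPReducedOf p M : Subgroup G) : Set G) :=
    hAO.trans hNO
  obtain ⟨N, hN⟩ : ∃ N : Subgroup G, N = Subgroup.closure
      {x : G | ∃ h ∈ R, ∃ y ∈ Cfsg.largestPReducedOf p M, x = h * y * h⁻¹} := ⟨_, rfl⟩
  have hYN : Cfsg.largestPReducedOf p M ≤ N := by
    intro y hy
    rw [hN]
    exact Subgroup.subset_closure ⟨1, R.one_mem, y, hy, by simp⟩
  have hNR : N ≤ R := by
    rw [hN, Subgroup.closure_le]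
    rintro x ⟨h, hh, y, hy, rfl⟩
    exact R.mul_mem (R.mul_mem hh (hOR (hYO hy))) (R.inv_mem hh)
  have hRN : R ≤ Subgroup.normalizer (N : Set G) := by
    apply Cfsg.Agent.Helper7.le_normalizer_of_conj_mem
    intro g hg x hx
    rw [hN] at hx ⊢
    induction hx using Subgroup.closure_induction with
    | mem x hx =>
      obtain ⟨h, hh, y, hy, rfl⟩ := hx
      exact Subgroup.subset_closure ⟨g * h, R.mul_mem hg hh, y, hy, by group⟩
    | one => simp
    | mul x y _ _ ihx ihy =>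
      have e : g * (x * y) * g⁻¹ = (g * x * g⁻¹) * (g * y * g⁻¹) := by group
      rw [e]; exact Subgroup.mul_mem _ ihx ihy
    | inv x _ ih =>
      have e : g * x⁻¹ * g⁻¹ = (g * x * g⁻¹)⁻¹ := by group
      rw [e]; exact Subgroup.inv_mem _ ih
  have hAN : Cfsg.pCoreOf p H ≤ Subgroup.normalizer (N : Set G) := by
    apply Cfsg.Agent.Helper7.le_normalizer_of_conj_mem
    intro a ha x hx
    rw [hN] at hx ⊢
    induction hx using Subgroup.closure_induction with
    | mem x hx =>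
      obtain ⟨h, hh, y, hy, rfl⟩ := hx
      have hhH : h ∈ H := hRH.le hh
      have ha' : h⁻¹ * a * h ∈ Cfsg.pCoreOf p H := by
        have := (Subgroup.mem_normalizer_iff.mp (hHA (H.inv_mem hhH)) a).mp ha
        rwa [inv_inv] at this
      have hy' : (h⁻¹ * a * h) * y * (h⁻¹ * a * h)⁻¹ ∈ Cfsg.largestPReducedOf p M :=
        (Subgroup.mem_normalizer_iff.mp (hAY ha') y).mp hy
      exact Subgroup.subset_closure ⟨h, hh, _, hy', by group⟩
    | one => simp
    | mul x y _ _ ihx ihy =>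
      have e : a * (x * y) * a⁻¹ = (a * x * a⁻¹) * (a * y * a⁻¹) := by group
      rw [e]; exact Subgroup.mul_mem _ ihx ihy
    | inv x _ ih =>
      have e : a * x⁻¹ * a⁻¹ = (a * x * a⁻¹)⁻¹ := by group
      rw [e]; exact Subgroup.inv_mem _ ih
  have hAP1 : Cfsg.pCoreOf p H ≤
      Subgroup.normalizer ((N ⊔ Cfsg.pCoreOf p M : Subgroup G) : Set G) :=
    (le_inf hAN hAO).trans (Subgroup.normalizer_inf_normalizer_le_normalizer_sup N _)
  have hP1R : N ⊔ Cfsg.pCoreOf p M ≤ R := sup_le hNR hOR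
  have hP1eq : N ⊔ Cfsg.pCoreOf p M = R := by
    by_cases hY1 : Cfsg.largestPReducedOf p M ≤ Cfsg.pCoreOf p (N ⊔ Cfsg.pCoreOf p M)
    · exfalso
      apply hRY
      have hZ : Cfsg.pCoreOf p (N ⊔ Cfsg.pCoreOf p M) ⊓ N ≤ Cfsg.pCoreOf p N := by
        refine Cfsg.Agent.Helper7.le_pCoreOf_of_normal_pgroup p _ _ inf_le_right ?_
          ((Cfsg.Agent.Helper14.pCoreOf_isPGroup p _).to_le inf_le_left)
        apply Cfsg.Agent.Helper7.le_normalizer_of_conj_mem
        intro g hg x hx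
        rw [Subgroup.mem_inf] at hx ⊢
        refine ⟨?_, N.mul_mem (N.mul_mem hg hx.2) (N.inv_mem hg)⟩
        have hgN : g ∈ Subgroup.normalizer
            ((Cfsg.pCoreOf p (N ⊔ Cfsg.pCoreOf p M) : Subgroup G) : Set G) :=
          Cfsg.Agent.Helper7.le_normalizer_map_subtype _
            ((le_sup_left : N ≤ N ⊔ Cfsg.pCoreOf p M) hg)
        exact (Subgroup.mem_normalizer_iff.mp hgN x).mp hx.1
      have hNP := Cfsg.Agent.Helper14.pCoreOf_le_pCoreOf_of_le_normalizer p N R hNR hRN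
      exact fun y hy => hNP (hZ (Subgroup.mem_inf.mpr ⟨hY1 hy, hYN hy⟩))
    · have hlt : N ⊔ Cfsg.pCoreOf p M < H := lt_of_le_of_lt hP1R hRH
      have hcard := hRmin _ le_sup_right hlt hY1
      exact Subgroup.eq_of_le_of_card_ge hP1R hcard
  rw [hP1eq] at hAP1
  have hRc := char_of_normalized H R hHc hRH.le hAP1
  have hcard := hHmin R hRc hOR hRY
  exact (ne_of_lt hRH) (Subgroup.eq_of_le_of_card_ge hRH.le hcard)

end Cfsg.Agent.Helper9.FrakH
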