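-- helper9: structure of members of frak H_G(O_p(M)).
import Mathlib
import Cfsg.Prelude.Def_LocalStructure
import Cfsg.Agent.Helper9.FrakH

set_option autoImplicit false

namespace Cfsg.Agent.Helper9.FrakH

open Cfsg

/-- `O_p(P) ∩ W ≤ O_p(W)` for `W ≤ P`. -/
theorem pCoreOf_inf_le {G : Type*} [Group G] (p : ℕ) (P W : Subgroup G) (hWP : W ≤ P) :
    Cfsg.pCoreOf p P ⊓ W ≤ Cfsg.pCoreOf p W := by
  refine Cfsg.Agent.Helper7.le_pCoreOf_of_normal_pgroup p _ _ inf_le_right ?_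
    ((Cfsg.Agent.Helper14.pCoreOf_isPGroup p _).to_le inf_le_left)
  apply Cfsg.Agent.Helper7.le_normalizer_of_conj_mem
  intro g hg x hx
  rw [Subgroup.mem_inf] at hx ⊢
  refine ⟨?_, W.mul_mem (W.mul_mem hg hx.2) (W.inv_mem hg)⟩
  have hgN : g ∈ Subgroup.normalizer ((Cfsg.pCoreOf p P : Subgroup G) : Set G) :=
    Cfsg.Agent.Helper7.le_normalizer_map_subtype _ (hWP hg)
  exact (Subgroup.mem_normalizer_iff.mp hgN x).mp hx.1

theorem le_map_normalClosure {G : Type*} [Group G] (H V : Subgroup G) (hVH : V ≤ H) :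
    V ≤ (Subgroup.normalClosure ((V.subgroupOf H : Subgroup ↥H) : Set ↥H)).map H.subtype := by
  intro x hx
  have h0 : (⟨x, hVH hx⟩ : ↥H) ∈ Subgroup.normalClosure ((V.subgroupOf H : Subgroup ↥H) : Set ↥H) :=
    Subgroup.subset_normalClosure (Subgroup.mem_subgroupOf.mpr hx)
  exact ⟨⟨x, hVH hx⟩, h0, rfl⟩

theorem map_normalClosure_le {G : Type*} [Group G] (H X V : Subgroup G) (hXH : X ≤ H)
    (hHX : H ≤ Subgroup.normalizer (X : Set G)) (hVX : V ≤ X) :
    (Subgroup.normalClosure ((V.subgroupOf H : Subgroup ↥H) : Set ↥H)).map H.subtype ≤ X := by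
  haveI : (X.subgroupOf H).Normal := (Subgroup.normal_subgroupOf_iff_le_normalizer hXH).mpr hHX
  have h1 : Subgroup.normalClosure ((V.subgroupOf H : Subgroup ↥H) : Set ↥H) ≤ X.subgroupOf H :=
    Subgroup.normalClosure_le_normal
      (fun x hx => Subgroup.mem_subgroupOf.mpr (hVX (Subgroup.mem_subgroupOf.mp hx)))
  rintro _ ⟨x, hx, rfl⟩
  exact Subgroup.mem_subgroupOf.mp (h1 hx)

theorem normalizer_inf_le_normalizer_commutator {G : Type*} [Group G] (A B : Subgroup G) :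
    Subgroup.normalizer (A : Set G) ⊓ Subgroup.normalizer (B : Set G) ≤
      Subgroup.normalizer ((⁅A, B⁆ : Subgroup G) : Set G) := by
  intro g hg
  rw [Subgroup.mem_inf, Subgroup.mem_normalizer_iff_map_conj_eq,
    Subgroup.mem_normalizer_iff_map_conj_eq] at hg
  rw [Subgroup.mem_normalizer_iff_map_conj_eq, Subgroup.map_commutator, hg.1, hg.2]

/-- If `K ≤ H` contains a Sylow `p`-subgroup of `H`, every Sylow `p`-subgroup of `K` is one of `H`. -/
theorem exists_sylow_map_eq {G : Type*} [Group G] [Finite G] {p : ℕ} [Fact p.Prime]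
    (H K : Subgroup G) (hKH : K ≤ H)
    (hpar : ∃ P₀ : Sylow p ↥H, (P₀ : Subgroup ↥H) ≤ K.subgroupOf H) (T : Sylow p ↥K) :
    ∃ P : Sylow p ↥H, (P : Subgroup ↥H).map H.subtype = (T : Subgroup ↥K).map K.subtype := by
  obtain ⟨P₀, hP₀⟩ := hpar
  have hp := (Fact.out : p.Prime)
  obtain ⟨TG, hTG⟩ : ∃ TG : Subgroup G, TG = (T : Subgroup ↥K).map K.subtype := ⟨_, rfl⟩
  have hTGK : TG ≤ K := by rw [hTG]; exact Subgroup.map_subtype_le _
  have hTGH : TG ≤ H := hTGK.trans hKH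
  have hTGp : IsPGroup p ↥TG := by rw [hTG]; exact T.isPGroup'.map _
  have hT'p : IsPGroup p ↥(TG.subgroupOf H) := hTGp.comap_subtype
  obtain ⟨P, hP⟩ := hT'p.exists_le_sylow
  have hc1 : Nat.card ↥(TG.subgroupOf H) = Nat.card ↥(T : Subgroup ↥K) := by
    have h1 : Nat.card ↥(TG.subgroupOf H) = Nat.card ↥TG :=
      Nat.card_congr (Subgroup.subgroupOfEquivOfLe hTGH).toEquiv
    have h2 : Nat.card ↥((T : Subgroup ↥K).map K.subtype) = Nat.card ↥(T : Subgroup ↥K) :=
      Subgroup.card_map_of_injective (Subgroup.subtype_injective K)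
    rw [h1, hTG, h2]
  have hcP : Nat.card ↥(P : Subgroup ↥H) = p ^ (Nat.card ↥H).factorization p :=
    Sylow.card_eq_multiplicity P
  have hcT : Nat.card ↥(T : Subgroup ↥K) = p ^ (Nat.card ↥K).factorization p :=
    Sylow.card_eq_multiplicity T
  have hcP₀ : Nat.card ↥(P₀ : Subgroup ↥H) = p ^ (Nat.card ↥H).factorization p :=
    Sylow.card_eq_multiplicity P₀
  have hdvd : p ^ (Nat.card ↥H).factorization p ∣ Nat.card ↥K := by
    have h1 : Nat.card ↥(P₀ : Subgroup ↥H) ∣ Nat.card ↥(K.subgroupOf H) :=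
      Subgroup.card_dvd_of_le hP₀
    have h2 : Nat.card ↥(K.subgroupOf H) = Nat.card ↥K :=
      Nat.card_congr (Subgroup.subgroupOfEquivOfLe hKH).toEquiv
    rw [hcP₀, h2] at h1
    exact h1
  have hK0 : Nat.card ↥K ≠ 0 := (Nat.card_pos (α := ↥K)).ne'
  have hab : (Nat.card ↥H).factorization p ≤ (Nat.card ↥K).factorization p :=
    (Nat.Prime.pow_dvd_iff_le_factorization hp hK0).mp hdvd
  have hc2 : Nat.card ↥(P : Subgroup ↥H) ≤ Nat.card ↥(TG.subgroupOf H) := by
    rw [hc1, hcP, hcT]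
    exact Nat.pow_le_pow_right hp.pos hab
  have heq : TG.subgroupOf H = (P : Subgroup ↥H) := Subgroup.eq_of_le_of_card_ge hP hc2
  refine ⟨P, ?_⟩
  rw [← heq, ← hTG]
  exact Subgroup.map_subgroupOf_eq_of_le hTGH

/-- A normal subgroup of `H ∈ ℌ` containing `O` is `H`. -/
theorem eq_of_normal {G : Type*} [Group G] {p : ℕ} (H O Y P : Subgroup G)
    (hYH : ¬ Y ≤ Cfsg.pCoreOf p H)
    (hmin : ∀ P : Subgroup G, O ≤ P → P < H → Y ≤ Cfsg.pCoreOf p P)
    (hOP : O ≤ P) (hPH : P ≤ H) (hHP : H ≤ Subgroup.normalizer (P : Set G)) : P = H := by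
  by_contra hne
  exact hYH ((hmin P hOP (lt_of_le_of_ne hPH hne)).trans
    (Cfsg.Agent.Helper14.pCoreOf_le_pCoreOf_of_le_normalizer p P H hPH hHP))

theorem pCoreOf_le_normalizer_of_wc {G : Type*} [Group G] [Finite G] {p : ℕ} [Fact p.Prime]
    (H O : Subgroup G) (hOp : IsPGroup p ↥O) (hwc : Cfsg.Agent.Helper14.WC' p O) (hOH : O ≤ H) :
    Cfsg.pCoreOf p H ≤ Subgroup.normalizer (O : Set G) := by
  have hHA : H ≤ Subgroup.normalizer ((Cfsg.pCoreOf p H : Subgroup G) : Set G) :=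
    Cfsg.Agent.Helper7.le_normalizer_map_subtype _
  have hp : IsPGroup p ↥(O ⊔ Cfsg.pCoreOf p H) :=
    IsPGroup.to_sup_of_normal_right' hOp (Cfsg.Agent.Helper14.pCoreOf_isPGroup p H)
      (hOH.trans hHA)
  exact le_sup_right.trans (Cfsg.Agent.Helper14.wc'_le_normalizer hwc _ hp le_sup_left)

/-- Abstract structure of a minimal `H`: `O` a weakly closed `p`-subgroup, `Y ≤ O` normalized by `O`,
`Y ≰ O_p(H)` but `Y ≤ O_p(P)` for all proper `P ≥ O`. -/
theorem struct_core {G : Type*} [Group G] [Finite G] {p : ℕ} [Fact p.Prime]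
    (H O Y R : Subgroup G)
    (hOp : IsPGroup p ↥O) (hYp : IsPGroup p ↥Y) (hYO : Y ≤ O) (hOH : O ≤ H)
    (hOY : O ≤ Subgroup.normalizer (Y : Set G)) (hwc : Cfsg.Agent.Helper14.WC' p O)
    (hYH : ¬ Y ≤ Cfsg.pCoreOf p H)
    (hmin : ∀ P : Subgroup G, O ≤ P → P < H → Y ≤ Cfsg.pCoreOf p P)
    (hR : R = (Cfsg.pResidual p ↥H).map H.subtype) :
    ⁅R, Y⁆ = R ∧ R ⊔ O = H ∧
      R ⊔ Y = (Subgroup.normalClosure ((Y.subgroupOf H : Subgroup ↥H) : Set ↥H)).map H.subtype ∧
      (Subgroup.normalClosure ((O.subgroupOf H : Subgroup ↥H) : Set ↥H)).map H.subtype = H := by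
  haveI := Cfsg.Agent.Helper6.pResidual_normal p ↥H
  have hYH' : Y ≤ H := hYO.trans hOH
  have hRH : R ≤ H := by rw [hR]; exact Subgroup.map_subtype_le _
  have hHR : H ≤ Subgroup.normalizer (R : Set G) := by
    rw [hR]; exact Cfsg.Agent.Helper7.le_normalizer_map_subtype _
  have hRcl : R = Subgroup.closure {x : G | x ∈ H ∧ Nat.Coprime (orderOf x) p} :=
    hR.trans (Cfsg.Agent.Helper14.map_pResidual_eq_closure p H)
  have hRle : ∀ Z : Subgroup G, (∀ x ∈ H, Nat.Coprime (orderOf x) p → x ∈ Z) → R ≤ Z := by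
    intro Z hZ
    rw [hRcl, Subgroup.closure_le]
    rintro x ⟨hxH, hxo⟩
    exact hZ x hxH hxo
  -- H = R O
  obtain ⟨T', hT'⟩ := (hOp.comap_subtype : IsPGroup p ↥(O.subgroupOf H)).exists_le_sylow
  obtain ⟨T, hT⟩ : ∃ T : Subgroup G, T = (T' : Subgroup ↥H).map H.subtype := ⟨_, rfl⟩
  have hOT : O ≤ T := by
    intro x hx
    rw [hT]
    exact ⟨⟨x, hOH hx⟩, hT' (Subgroup.mem_subgroupOf.mpr hx), rfl⟩
  have hTp : IsPGroup p ↥T := by rw [hT]; exact T'.isPGroup'.map _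
  have hTO : T ≤ Subgroup.normalizer (O : Set G) :=
    Cfsg.Agent.Helper14.wc'_le_normalizer hwc T hTp hOT
  have hTH : T ≤ H := by rw [hT]; exact Subgroup.map_subtype_le _
  have hRT : H ≤ R ⊔ T := by
    intro x hx
    have h0 : (⟨x, hx⟩ : ↥H) ∈ Cfsg.pResidual p ↥H ⊔ (T' : Subgroup ↥H) := by
      rw [Cfsg.Agent.Helper14.pResidual_sup_sylow T']; exact Subgroup.mem_top _
    have h1 : x ∈ (Cfsg.pResidual p ↥H ⊔ (T' : Subgroup ↥H)).map H.subtype :=
      ⟨⟨x, hx⟩, h0, rfl⟩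
    rw [Subgroup.map_sup, ← hR, ← hT] at h1
    exact h1
  have hd : R ⊔ O = H := by
    apply eq_of_normal H O Y (R ⊔ O) hYH hmin le_sup_right (sup_le hRH hOH)
    refine hRT.trans (sup_le (le_sup_left.trans Subgroup.le_normalizer) ?_)
    exact (le_inf (hTH.trans hHR) hTO).trans
      (Subgroup.normalizer_inf_normalizer_le_normalizer_sup R O)
  -- H is the normal closure of O
  have hf : (Subgroup.normalClosure ((O.subgroupOf H : Subgroup ↥H) : Set ↥H)).map H.subtype = H :=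
    eq_of_normal H O Y _ hYH hmin (le_map_normalClosure H O hOH) (Subgroup.map_subtype_le _)
      (Cfsg.Agent.Helper7.le_normalizer_map_subtype _)
  -- the normal closure of Y
  obtain ⟨W, hW⟩ : ∃ W : Subgroup G, W =
      (Subgroup.normalClosure ((Y.subgroupOf H : Subgroup ↥H) : Set ↥H)).map H.subtype := ⟨_, rfl⟩
  have hYW : Y ≤ W := by rw [hW]; exact le_map_normalClosure H Y hYH'
  have hWH : W ≤ H := by rw [hW]; exact Subgroup.map_subtype_le _
  have hHW : H ≤ Subgroup.normalizer (W : Set G) := by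
    rw [hW]; exact Cfsg.Agent.Helper7.le_normalizer_map_subtype _
  have hWO : W ⊔ O = H := by
    by_contra hne
    have hlt : W ⊔ O < H := lt_of_le_of_ne (sup_le hWH hOH) hne
    have h1 := hmin _ le_sup_right hlt
    have h2 : Y ≤ Cfsg.pCoreOf p W := fun y hy =>
      pCoreOf_inf_le p (W ⊔ O) W le_sup_left (Subgroup.mem_inf.mpr ⟨h1 hy, hYW hy⟩)
    exact hYH (h2.trans (Cfsg.Agent.Helper14.pCoreOf_le_pCoreOf_of_le_normalizer p W H hWH hHW))
  have hRW : R ≤ W := by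
    apply hRle
    intro x hxH hxo
    have hx : x ∈ W ⊔ O := by rw [hWO]; exact hxH
    exact Cfsg.Agent.Helper14.mem_of_coprime_of_mem_sup_normalizer W O (hOH.trans hHW) hOp x hx
      (orderOf x) hxo (pow_orderOf_eq_one x)
  have hORY : O ≤ Subgroup.normalizer ((R ⊔ Y : Subgroup G) : Set G) :=
    (le_inf (hOH.trans hHR) hOY).trans (Subgroup.normalizer_inf_normalizer_le_normalizer_sup R Y)
  have hHRY : H ≤ Subgroup.normalizer ((R ⊔ Y : Subgroup G) : Set G) := by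
    rw [← hd]
    exact sup_le (le_sup_left.trans Subgroup.le_normalizer) hORY
  have hWRY : W ≤ R ⊔ Y := by
    rw [hW]
    exact map_normalClosure_le H (R ⊔ Y) Y (sup_le hRH hYH') hHRY le_sup_right
  have he : R ⊔ Y = W := le_antisymm (sup_le hRW hYW) hWRY
  -- R = [R, Y]
  obtain ⟨X, hX⟩ : ∃ X : Subgroup G, X = ⁅R, Y⁆ := ⟨_, rfl⟩
  have hXR : X ≤ R := by
    rw [hX]; exact Cfsg.Agent.Helper14.commutator_le_left_of_le_normalizer R Y (hYH'.trans hHR)
  have hRX : R ≤ Subgroup.normalizer (X : Set G) := by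
    rw [hX]; exact Cfsg.Agent.Helper14.le_normalizer_commutator_left R Y
  have hOX : O ≤ Subgroup.normalizer (X : Set G) := by
    rw [hX]
    exact (le_inf (hOH.trans hHR) hOY).trans (normalizer_inf_le_normalizer_commutator R Y)
  have hHX : H ≤ Subgroup.normalizer (X : Set G) := by
    rw [← hd]; exact sup_le hRX hOX
  have hRXY : R ≤ Subgroup.normalizer ((X ⊔ Y : Subgroup G) : Set G) := by
    apply Cfsg.Agent.Helper7.le_normalizer_of_conj_mem
    intro r hr h hh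
    have hle : X ⊔ Y ≤ (X ⊔ Y).comap (MulAut.conj r).toMonoidHom := by
      refine sup_le ?_ ?_
      · intro x hx
        rw [Subgroup.mem_comap]
        show r * x * r⁻¹ ∈ X ⊔ Y
        exact Subgroup.mem_sup_left ((Subgroup.mem_normalizer_iff.mp (hRX hr) x).mp hx)
      · intro y hy
        rw [Subgroup.mem_comap]
        show r * y * r⁻¹ ∈ X ⊔ Y
        have hc : r * y * r⁻¹ * y⁻¹ ∈ X := by
          rw [hX, ← commutatorElement_def]
          exact Subgroup.commutator_mem_commutator hr hy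
        have e : r * y * r⁻¹ = (r * y * r⁻¹ * y⁻¹) * y := by group
        rw [e]
        exact Subgroup.mul_mem _ (Subgroup.mem_sup_left hc) (Subgroup.mem_sup_right hy)
    exact hle hh
  have hHXY : H ≤ Subgroup.normalizer ((X ⊔ Y : Subgroup G) : Set G) := by
    rw [← hd]
    exact sup_le hRXY
      ((le_inf hOX hOY).trans (Subgroup.normalizer_inf_normalizer_le_normalizer_sup X Y))
  have hWXY : W ≤ X ⊔ Y := by
    rw [hW]
    exact map_normalClosure_le H (X ⊔ Y) Y (sup_le (hXR.trans hRH) hYH') hHXY le_sup_right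
  have hRX' : R ≤ X := by
    apply hRle
    intro x hxH hxo
    have hxR : x ∈ R := by
      rw [hRcl]; exact Subgroup.subset_closure ⟨hxH, hxo⟩
    exact Cfsg.Agent.Helper14.mem_of_coprime_of_mem_sup_normalizer X Y (hYH'.trans hHX) hYp x
      (hWXY (hRW hxR)) (orderOf x) hxo (pow_orderOf_eq_one x)
  have hc : ⁅R, Y⁆ = R := by
    rw [← hX]; exact le_antisymm hXR hRX'
  exact ⟨hc, hd, by rw [he, hW], hf⟩

end Cfsg.Agent.Helper9.FrakH
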