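-- helper9: p-irreducibility of members of frak H_G(O_p(M)) and of their extensions by a p-group.
import Mathlib
import Cfsg.Prelude.Def_LocalStructure
import Cfsg.Agent.Helper9.FrakH2
import Cfsg.Agent.Helper9.Burn

set_option autoImplicit false

namespace Cfsg.Agent.Helper9.FrakH

open Cfsg

theorem normalizer_le_normalizer_pCoreOf {G : Type*} [Group G] (p : ℕ) (L : Subgroup G) :
    Subgroup.normalizer (L : Set G) ≤
      Subgroup.normalizer ((Cfsg.pCoreOf p L : Subgroup G) : Set G) := by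
  apply Cfsg.Agent.Helper7.le_normalizer_of_conj_mem
  intro k hk x hx
  exact Cfsg.Agent.Helper14.pCoreOf_map_conj_le p L k hk
    (Cfsg.Agent.Helper14.conj_mem_map_conj _ k hx)

/-- The elements of `H` centralizing `N` modulo `U`. -/
def centMod {G : Type*} [Group G] (H N U : Subgroup G)
    (hU : H ≤ Subgroup.normalizer (U : Set G)) : Subgroup G where
  carrier := {x | x ∈ H ∧ ∀ n ∈ N, n * x * n⁻¹ * x⁻¹ ∈ U}
  one_mem' := ⟨H.one_mem, fun n _ => by
    have e : n * 1 * n⁻¹ * (1 : G)⁻¹ = 1 := by group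
    rw [e]; exact U.one_mem⟩
  mul_mem' := by
    rintro x y ⟨hx, hx'⟩ ⟨hy, hy'⟩
    refine ⟨H.mul_mem hx hy, fun n hn => ?_⟩
    have e : n * (x * y) * n⁻¹ * (x * y)⁻¹ =
        (n * x * n⁻¹ * x⁻¹) * (x * (n * y * n⁻¹ * y⁻¹) * x⁻¹) := by group
    rw [e]
    exact U.mul_mem (hx' n hn) ((Subgroup.mem_normalizer_iff.mp (hU hx) _).mp (hy' n hn))
  inv_mem' := by
    rintro x ⟨hx, hx'⟩
    refine ⟨H.inv_mem hx, fun n hn => ?_⟩
    have e : n * x⁻¹ * n⁻¹ * x⁻¹⁻¹ = x⁻¹ * (n * x * n⁻¹ * x⁻¹)⁻¹ * x⁻¹⁻¹ := by group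
    rw [e]
    exact (Subgroup.mem_normalizer_iff.mp (hU (H.inv_mem hx)) _).mp (U.inv_mem (hx' n hn))

theorem mem_centMod {G : Type*} [Group G] (H N U : Subgroup G)
    (hU : H ≤ Subgroup.normalizer (U : Set G)) (x : G) :
    x ∈ centMod H N U hU ↔ x ∈ H ∧ ∀ n ∈ N, n * x * n⁻¹ * x⁻¹ ∈ U := Iff.rfl

theorem centMod_le {G : Type*} [Group G] (H N U : Subgroup G)
    (hU : H ≤ Subgroup.normalizer (U : Set G)) : centMod H N U hU ≤ H :=
  fun x hx => ((mem_centMod H N U hU x).mp hx).1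

theorem le_normalizer_centMod {G : Type*} [Group G] (H N U : Subgroup G)
    (hU : H ≤ Subgroup.normalizer (U : Set G)) (hN : H ≤ Subgroup.normalizer (N : Set G)) :
    H ≤ Subgroup.normalizer ((centMod H N U hU : Subgroup G) : Set G) := by
  apply Cfsg.Agent.Helper7.le_normalizer_of_conj_mem
  intro h hh x hx
  rw [mem_centMod] at hx ⊢
  refine ⟨H.mul_mem (H.mul_mem hh hx.1) (H.inv_mem hh), fun n hn => ?_⟩
  have hn' : h⁻¹ * n * h ∈ N := by
    have := (Subgroup.mem_normalizer_iff.mp (hN (H.inv_mem hh)) n).mp hn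
    rwa [inv_inv] at this
  have h1 := hx.2 _ hn'
  have e : n * (h * x * h⁻¹) * n⁻¹ * (h * x * h⁻¹)⁻¹ =
      h * ((h⁻¹ * n * h) * x * (h⁻¹ * n * h)⁻¹ * x⁻¹) * h⁻¹ := by group
  rw [e]
  exact (Subgroup.mem_normalizer_iff.mp (hU hh) _).mp h1

/-- The subgroup generated by the `H`-conjugates of `V`. -/
def conjClosure {G : Type*} [Group G] (H V : Subgroup G) : Subgroup G :=
  Subgroup.closure {x : G | ∃ h ∈ H, ∃ y ∈ V, x = h * y * h⁻¹}

theorem le_conjClosure {G : Type*} [Group G] (H V : Subgroup G) : V ≤ conjClosure H V := by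
  intro y hy
  exact Subgroup.subset_closure ⟨1, H.one_mem, y, hy, by simp⟩

theorem conjClosure_le {G : Type*} [Group G] (H V : Subgroup G) (hVH : V ≤ H) :
    conjClosure H V ≤ H := by
  unfold conjClosure
  rw [Subgroup.closure_le]
  rintro x ⟨h, hh, y, hy, rfl⟩
  exact H.mul_mem (H.mul_mem hh (hVH hy)) (H.inv_mem hh)

theorem conj_mem_conjClosure {G : Type*} [Group G] (H V D : Subgroup G)
    (hgen : ∀ d ∈ D, ∀ h ∈ H, ∀ y ∈ V, ∃ h' ∈ H, ∃ y' ∈ V,
      d * (h * y * h⁻¹) * d⁻¹ = h' * y' * h'⁻¹) :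
    D ≤ Subgroup.normalizer ((conjClosure H V : Subgroup G) : Set G) := by
  apply Cfsg.Agent.Helper7.le_normalizer_of_conj_mem
  intro d hd x hx
  unfold conjClosure at hx ⊢
  induction hx using Subgroup.closure_induction with
  | mem x hx =>
    obtain ⟨h, hh, y, hy, rfl⟩ := hx
    obtain ⟨h', hh', y', hy', e⟩ := hgen d hd h hh y hy
    exact Subgroup.subset_closure ⟨h', hh', y', hy', e⟩
  | one => simp
  | mul x y _ _ ihx ihy =>
    have e : d * (x * y) * d⁻¹ = (d * x * d⁻¹) * (d * y * d⁻¹) := by group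
    rw [e]; exact Subgroup.mul_mem _ ihx ihy
  | inv x _ ih =>
    have e : d * x⁻¹ * d⁻¹ = (d * x * d⁻¹)⁻¹ := by group
    rw [e]; exact Subgroup.inv_mem _ ih

theorem le_normalizer_conjClosure {G : Type*} [Group G] (H V : Subgroup G) :
    H ≤ Subgroup.normalizer ((conjClosure H V : Subgroup G) : Set G) := by
  apply conj_mem_conjClosure H V H
  intro d hd h hh y hy
  exact ⟨d * h, H.mul_mem hd hh, y, hy, by group⟩

theorem normalizer_conjClosure {G : Type*} [Group G] (H V D : Subgroup G)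
    (hDV : D ≤ Subgroup.normalizer (V : Set G)) (hHD : H ≤ Subgroup.normalizer (D : Set G)) :
    D ≤ Subgroup.normalizer ((conjClosure H V : Subgroup G) : Set G) := by
  apply conj_mem_conjClosure H V D
  intro d hd h hh y hy
  have hd' : h⁻¹ * d * h ∈ D := by
    have := (Subgroup.mem_normalizer_iff.mp (hHD (H.inv_mem hh)) d).mp hd
    rwa [inv_inv] at this
  have hy' : (h⁻¹ * d * h) * y * (h⁻¹ * d * h)⁻¹ ∈ V :=
    (Subgroup.mem_normalizer_iff.mp (hDV hd') y).mp hy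
  exact ⟨h, hh, _, hy', by group⟩

/-- If the `p'`-elements of `N` centralize `N` modulo `O_p(N)`, then `N` is `p`-closed. -/
theorem pclosed_sub {G : Type*} [Group G] [Finite G] {p : ℕ} [Fact p.Prime] (N : Subgroup G)
    (h : ∀ n ∈ N, ∀ k ∈ N, Nat.Coprime (orderOf k) p →
      n * k * n⁻¹ * k⁻¹ ∈ Cfsg.pCoreOf p N) :
    ∀ x ∈ N, (∃ a : ℕ, x ^ p ^ a = 1) → x ∈ Cfsg.pCoreOf p N := by
  have hcl : Cfsg.IsPClosed p ↥N := by
    intro P
    have key : ∀ k : ↥N, Nat.Coprime (orderOf k) p → ∀ s ∈ (P : Subgroup ↥N),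
        k * s * k⁻¹ ∈ (P : Subgroup ↥N) := by
      intro k hk s hs
      have hk' : Nat.Coprime (orderOf (k : G)) p := by
        rw [Subgroup.orderOf_coe]; exact hk
      have h1 : ((s⁻¹ * k * s⁻¹⁻¹ * k⁻¹ : ↥N) : G) ∈ (Cfsg.pCore p ↥N).map N.subtype :=
        h (s⁻¹ : ↥N) (s⁻¹ : ↥N).2 (k : G) k.2 hk'
      have h2 : s⁻¹ * k * s⁻¹⁻¹ * k⁻¹ ∈ Cfsg.pCore p ↥N := by
        obtain ⟨y, hy, hyx⟩ := h1
        have e : y = s⁻¹ * k * s⁻¹⁻¹ * k⁻¹ := Subtype.ext hyx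
        rw [← e]; exact hy
      have h3 : s⁻¹ * k * s⁻¹⁻¹ * k⁻¹ ∈ (P : Subgroup ↥N) :=
        Cfsg.Agent.Helper14.pCore_le_sylow P h2
      have e : k * s * k⁻¹ = s * (s⁻¹ * k * s⁻¹⁻¹ * k⁻¹) := by group
      rw [e]
      exact Subgroup.mul_mem _ hs h3
    have hres : Cfsg.pResidual p ↥N ≤ Subgroup.normalizer ((P : Subgroup ↥N) : Set ↥N) := by
      unfold Cfsg.pResidual
      rw [Subgroup.closure_le]
      intro k hk
      have hk' : Nat.Coprime (orderOf k) p := hk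
      have hkinv : Nat.Coprime (orderOf k⁻¹) p := by rw [orderOf_inv]; exact hk'
      rw [SetLike.mem_coe, Subgroup.mem_normalizer_iff]
      intro s
      constructor
      · exact key k hk' s
      · intro hs
        have h4 := key k⁻¹ hkinv _ hs
        have e : k⁻¹ * (k * s * k⁻¹) * k⁻¹⁻¹ = s := by group
        rw [e] at h4
        exact h4
    have htop : (⊤ : Subgroup ↥N) ≤ Subgroup.normalizer ((P : Subgroup ↥N) : Set ↥N) := by
      rw [← Cfsg.Agent.Helper14.pResidual_sup_sylow P]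
      exact sup_le hres Subgroup.le_normalizer
    exact Subgroup.normalizer_eq_top_iff.mp (top_le_iff.mp htop)
  have hiff := (Cfsg.Agent.Helper14.isPClosed_iff (H := ↥N) (p := p)).mp hcl
  rintro x hx ⟨a, ha⟩
  have h5 := hiff ⟨x, hx⟩ ⟨a, Subtype.ext ha⟩
  show x ∈ (Cfsg.pCore p ↥N).map N.subtype
  exact ⟨⟨x, hx⟩, h5, rfl⟩

/-- `p`-irreducibility, abstract form: a normal subgroup `N` of `Ht = H O_p(Ht)` contains `O^p(H)`
or has all its `p`-elements in `O_p(Ht)`. -/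
theorem pirr_core {G : Type*} [Group G] [Finite G] {p : ℕ} [Fact p.Prime]
    (H O Y R Ht N : Subgroup G)
    (hOp : IsPGroup p ↥O) (hYp : IsPGroup p ↥Y) (hYO : Y ≤ O) (hOH : O ≤ H)
    (hOY : O ≤ Subgroup.normalizer (Y : Set G)) (hwc : Cfsg.Agent.Helper14.WC' p O)
    (hYH : ¬ Y ≤ Cfsg.pCoreOf p H)
    (hmin : ∀ P : Subgroup G, O ≤ P → P < H → Y ≤ Cfsg.pCoreOf p P)
    (hR : R = (Cfsg.pResidual p ↥H).map H.subtype)
    (hHHt : H ≤ Ht) (hDH : Cfsg.pCoreOf p Ht ≤ Subgroup.normalizer (H : Set G))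
    (hHtD : Ht ≤ H ⊔ Cfsg.pCoreOf p Ht)
    (hN : N ≤ Ht) (hHtN : Ht ≤ Subgroup.normalizer (N : Set G)) :
    R ≤ N ∨ ∀ x ∈ N, (∃ a : ℕ, x ^ p ^ a = 1) → x ∈ Cfsg.pCoreOf p Ht := by
  obtain ⟨hc, hd, he, hf⟩ := struct_core H O Y R hOp hYp hYO hOH hOY hwc hYH hmin hR
  have hYH' : Y ≤ H := hYO.trans hOH
  have hRcl : R = Subgroup.closure {x : G | x ∈ H ∧ Nat.Coprime (orderOf x) p} :=
    hR.trans (Cfsg.Agent.Helper14.map_pResidual_eq_closure p H)
  have hRle : ∀ Z : Subgroup G, (∀ x ∈ H, Nat.Coprime (orderOf x) p → x ∈ Z) → R ≤ Z := by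
    intro Z hZ
    rw [hRcl, Subgroup.closure_le]
    rintro x ⟨hxH, hxo⟩
    exact hZ x hxH hxo
  have hmemR : ∀ x ∈ H, Nat.Coprime (orderOf x) p → x ∈ R := by
    intro x hxH hxo
    rw [hRcl]; exact Subgroup.subset_closure ⟨hxH, hxo⟩
  obtain ⟨D, hD⟩ : ∃ D : Subgroup G, D = Cfsg.pCoreOf p Ht := ⟨_, rfl⟩
  rw [← hD] at hDH hHtD ⊢
  have hDp : IsPGroup p ↥D := by rw [hD]; exact Cfsg.Agent.Helper14.pCoreOf_isPGroup p Ht
  have hDHt : D ≤ Ht := by rw [hD]; exact Cfsg.Agent.Helper14.pCoreOf_le p Ht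
  have hHtDn : Ht ≤ Subgroup.normalizer (D : Set G) := by
    rw [hD]; exact Cfsg.Agent.Helper7.le_normalizer_map_subtype _
  have hHtH : Ht ≤ Subgroup.normalizer (H : Set G) :=
    hHtD.trans (sup_le Subgroup.le_normalizer hDH)
  obtain ⟨N₂, hN₂⟩ : ∃ N₂ : Subgroup G, N₂ = (N ⊔ D) ⊓ H := ⟨_, rfl⟩
  have hN₂H : N₂ ≤ H := by rw [hN₂]; exact inf_le_right
  have hN₂ND : N₂ ≤ N ⊔ D := by rw [hN₂]; exact inf_le_left
  have hHtN₂ : Ht ≤ Subgroup.normalizer (N₂ : Set G) := by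
    intro x hx
    rw [hN₂]
    exact Cfsg.Agent.Helper14.mem_normalizer_inf _ _ x
      (Subgroup.normalizer_inf_normalizer_le_normalizer_sup N D
        (Subgroup.mem_inf.mpr ⟨hHtN hx, hHtDn hx⟩))
      (hHtH hx)
  by_cases hcase : N₂ ⊔ O = H
  · left
    apply hRle
    intro x hxH hxo
    have hx1 : x ∈ N₂ ⊔ O := by rw [hcase]; exact hxH
    have hx2 : x ∈ N₂ := Cfsg.Agent.Helper14.mem_of_coprime_of_mem_sup_normalizer N₂ O
      (hOH.trans (hHHt.trans hHtN₂)) hOp x hx1 (orderOf x) hxo (pow_orderOf_eq_one x)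
    exact Cfsg.Agent.Helper14.mem_of_coprime_of_mem_sup_normalizer N D (hDHt.trans hHtN) hDp x
      (hN₂ND hx2) (orderOf x) hxo (pow_orderOf_eq_one x)
  · right
    have hlt : N₂ ⊔ O < H := lt_of_le_of_ne (sup_le hN₂H hOH) hcase
    have hYB := hmin _ le_sup_right hlt
    obtain ⟨U₂, hU₂⟩ : ∃ U₂ : Subgroup G, U₂ = Cfsg.pCoreOf p N₂ := ⟨_, rfl⟩
    have hHtU₂ : Ht ≤ Subgroup.normalizer (U₂ : Set G) := by
      rw [hU₂]; exact hHtN₂.trans (normalizer_le_normalizer_pCoreOf p N₂)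
    have hHU₂ : H ≤ Subgroup.normalizer (U₂ : Set G) := hHHt.trans hHtU₂
    have hHN₂ : H ≤ Subgroup.normalizer (N₂ : Set G) := hHHt.trans hHtN₂
    have hB1 : Y ≤ centMod H N₂ U₂ hHU₂ := by
      intro y hy
      rw [mem_centMod]
      refine ⟨hYH' hy, fun n hn => ?_⟩
      have h1 : n * y * n⁻¹ * y⁻¹ ∈ N₂ := by
        have h2 : y * n⁻¹ * y⁻¹ ∈ N₂ :=
          (Subgroup.mem_normalizer_iff.mp (hHN₂ (hYH' hy)) n⁻¹).mp (N₂.inv_mem hn)
        have e : n * y * n⁻¹ * y⁻¹ = n * (y * n⁻¹ * y⁻¹) := by group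
        rw [e]; exact N₂.mul_mem hn h2
      have h3 : n * y * n⁻¹ * y⁻¹ ∈ Cfsg.pCoreOf p (N₂ ⊔ O) := by
        have hnN : n ∈ Subgroup.normalizer ((Cfsg.pCoreOf p (N₂ ⊔ O) : Subgroup G) : Set G) :=
          Cfsg.Agent.Helper7.le_normalizer_map_subtype _ ((le_sup_left : N₂ ≤ N₂ ⊔ O) hn)
        exact Subgroup.mul_mem _ ((Subgroup.mem_normalizer_iff.mp hnN y).mp (hYB hy))
          (Subgroup.inv_mem _ (hYB hy))
      rw [hU₂]
      exact pCoreOf_inf_le p (N₂ ⊔ O) N₂ le_sup_left (Subgroup.mem_inf.mpr ⟨h3, h1⟩)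
    have hRC : R ≤ centMod H N₂ U₂ hHU₂ := by
      have h1 : R ⊔ Y ≤ centMod H N₂ U₂ hHU₂ := by
        rw [he]
        exact map_normalClosure_le H _ Y (centMod_le H N₂ U₂ hHU₂)
          (le_normalizer_centMod H N₂ U₂ hHU₂ hHN₂) hB1
      exact le_sup_left.trans h1
    have hB3 : ∀ x ∈ N₂, (∃ a : ℕ, x ^ p ^ a = 1) → x ∈ U₂ := by
      rw [hU₂]
      apply pclosed_sub N₂
      intro n hn k hk hko
      have hkC := hRC (hmemR k (hN₂H hk) hko)
      rw [← hU₂]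
      exact ((mem_centMod H N₂ U₂ hHU₂ k).mp hkC).2 n hn
    have hU₂D : U₂ ≤ D := by
      rw [hU₂, hD]
      exact Cfsg.Agent.Helper14.pCoreOf_le_pCoreOf_of_le_normalizer p N₂ Ht (hN₂H.trans hHHt)
        hHtN₂
    rintro x hxN ⟨a, ha⟩
    obtain ⟨h, hh, d, hd', rfl⟩ :=
      Cfsg.Agent.Helper14.exists_mul_of_mem_sup_normalizer H D hDH (hHtD (hN hxN))
    have hhN₂ : h ∈ N₂ := by
      rw [hN₂]
      refine Subgroup.mem_inf.mpr ⟨?_, hh⟩
      have h5 : h * d * d⁻¹ ∈ N ⊔ D :=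
        Subgroup.mul_mem _ (Subgroup.mem_sup_left hxN) (Subgroup.mem_sup_right (D.inv_mem hd'))
      rw [mul_inv_cancel_right] at h5
      exact h5
    have hhp : ∃ b : ℕ, h ^ p ^ b = 1 := by
      have hzp : IsPGroup p ↥(Subgroup.zpowers (h * d)) :=
        Cfsg.Agent.Helper14.isPGroup_zpowers_of_pow (h * d) a ha
      have hzD : Subgroup.zpowers (h * d) ≤ Subgroup.normalizer (D : Set G) := by
        rw [Subgroup.zpowers_le]
        exact hHtDn (hN hxN)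
      have hsup : IsPGroup p ↥(Subgroup.zpowers (h * d) ⊔ D) :=
        IsPGroup.to_sup_of_normal_right' hzp hDp hzD
      have hmem : h * d * d⁻¹ ∈ Subgroup.zpowers (h * d) ⊔ D :=
        Subgroup.mul_mem _ (Subgroup.mem_sup_left (Subgroup.mem_zpowers _))
          (Subgroup.mem_sup_right (D.inv_mem hd'))
      rw [mul_inv_cancel_right] at hmem
      obtain ⟨b, hb⟩ := hsup ⟨h, hmem⟩
      exact ⟨b, congrArg Subtype.val hb⟩
    exact D.mul_mem (hU₂D (hB3 h hhN₂ hhp)) hd'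

/-- `H ∈ ℌ_G(O_p(M))` extended by a `p`-group `Qg` that it normalizes. -/
theorem frakH_extend {G : Type*} [Group G] [Finite G] {p : ℕ} [Fact p.Prime] (S : Sylow p G)
    (Q : Subgroup G) (hQp : IsPGroup p ↥Q) (hQ1 : Q ≠ ⊥) (hQ : Cfsg.IsLarge Q)
    (M : Subgroup G) (hSM : (S : Subgroup G) ≤ M) (hM : Cfsg.IsInFrakM p M)
    (hasym : ¬ Cfsg.IsSymmetricIn (Cfsg.largestPReducedOf p M))
    (H : Subgroup G) (hH : Cfsg.IsInFrakH p M H) (Qg : Subgroup G) (hQgp : IsPGroup p ↥Qg)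
    (hHQ : H ≤ Subgroup.normalizer (Qg : Set G)) :
    Qg ≤ Cfsg.pCoreOf p (H ⊔ Qg) ∧
    Cfsg.pCoreOf p (H ⊔ Qg) ≤
      Subgroup.normalizer (((Cfsg.pCoreOf p M) : Subgroup G) : Set G) ∧
    Subgroup.normalizer (((Cfsg.pCoreOf p M) : Subgroup G) : Set G) ≤
      Subgroup.normalizer (((Cfsg.largestPReducedOf p M) : Subgroup G) : Set G) ∧
    Subgroup.normalizer (((Cfsg.largestPReducedOf p M) : Subgroup G) : Set G) =
      (M ⊔ Subgroup.centralizer (((Cfsg.largestPReducedOf p M) : Subgroup G) : Set G)) ∧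
    (H.subgroupOf (H ⊔ Qg)).Normal ∧
    (Cfsg.pResidual p ↥H).map H.subtype =
      (Cfsg.pResidual p ↥(H ⊔ Qg)).map (H ⊔ Qg).subtype ∧
    Cfsg.IsPIrreducible p ↥(H ⊔ Qg) := by
  obtain ⟨h1, hwc, h3, -⟩ := Cfsg.Agent.Helper9.Asym.main S Q hQp hQ1 hQ M hSM hM hasym
  obtain ⟨hHc, hOH, hYH, hmin⟩ := hH
  have hOp : IsPGroup p ↥(Cfsg.pCoreOf p M) := Cfsg.Agent.Helper14.pCoreOf_isPGroup p M
  have hYp : IsPGroup p ↥(Cfsg.largestPReducedOf p M) :=
    Cfsg.Agent.Helper9.FrakM.isPGroup_largestPReducedOf M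
  have hOC := Cfsg.Agent.Helper14.pCoreOf_le_centralizer_largestPReducedOf p M
  have hOY : Cfsg.pCoreOf p M ≤
      Subgroup.normalizer ((Cfsg.largestPReducedOf p M : Subgroup G) : Set G) :=
    hOC.trans (Subgroup.centralizer_le_normalizer _)
  have hYO : Cfsg.largestPReducedOf p M ≤ Cfsg.pCoreOf p M :=
    Cfsg.Agent.Helper9.largestPReducedOf_le_pCoreOf M
  have hMdY : (M ⊔ Subgroup.centralizer ((Cfsg.largestPReducedOf p M : Subgroup G) : Set G)) ≤
      Subgroup.normalizer ((Cfsg.largestPReducedOf p M : Subgroup G) : Set G) :=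
    sup_le (Cfsg.Agent.Helper9.FrakM.le_normalizer_largestPReducedOf (p := p) M)
      (Subgroup.centralizer_le_normalizer _)
  have hNO : Subgroup.normalizer ((Cfsg.pCoreOf p M : Subgroup G) : Set G) ≤
      Subgroup.normalizer ((Cfsg.largestPReducedOf p M : Subgroup G) : Set G) :=
    (h1 _ hOp le_rfl).2.trans hMdY
  have hWC := Cfsg.Agent.Helper14.wc'_of_isWeaklyClosedSubgroup hwc
  have hY1 : Cfsg.largestPReducedOf p M ≠ ⊥ := fun h0 => hYH (by rw [h0]; exact bot_le)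
  have h_4 : Subgroup.normalizer (((Cfsg.largestPReducedOf p M) : Subgroup G) : Set G) =
      (M ⊔ Subgroup.centralizer (((Cfsg.largestPReducedOf p M) : Subgroup G) : Set G)) :=
    le_antisymm (Cfsg.Agent.Helper9.Burn.le_dagger S Q hQp hQ1 hQ M hSM hM _
      (Cfsg.Agent.Helper9.FrakM.le_normalizer_largestPReducedOf (p := p) M)
      (Cfsg.Agent.Helper9.FrakM.pCore_ne_bot_of _ (Cfsg.largestPReducedOf p M)
        Subgroup.le_normalizer le_rfl hYp hY1)) hMdY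
  obtain ⟨Ht, hHt⟩ : ∃ Ht : Subgroup G, Ht = H ⊔ Qg := ⟨_, rfl⟩
  rw [← hHt]
  have hHHt : H ≤ Ht := by rw [hHt]; exact le_sup_left
  have hQgHt : Qg ≤ Ht := by rw [hHt]; exact le_sup_right
  have hHtQg : Ht ≤ Subgroup.normalizer (Qg : Set G) := by
    rw [hHt]; exact sup_le hHQ Subgroup.le_normalizer
  have h_1 : Qg ≤ Cfsg.pCoreOf p Ht :=
    Cfsg.Agent.Helper7.le_pCoreOf_of_normal_pgroup p Qg Ht hQgHt hHtQg hQgp
  have h_2 : Cfsg.pCoreOf p Ht ≤
      Subgroup.normalizer (((Cfsg.pCoreOf p M) : Subgroup G) : Set G) :=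
    pCoreOf_le_normalizer_of_wc Ht _ hOp hWC (hOH.trans hHHt)
  have hcc : conjClosure H (Cfsg.pCoreOf p M) = H :=
    eq_of_normal H (Cfsg.pCoreOf p M) (Cfsg.largestPReducedOf p M) _ hYH hmin
      (le_conjClosure H _) (conjClosure_le H _ hOH) (le_normalizer_conjClosure H _)
  have hDH : Cfsg.pCoreOf p Ht ≤ Subgroup.normalizer (H : Set G) := by
    have h := normalizer_conjClosure H (Cfsg.pCoreOf p M) (Cfsg.pCoreOf p Ht) h_2
      (hHHt.trans (Cfsg.Agent.Helper7.le_normalizer_map_subtype _))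
    rw [hcc] at h
    exact h
  have hQgH : Qg ≤ Subgroup.normalizer (H : Set G) := h_1.trans hDH
  have hHtH : Ht ≤ Subgroup.normalizer (H : Set G) := by
    rw [hHt]; exact sup_le Subgroup.le_normalizer hQgH
  have hHtD : Ht ≤ H ⊔ Cfsg.pCoreOf p Ht := by
    have h := sup_le (le_sup_left : H ≤ H ⊔ Cfsg.pCoreOf p Ht) (h_1.trans le_sup_right)
    rw [← hHt] at h
    exact h
  have h_5 : (H.subgroupOf Ht).Normal :=
    (Subgroup.normal_subgroupOf_iff_le_normalizer hHHt).mpr hHtH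
  have h_6 : (Cfsg.pResidual p ↥H).map H.subtype = (Cfsg.pResidual p ↥Ht).map Ht.subtype := by
    rw [Cfsg.Agent.Helper14.map_pResidual_eq_closure p H,
      Cfsg.Agent.Helper14.map_pResidual_eq_closure p Ht]
    congr 1
    ext x
    constructor
    · rintro ⟨hx, hxo⟩
      exact ⟨hHHt hx, hxo⟩
    · rintro ⟨hx, hxo⟩
      refine ⟨?_, hxo⟩
      have hx' : x ∈ H ⊔ Qg := by rw [← hHt]; exact hx
      exact Cfsg.Agent.Helper14.mem_of_coprime_of_mem_sup_normalizer H Qg hQgH hQgp x hx'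
        (orderOf x) hxo (pow_orderOf_eq_one x)
  have h_7 : Cfsg.IsPIrreducible p ↥Ht := by
    unfold Cfsg.IsPIrreducible
    refine ⟨?_, ?_⟩
    · intro hcl
      have hiff := (Cfsg.Agent.Helper14.isPClosed_iff (H := ↥Ht) (p := p)).mp hcl
      apply hYH
      intro y hy
      obtain ⟨a, ha⟩ := hYp ⟨y, hy⟩
      have ha' : y ^ p ^ a = 1 := congrArg Subtype.val ha
      have hyH : y ∈ H := hOH (hYO hy)
      have hyHt : y ∈ Ht := hHHt hyH
      have h5 := hiff ⟨y, hyHt⟩ ⟨a, Subtype.ext ha'⟩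
      have h6 : y ∈ (Cfsg.pCore p ↥Ht).map Ht.subtype := ⟨⟨y, hyHt⟩, h5, rfl⟩
      exact pCoreOf_inf_le p Ht H hHHt (Subgroup.mem_inf.mpr ⟨h6, hyH⟩)
    · intro N hNn hNcl
      haveI := hNn
      obtain ⟨NG, hNG⟩ : ∃ NG : Subgroup G, NG = N.map Ht.subtype := ⟨_, rfl⟩
      have hNGHt : NG ≤ Ht := by rw [hNG]; exact Subgroup.map_subtype_le _
      have hHtNG : Ht ≤ Subgroup.normalizer (NG : Set G) := by
        rw [hNG]; exact Cfsg.Agent.Helper7.le_normalizer_map_subtype N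
      have hpi := pirr_core H (Cfsg.pCoreOf p M) (Cfsg.largestPReducedOf p M)
        ((Cfsg.pResidual p ↥H).map H.subtype) Ht NG hOp hYp hYO hOH hOY hWC hYH hmin rfl
        hHHt hDH hHtD hNGHt hHtNG
      rcases hpi with hRN | hcl
      · intro x hx
        have hx1 : (x : G) ∈ (Cfsg.pResidual p ↥Ht).map Ht.subtype := ⟨x, hx, rfl⟩
        rw [← h_6] at hx1
        have hx2 : (x : G) ∈ NG := hRN hx1
        rw [hNG] at hx2
        obtain ⟨y, hy, hyx⟩ := hx2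
        have e : y = x := Subtype.ext hyx
        rw [← e]; exact hy
      · exfalso
        apply hNcl
        rw [Cfsg.Agent.Helper14.isPClosed_subgroup_iff N]
        rintro x hx ⟨a, ha⟩
        have hx1 : (x : G) ∈ NG := by rw [hNG]; exact ⟨x, hx, rfl⟩
        have hx2 : (x : G) ∈ (Cfsg.pCore p ↥Ht).map Ht.subtype :=
          hcl (x : G) hx1 ⟨a, congrArg Subtype.val ha⟩
        obtain ⟨y, hy, hyx⟩ := hx2
        have e : y = x := Subtype.ext hyx
        rw [← e]; exact hy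
  exact ⟨h_1, h_2, hNO, h_4, h_5, h_6, h_7⟩

end Cfsg.Agent.Helper9.FrakH
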