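-- helper9: preimage of F*(M†/C(Y)) and Y_M ≤ Y_H (asymmetric case).
import Mathlib
import Cfsg.Prelude.Def_LocalStructure
import Cfsg.Agent.Helper9.FrakH
import Cfsg.Agent.Helper7.Bender
import Cfsg.Agent.S2802

set_option autoImplicit false

namespace Cfsg.Agent.Helper9.FrakH

open Cfsg

/-- In a finite group with `O_p = 1`, a `p`-subgroup normalized by `F*` is trivial. -/
theorem pgroup_eq_bot_of_normalized_by_fstar {X : Type*} [Group X] [Finite X] {p : ℕ}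
    (hX : Cfsg.pCore p X = ⊥) (U : Subgroup X) (hU : IsPGroup p ↥U)
    (hEU : Cfsg.generalizedFittingSubgroup X ≤ Subgroup.normalizer (U : Set X)) : U = ⊥ := by
  haveI hEn := Cfsg.Agent.Helper7.generalizedFitting_normal (G := X)
  have hnorm : Cfsg.generalizedFittingSubgroup X ≤ Subgroup.normalizer
      ((U ⊓ Cfsg.generalizedFittingSubgroup X : Subgroup X) : Set X) := by
    intro e he
    exact Cfsg.Agent.Helper14.mem_normalizer_inf U _ e (hEU he) (Subgroup.le_normalizer he)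
  have h1 : U ⊓ Cfsg.generalizedFittingSubgroup X ≤
      Cfsg.pCoreOf p (Cfsg.generalizedFittingSubgroup X) :=
    Cfsg.Agent.Helper7.le_pCoreOf_of_normal_pgroup p _ _ inf_le_right hnorm (hU.to_le inf_le_left)
  have h2 : Cfsg.pCoreOf p (Cfsg.generalizedFittingSubgroup X) ≤ Cfsg.pCore p X :=
    Cfsg.Agent.Helper14.pCoreOf_le_pCore_of_normal p _
  have h3 : U ⊓ Cfsg.generalizedFittingSubgroup X = ⊥ := by
    rw [eq_bot_iff]
    intro x hx
    have h4 := h2 (h1 hx)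
    rw [hX] at h4
    exact h4
  rw [eq_bot_iff]
  intro u hu
  have hc : u ∈ Subgroup.centralizer (Cfsg.generalizedFittingSubgroup X : Set X) := by
    rw [Subgroup.mem_centralizer_iff]
    intro e he
    have hm : u * e * u⁻¹ * e⁻¹ ∈ U ⊓ Cfsg.generalizedFittingSubgroup X := by
      refine Subgroup.mem_inf.mpr ⟨?_, ?_⟩
      · have h4 : e * u⁻¹ * e⁻¹ ∈ U :=
          (Subgroup.mem_normalizer_iff.mp (hEU he) u⁻¹).mp (U.inv_mem hu)
        have e1 : u * e * u⁻¹ * e⁻¹ = u * (e * u⁻¹ * e⁻¹) := by group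
        rw [e1]; exact U.mul_mem hu h4
      · exact Subgroup.mul_mem _ (hEn.conj_mem e he u) (Subgroup.inv_mem _ he)
    rw [h3, Subgroup.mem_bot] at hm
    have h5 : u * e * u⁻¹ = e := mul_inv_eq_one.mp hm
    have h6 : u * e = e * u := mul_inv_eq_iff_eq_mul.mp h5
    exact h6.symm
  have hE' : u ∈ Cfsg.generalizedFittingSubgroup X := Cfsg.Agent.Helper7.bender hc
  have h7 : u ∈ U ⊓ Cfsg.generalizedFittingSubgroup X := Subgroup.mem_inf.mpr ⟨hu, hE'⟩
  rw [h3] at h7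
  exact h7

/-- If `O_p(K/C) = 1`, a subgroup normalized by the preimage of `F*(K/C)` that is a `p`-group
modulo `C` lies in `C`. -/
theorem le_of_normalized_by_fstar_preimage {K : Type*} [Group K] [Finite K] {p : ℕ}
    (C : Subgroup K) [C.Normal] (hred : Cfsg.pCore p (K ⧸ C) = ⊥) (U : Subgroup K)
    (hFU : (Cfsg.generalizedFittingSubgroup (K ⧸ C)).comap (QuotientGroup.mk' C) ≤
      Subgroup.normalizer (U : Set K))
    (hUp : ∀ u ∈ U, ∃ j : ℕ, u ^ (p ^ j) ∈ C) : U ≤ C := by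
  have hUbar : IsPGroup p ↥(U.map (QuotientGroup.mk' C)) := by
    rintro ⟨q, hq⟩
    obtain ⟨d', hd', rfl⟩ := hq
    obtain ⟨k, hk⟩ := hUp d' hd'
    refine ⟨k, Subtype.ext ?_⟩
    show (QuotientGroup.mk' C d') ^ (p ^ k) = 1
    rw [← map_pow]
    exact (QuotientGroup.eq_one_iff _).mpr hk
  have hEU : Cfsg.generalizedFittingSubgroup (K ⧸ C) ≤ Subgroup.normalizer
      ((U.map (QuotientGroup.mk' C) : Subgroup (K ⧸ C)) : Set (K ⧸ C)) := by
    apply Cfsg.Agent.Helper7.le_normalizer_of_conj_mem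
    rintro e he _ ⟨u, hu, rfl⟩
    obtain ⟨f, rfl⟩ := QuotientGroup.mk'_surjective C e
    have hf : f ∈ (Cfsg.generalizedFittingSubgroup (K ⧸ C)).comap (QuotientGroup.mk' C) :=
      Subgroup.mem_comap.mpr he
    have h1 : f * u * f⁻¹ ∈ U := (Subgroup.mem_normalizer_iff.mp (hFU hf) u).mp hu
    exact ⟨f * u * f⁻¹, h1, by simp⟩
  have hbot := pgroup_eq_bot_of_normalized_by_fstar hred _ hUbar hEU
  intro u hu
  have h2 : QuotientGroup.mk' C u ∈ U.map (QuotientGroup.mk' C) := ⟨u, hu, rfl⟩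
  rw [hbot, Subgroup.mem_bot] at h2
  exact (QuotientGroup.eq_one_iff u).mp h2

/-- `V ≤ Y_{X₂}` for `V` relatively `p`-reduced in a parabolic subgroup `X₁` of `X₂`, `X₂` of
characteristic `p`. -/
theorem le_largestPReducedOf_of_relRed_parabolic {H : Type*} [Group H] [Finite H] {p : ℕ}
    [Fact p.Prime] (X₁ X₂ V : Subgroup H) (h12 : X₁ ≤ X₂)
    (hX₂ : Subgroup.centralizer (Cfsg.pCore p ↥X₂ : Set ↥X₂) ≤ Cfsg.pCore p ↥X₂)
    (T₂ : Sylow p ↥X₂) (hT₂ : (T₂ : Subgroup ↥X₂) ≤ X₁.subgroupOf X₂)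
    (h : Cfsg.Agent.Helper9.RelRed p X₁ V) :
    V ≤ Cfsg.largestPReducedOf p X₂ := by
  obtain ⟨hVK, hn, hc, hp, hred⟩ := h
  have hrr : Cfsg.Agent.Helper9.RelRed p (X₁.subgroupOf X₂) (V.subgroupOf X₂) := by
    refine ⟨?_, ?_, ?_, ?_, ?_⟩
    · intro x hx; exact hVK hx
    · intro k hk v hv; exact hn k.1 hk v.1 hv
    · intro a ha b hb; exact Subtype.ext (hc a.1 ha b.1 hb)
    · intro a ha; exact Subtype.ext (hp a.1 ha)
    · intro D hDK hDn hDp d hd v hv
      have hD1 : D.map X₂.subtype ≤ X₁ := by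
        rintro _ ⟨d', hd', rfl⟩; exact hDK hd'
      have hD2 : ∀ k ∈ X₁, ∀ d' ∈ D.map X₂.subtype, k * d' * k⁻¹ ∈ D.map X₂.subtype := by
        rintro k hk _ ⟨d', hd', rfl⟩
        exact ⟨⟨k, h12 hk⟩ * d' * ⟨k, h12 hk⟩⁻¹, hDn ⟨k, h12 hk⟩ hk d' hd', rfl⟩
      have hD3 : ∀ d' ∈ D.map X₂.subtype, ∃ j : ℕ, ∀ v' ∈ V,
          v' * d' ^ (p ^ j) = d' ^ (p ^ j) * v' := by
        rintro _ ⟨d', hd', rfl⟩
        obtain ⟨j, hj⟩ := hDp d' hd'
        refine ⟨j, fun v' hv' => ?_⟩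
        have h2 := hj ⟨v', h12 (hVK hv')⟩ hv'
        have h3 := congrArg Subtype.val h2
        exact h3
      exact Subtype.ext (hred (D.map X₂.subtype) hD1 hD2 hD3 d.1 ⟨d, hd, rfl⟩ v.1 hv)
  have hX := Cfsg.Agent.Helper9.isPReducedNormal_subgroupOf_of_relRed _ _ hrr
  have hVK' : V.subgroupOf X₂ ≤ X₁.subgroupOf X₂ := hrr.1
  have hres := Cfsg.Agent.S2802.result hX₂ T₂ (X₁.subgroupOf X₂) hT₂ _ hX
  rw [Subgroup.map_subgroupOf_eq_of_le hVK'] at hres
  have h2 : V.subgroupOf X₂ ≤ Cfsg.largestPReduced p ↥X₂ := by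
    refine Subgroup.le_normalClosure.trans ?_
    unfold Cfsg.largestPReduced
    exact le_sSup hres
  intro y hy
  have hy2 : (⟨y, h12 (hVK hy)⟩ : ↥X₂) ∈ Cfsg.largestPReduced p ↥X₂ := h2 hy
  show y ∈ (Cfsg.largestPReduced p ↥X₂).map X₂.subtype
  exact ⟨⟨y, h12 (hVK hy)⟩, hy2, rfl⟩

/-- The centralizer of `Y` lies in the preimage of `F*(Md/C(Y))`. -/
theorem centralizer_le_fstar_preimage {G : Type*} [Group G] (Md Y F : Subgroup G)
    (hCMd : Subgroup.centralizer (Y : Set G) ≤ Md)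
    [hn : ((Subgroup.centralizer (Y : Set G)).subgroupOf Md).Normal]
    (hF : F = ((Cfsg.generalizedFittingSubgroup
      (↥Md ⧸ (Subgroup.centralizer (Y : Set G)).subgroupOf Md)).comap
      (QuotientGroup.mk' ((Subgroup.centralizer (Y : Set G)).subgroupOf Md))).map Md.subtype) :
    Subgroup.centralizer (Y : Set G) ≤ F := by
  intro c hc
  have hmem : (⟨c, hCMd hc⟩ : ↥Md) ∈ (Cfsg.generalizedFittingSubgroup
      (↥Md ⧸ (Subgroup.centralizer (Y : Set G)).subgroupOf Md)).comap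
      (QuotientGroup.mk' ((Subgroup.centralizer (Y : Set G)).subgroupOf Md)) := by
    rw [Subgroup.mem_comap]
    have h1 : QuotientGroup.mk' ((Subgroup.centralizer (Y : Set G)).subgroupOf Md)
        ⟨c, hCMd hc⟩ = 1 :=
      (QuotientGroup.eq_one_iff _).mpr (Subgroup.mem_subgroupOf.mpr hc)
    rw [h1]; exact Subgroup.one_mem _
  rw [hF]
  exact ⟨⟨c, hCMd hc⟩, hmem, rfl⟩

/-- `Y ≤ Y_H` for `H` of characteristic `p` containing the preimage `F` of `F*(Md/C(Y))`, when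
`H ∩ Md` contains a Sylow `p`-subgroup of `H` and `Y` is relatively `p`-reduced in `Md`. -/
theorem le_largestPReducedOf_of_fstar {G : Type*} [Group G] [Finite G] {p : ℕ} [Fact p.Prime]
    (Md Y F H : Subgroup G) (hYMd : Cfsg.Agent.Helper9.RelRed p Md Y)
    [hn : ((Subgroup.centralizer (Y : Set G)).subgroupOf Md).Normal]
    (hF : F = ((Cfsg.generalizedFittingSubgroup
      (↥Md ⧸ (Subgroup.centralizer (Y : Set G)).subgroupOf Md)).comap
      (QuotientGroup.mk' ((Subgroup.centralizer (Y : Set G)).subgroupOf Md))).map Md.subtype)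
    (hFH : F ≤ H)
    (hH : Subgroup.centralizer (Cfsg.pCore p ↥H : Set ↥H) ≤ Cfsg.pCore p ↥H)
    (T : Sylow p ↥H) (hT : (T : Subgroup ↥H) ≤ (H ⊓ Md).subgroupOf H) :
    Y ≤ Cfsg.largestPReducedOf p H := by
  obtain ⟨hYle, hYn, hYc, hYp, hYred⟩ := hYMd
  have hYF : Y ≤ F := by
    intro y hy
    have hyC : y ∈ Subgroup.centralizer (Y : Set G) :=
      Subgroup.mem_centralizer_iff.mpr (fun h hh => hYc h hh y hy)
    have hmem : (⟨y, hYle hy⟩ : ↥Md) ∈ (Cfsg.generalizedFittingSubgroup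
        (↥Md ⧸ (Subgroup.centralizer (Y : Set G)).subgroupOf Md)).comap
        (QuotientGroup.mk' ((Subgroup.centralizer (Y : Set G)).subgroupOf Md)) := by
      rw [Subgroup.mem_comap]
      have h1 : QuotientGroup.mk' ((Subgroup.centralizer (Y : Set G)).subgroupOf Md)
          ⟨y, hYle hy⟩ = 1 :=
        (QuotientGroup.eq_one_iff _).mpr (Subgroup.mem_subgroupOf.mpr hyC)
      rw [h1]; exact Subgroup.one_mem _
    rw [hF]
    exact ⟨⟨y, hYle hy⟩, hmem, rfl⟩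
  have hF'mem : ∀ f : ↥Md, f ∈ (Cfsg.generalizedFittingSubgroup
      (↥Md ⧸ (Subgroup.centralizer (Y : Set G)).subgroupOf Md)).comap
      (QuotientGroup.mk' ((Subgroup.centralizer (Y : Set G)).subgroupOf Md)) → (f : G) ∈ F := by
    intro f hf
    rw [hF]
    exact ⟨f, hf, rfl⟩
  have hred : Cfsg.pCore p (↥Md ⧸ (Subgroup.centralizer (Y : Set G)).subgroupOf Md) = ⊥ := by
    apply (Cfsg.Agent.Helper9.pCore_quotient_eq_bot_iff _).mpr
    intro D' hD'n hD'p d hd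
    rw [Subgroup.mem_subgroupOf, Subgroup.mem_centralizer_iff]
    intro v hv
    refine hYred (D'.map Md.subtype) (Subgroup.map_subtype_le _) ?_ ?_ (d : G) ⟨d, hd, rfl⟩ v hv
    · rintro k hk _ ⟨d', hd', rfl⟩
      exact ⟨⟨k, hk⟩ * d' * ⟨k, hk⟩⁻¹, hD'n.conj_mem d' hd' ⟨k, hk⟩, rfl⟩
    · rintro _ ⟨d', hd', rfl⟩
      obtain ⟨j, hj⟩ := hD'p d' hd'
      refine ⟨j, fun v' hv' => ?_⟩
      have h2 := Subgroup.mem_centralizer_iff.mp (Subgroup.mem_subgroupOf.mp hj) v' hv'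
      exact h2
  have hrr : Cfsg.Agent.Helper9.RelRed p (H ⊓ Md) Y := by
    refine ⟨le_inf (hYF.trans hFH) hYle,
      fun k hk v hv => hYn k (Subgroup.mem_inf.mp hk).2 v hv, hYc, hYp, ?_⟩
    intro D hDle hDn hDp
    have hc1 : (Cfsg.generalizedFittingSubgroup
        (↥Md ⧸ (Subgroup.centralizer (Y : Set G)).subgroupOf Md)).comap
        (QuotientGroup.mk' ((Subgroup.centralizer (Y : Set G)).subgroupOf Md)) ≤
        Subgroup.normalizer ((D.subgroupOf Md : Subgroup ↥Md) : Set ↥Md) := by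
      apply Cfsg.Agent.Helper7.le_normalizer_of_conj_mem
      intro f hf d hd
      have hfF : (f : G) ∈ F := hF'mem f hf
      have hfHM : (f : G) ∈ H ⊓ Md := Subgroup.mem_inf.mpr ⟨hFH hfF, f.2⟩
      exact Subgroup.mem_subgroupOf.mpr (hDn (f : G) hfHM (d : G) (Subgroup.mem_subgroupOf.mp hd))
    have hc2 : ∀ u ∈ D.subgroupOf Md, ∃ j : ℕ,
        u ^ (p ^ j) ∈ (Subgroup.centralizer (Y : Set G)).subgroupOf Md := by
      intro u hu
      obtain ⟨j, hj⟩ := hDp (u : G) (Subgroup.mem_subgroupOf.mp hu)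
      refine ⟨j, ?_⟩
      rw [Subgroup.mem_subgroupOf]
      exact Subgroup.mem_centralizer_iff.mpr hj
    have hU := le_of_normalized_by_fstar_preimage
      ((Subgroup.centralizer (Y : Set G)).subgroupOf Md) hred (D.subgroupOf Md) hc1 hc2
    intro d hd v hv
    have hdMd : d ∈ Md := (Subgroup.mem_inf.mp (hDle hd)).2
    have h1 : (⟨d, hdMd⟩ : ↥Md) ∈ (Subgroup.centralizer (Y : Set G)).subgroupOf Md :=
      hU (Subgroup.mem_subgroupOf.mpr hd)
    exact Subgroup.mem_centralizer_iff.mp (Subgroup.mem_subgroupOf.mp h1) v hv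
  exact le_largestPReducedOf_of_relRed_parabolic (H ⊓ Md) H Y inf_le_left hH T hT hrr

end Cfsg.Agent.Helper9.FrakH
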