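/-
Kieler's lemma: for a subnormal subgroup `L` of a group of characteristic `p` with Sylow
`p`-subgroup `T`, the centralizers in `L` of `Ω₁Z(T)` and of `Ω₁Z(T ∩ L)` coincide.
The proof uses a trace (averaging) map on an abelian normal `p`-subgroup.
-/
import Mathlib
import Cfsg.Agent.Helper9.FrakH
import Cfsg.Agent.Helper9.FrakH3
import Cfsg.Agent.S0542

namespace Cfsg.Agent.Helper9.Kieler

section abstract

variable {X A : Type*} [Group X] [CommGroup A] (T₀ : Subgroup X) [Fintype (X ⧸ T₀)]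
  (φ : X → A →* A)

/-- The trace of `v` along coset representatives of `T₀` in `X`. -/
noncomputable def tr (v : A) : A := ∏ q : X ⧸ T₀, φ (Quotient.out q) v

theorem tr_mul (v w : A) : tr T₀ φ (v * w) = tr T₀ φ v * tr T₀ φ w := by
  unfold tr
  rw [← Finset.prod_mul_distrib]
  exact Finset.prod_congr rfl (fun q _ => map_mul _ _ _)

theorem rep_indep (hφ : ∀ x y a, φ (x * y) a = φ x (φ y a)) (v : A)
    (hfix : ∀ t ∈ T₀, φ t v = v) (x y : X) (hxy : (x : X ⧸ T₀) = (y : X ⧸ T₀)) :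
    φ x v = φ y v := by
  have h1 : x⁻¹ * y ∈ T₀ := QuotientGroup.eq.mp hxy
  calc φ x v = φ x (φ (x⁻¹ * y) v) := by rw [hfix _ h1]
    _ = φ (x * (x⁻¹ * y)) v := (hφ _ _ _).symm
    _ = φ y v := by rw [mul_inv_cancel_left]

theorem reindex (hφ : ∀ x y a, φ (x * y) a = φ x (φ y a)) (v : A)
    (hfix : ∀ t ∈ T₀, φ t v = v) (r : X ⧸ T₀ → X)
    (hr : Function.Injective (fun q : X ⧸ T₀ => ((r q : X) : X ⧸ T₀))) :
    ∏ q : X ⧸ T₀, φ (r q) v = tr T₀ φ v := by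
  have hb : Function.Bijective (fun q : X ⧸ T₀ => ((r q : X) : X ⧸ T₀)) :=
    Finite.injective_iff_bijective.mp hr
  calc ∏ q : X ⧸ T₀, φ (r q) v
      = ∏ q : X ⧸ T₀, φ (Quotient.out ((r q : X) : X ⧸ T₀)) v :=
        Finset.prod_congr rfl (fun q _ =>
          rep_indep T₀ φ hφ v hfix _ _ (QuotientGroup.out_eq' _).symm)
    _ = tr T₀ φ v := hb.prod_comp (fun q : X ⧸ T₀ => φ (Quotient.out q) v)

theorem tr_fixed (hφ : ∀ x y a, φ (x * y) a = φ x (φ y a)) (v : A)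
    (hfix : ∀ t ∈ T₀, φ t v = v) (x : X) : φ x (tr T₀ φ v) = tr T₀ φ v := by
  have h1 : φ x (tr T₀ φ v) = ∏ q : X ⧸ T₀, φ (x * Quotient.out q) v := by
    unfold tr
    rw [map_prod]
    exact Finset.prod_congr rfl (fun q _ => (hφ _ _ _).symm)
  rw [h1]
  refine reindex T₀ φ hφ v hfix (fun q => x * Quotient.out q) ?_
  intro q q' h
  have h' : ((x * Quotient.out q : X) : X ⧸ T₀) = ((x * Quotient.out q' : X) : X ⧸ T₀) := h
  have h2 : (x * Quotient.out q)⁻¹ * (x * Quotient.out q') ∈ T₀ := QuotientGroup.eq.mp h'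
  have h3 : (x * Quotient.out q)⁻¹ * (x * Quotient.out q') =
      (Quotient.out q)⁻¹ * Quotient.out q' := by group
  rw [h3] at h2
  have h4 : ((Quotient.out q : X) : X ⧸ T₀) = ((Quotient.out q' : X) : X ⧸ T₀) :=
    QuotientGroup.eq.mpr h2
  rwa [QuotientGroup.out_eq', QuotientGroup.out_eq'] at h4

theorem tr_of_fixed (v : A) (hall : ∀ x, φ x v = v) :
    tr T₀ φ v = v ^ Fintype.card (X ⧸ T₀) := by
  unfold tr
  calc ∏ q : X ⧸ T₀, φ (Quotient.out q) v = ∏ _q : X ⧸ T₀, v :=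
        Finset.prod_congr rfl (fun q _ => hall _)
    _ = v ^ Fintype.card (X ⧸ T₀) := by rw [Finset.prod_const, Finset.card_univ]

theorem tr_div_mem (v : A) (B : Subgroup A) (hB : ∀ x, φ x v * v⁻¹ ∈ B) :
    tr T₀ φ v * (v ^ Fintype.card (X ⧸ T₀))⁻¹ ∈ B := by
  have h1 : tr T₀ φ v * (v ^ Fintype.card (X ⧸ T₀))⁻¹ =
      ∏ q : X ⧸ T₀, (φ (Quotient.out q) v * v⁻¹) := by
    unfold tr
    rw [Finset.prod_mul_distrib, Finset.prod_const, Finset.card_univ, inv_pow]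
  rw [h1]
  exact Subgroup.prod_mem B (fun q _ => hB _)

theorem tr_equiv (hφ : ∀ x y a, φ (x * y) a = φ x (φ y a)) (v : A) (ψ : A →* A) (τ : X → X)
    (hτ : ∀ x a, ψ (φ x a) = φ (τ x) (ψ a))
    (hτinj : ∀ x y, ((τ x : X) : X ⧸ T₀) = ((τ y : X) : X ⧸ T₀) →
      (x : X ⧸ T₀) = (y : X ⧸ T₀))
    (hfix' : ∀ t ∈ T₀, φ t (ψ v) = ψ v) :
    ψ (tr T₀ φ v) = tr T₀ φ (ψ v) := by
  have h1 : ψ (tr T₀ φ v) = ∏ q : X ⧸ T₀, φ (τ (Quotient.out q)) (ψ v) := by
    unfold tr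
    rw [map_prod]
    exact Finset.prod_congr rfl (fun q _ => hτ _ _)
  rw [h1]
  refine reindex T₀ φ hφ (ψ v) hfix' (fun q => τ (Quotient.out q)) ?_
  intro q q' h
  have h4 := hτinj _ _ h
  rwa [QuotientGroup.out_eq', QuotientGroup.out_eq'] at h4

end abstract

open scoped IsMulCommutative in
/-- Concrete trace on an abelian subgroup `V` normalized by `X`, along cosets of `T₀` in `X`. -/
theorem concrete {G : Type*} [Group G] [Finite G] (X T₀ V : Subgroup G)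
    (hVab : ∀ a ∈ V, ∀ b ∈ V, a * b = b * a)
    (hXV : ∀ x ∈ X, ∀ v ∈ V, x * v * x⁻¹ ∈ V) :
    ∃ tr : G → G,
      (∀ v ∈ V, tr v ∈ V) ∧
      (∀ v ∈ V, ∀ w ∈ V, tr (v * w) = tr v * tr w) ∧
      (∀ v ∈ V, (∀ t ∈ T₀, t * v = v * t) → ∀ x ∈ X, x * tr v = tr v * x) ∧
      (∀ v ∈ V, (∀ x ∈ X, x * v = v * x) → tr v = v ^ T₀.relIndex X) ∧
      (∀ v ∈ V, ∀ B : Subgroup G, (∀ x ∈ X, x * v * x⁻¹ * v⁻¹ ∈ B) →
        tr v * (v ^ T₀.relIndex X)⁻¹ ∈ B) ∧
      (∀ t : G, t ∈ Subgroup.normalizer (X : Set G) → t ∈ Subgroup.normalizer (T₀ : Set G) →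
        t ∈ Subgroup.normalizer (V : Set G) → ∀ v ∈ V, (∀ s ∈ T₀, s * v = v * s) →
        tr (t * v * t⁻¹) = t * tr v * t⁻¹) := by
  classical
  haveI : IsMulCommutative ↥V := ⟨⟨fun a b => Subtype.ext (hVab a a.2 b b.2)⟩⟩
  letI : Fintype (↥X ⧸ T₀.subgroupOf X) := Fintype.ofFinite _
  obtain ⟨φ, hφv⟩ : ∃ φ : ↥X → ↥V →* ↥V, ∀ (x : ↥X) (a : ↥V),
      ((φ x a : ↥V) : G) = (x : G) * (a : G) * (x : G)⁻¹ :=
    ⟨fun x =>
      { toFun := fun v => ⟨(x : G) * (v : G) * (x : G)⁻¹, hXV x x.2 v v.2⟩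
        map_one' := by
          apply Subtype.ext
          show (x : G) * (1 : G) * (x : G)⁻¹ = 1
          group
        map_mul' := by
          intro a b
          apply Subtype.ext
          show (x : G) * ((a : G) * (b : G)) * (x : G)⁻¹ =
            ((x : G) * (a : G) * (x : G)⁻¹) * ((x : G) * (b : G) * (x : G)⁻¹)
          group },
     fun _ _ => rfl⟩
  have hφ : ∀ (x y : ↥X) (a : ↥V), φ (x * y) a = φ x (φ y a) := by
    intro x y a
    apply Subtype.ext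
    simp only [hφv]
    show ((x : G) * (y : G)) * (a : G) * ((x : G) * (y : G))⁻¹ =
      (x : G) * ((y : G) * (a : G) * (y : G)⁻¹) * (x : G)⁻¹
    group
  obtain ⟨trG, htrG⟩ : ∃ trG : G → G, ∀ (v : G) (hv : v ∈ V),
      trG v = ((tr (T₀.subgroupOf X) φ ⟨v, hv⟩ : ↥V) : G) :=
    ⟨fun g => if h : g ∈ V then ((tr (T₀.subgroupOf X) φ ⟨g, h⟩ : ↥V) : G) else 1,
      fun v hv => dif_pos hv⟩
  have hcard : Fintype.card (↥X ⧸ T₀.subgroupOf X) = T₀.relIndex X := by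
    rw [← Nat.card_eq_fintype_card]; rfl
  have hfixA : ∀ (v : G) (hv : v ∈ V), (∀ t ∈ T₀, t * v = v * t) →
      ∀ t ∈ T₀.subgroupOf X, φ t ⟨v, hv⟩ = ⟨v, hv⟩ := by
    intro v hv hfix t ht
    apply Subtype.ext
    rw [hφv]
    show (t : G) * v * (t : G)⁻¹ = v
    rw [hfix (t : G) (Subgroup.mem_subgroupOf.mp ht), mul_inv_cancel_right]
  refine ⟨trG, ?_, ?_, ?_, ?_, ?_, ?_⟩
  · intro v hv
    rw [htrG v hv]
    exact SetLike.coe_mem _
  · intro v hv w hw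
    rw [htrG v hv, htrG w hw, htrG _ (V.mul_mem hv hw)]
    exact congrArg Subtype.val (tr_mul (T₀.subgroupOf X) φ ⟨v, hv⟩ ⟨w, hw⟩)
  · intro v hv hfix x hx
    rw [htrG v hv]
    have h1 := tr_fixed (T₀.subgroupOf X) φ hφ ⟨v, hv⟩ (hfixA v hv hfix) ⟨x, hx⟩
    have h2 := congrArg Subtype.val h1
    rw [hφv] at h2
    have h3 : x * ((tr (T₀.subgroupOf X) φ ⟨v, hv⟩ : ↥V) : G) * x⁻¹ =
        ((tr (T₀.subgroupOf X) φ ⟨v, hv⟩ : ↥V) : G) := h2
    calc x * ((tr (T₀.subgroupOf X) φ ⟨v, hv⟩ : ↥V) : G)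
        = x * ((tr (T₀.subgroupOf X) φ ⟨v, hv⟩ : ↥V) : G) * x⁻¹ * x := by group
      _ = ((tr (T₀.subgroupOf X) φ ⟨v, hv⟩ : ↥V) : G) * x := by rw [h3]
  · intro v hv hall
    rw [htrG v hv]
    have hallA : ∀ x : ↥X, φ x ⟨v, hv⟩ = ⟨v, hv⟩ := by
      intro x
      apply Subtype.ext
      rw [hφv]
      show (x : G) * v * (x : G)⁻¹ = v
      rw [hall (x : G) x.2, mul_inv_cancel_right]
    have h1 := tr_of_fixed (T₀.subgroupOf X) φ ⟨v, hv⟩ hallA
    rw [hcard] at h1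
    have h2 := congrArg Subtype.val h1
    exact h2
  · intro v hv B hB
    rw [htrG v hv]
    have h1 := tr_div_mem (T₀.subgroupOf X) φ ⟨v, hv⟩ (B.subgroupOf V) (by
      intro x
      rw [Subgroup.mem_subgroupOf]
      have h0 := hB (x : G) x.2
      exact (show ((φ x ⟨v, hv⟩ : ↥V) : G) * v⁻¹ ∈ B from by rw [hφv]; exact h0))
    rw [hcard] at h1
    exact Subgroup.mem_subgroupOf.mp h1
  · intro t htX htT htV v hv hfix
    have htV' : ∀ y, y ∈ V ↔ t * y * t⁻¹ ∈ V := Subgroup.mem_normalizer_iff.mp htV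
    have htX' : ∀ y, y ∈ X ↔ t * y * t⁻¹ ∈ X := Subgroup.mem_normalizer_iff.mp htX
    have htT' : ∀ y, y ∈ T₀ ↔ t * y * t⁻¹ ∈ T₀ := Subgroup.mem_normalizer_iff.mp htT
    have hv' : t * v * t⁻¹ ∈ V := (htV' v).mp hv
    rw [htrG v hv, htrG _ hv']
    obtain ⟨ψ, hψv⟩ : ∃ ψ : ↥V →* ↥V, ∀ a : ↥V, ((ψ a : ↥V) : G) = t * (a : G) * t⁻¹ :=
      ⟨{ toFun := fun a => ⟨t * (a : G) * t⁻¹, (htV' a).mp a.2⟩
         map_one' := by
           apply Subtype.ext
           show t * (1 : G) * t⁻¹ = 1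
           group
         map_mul' := by
           intro a b
           apply Subtype.ext
           show t * ((a : G) * (b : G)) * t⁻¹ = (t * (a : G) * t⁻¹) * (t * (b : G) * t⁻¹)
           group },
       fun _ => rfl⟩
    obtain ⟨τ, hτv⟩ : ∃ τ : ↥X → ↥X, ∀ x : ↥X, ((τ x : ↥X) : G) = t * (x : G) * t⁻¹ :=
      ⟨fun x => ⟨t * (x : G) * t⁻¹, (htX' x).mp x.2⟩, fun _ => rfl⟩
    have hτ : ∀ (x : ↥X) (a : ↥V), ψ (φ x a) = φ (τ x) (ψ a) := by
      intro x a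
      apply Subtype.ext
      simp only [hψv, hφv, hτv]
      group
    have hτinj : ∀ x y : ↥X,
        ((τ x : ↥X) : ↥X ⧸ T₀.subgroupOf X) = ((τ y : ↥X) : ↥X ⧸ T₀.subgroupOf X) →
        ((x : ↥X) : ↥X ⧸ T₀.subgroupOf X) = ((y : ↥X) : ↥X ⧸ T₀.subgroupOf X) := by
      intro x y h
      rw [QuotientGroup.eq, Subgroup.mem_subgroupOf] at h ⊢
      have h' : ((τ x : ↥X) : G)⁻¹ * ((τ y : ↥X) : G) ∈ T₀ := h
      rw [hτv, hτv] at h'
      have e2 : (t * (x : G) * t⁻¹)⁻¹ * (t * (y : G) * t⁻¹) =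
          t * ((x : G)⁻¹ * (y : G)) * t⁻¹ := by group
      rw [e2] at h'
      exact (htT' _).mpr h'
    have hfix' : ∀ s ∈ T₀.subgroupOf X, φ s (ψ ⟨v, hv⟩) = ψ ⟨v, hv⟩ := by
      intro s hs
      apply Subtype.ext
      rw [hφv, hψv]
      show (s : G) * (t * v * t⁻¹) * (s : G)⁻¹ = t * v * t⁻¹
      have hs' : t⁻¹ * (s : G) * t ∈ T₀ := (htT' _).mpr (by
        have e : t * (t⁻¹ * (s : G) * t) * t⁻¹ = (s : G) := by group
        rw [e]
        exact Subgroup.mem_subgroupOf.mp hs)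
      have hc := hfix _ hs'
      calc (s : G) * (t * v * t⁻¹) * (s : G)⁻¹
          = t * ((t⁻¹ * (s : G) * t) * v) * (t⁻¹ * (s : G) * t)⁻¹ * t⁻¹ := by group
        _ = t * (v * (t⁻¹ * (s : G) * t)) * (t⁻¹ * (s : G) * t)⁻¹ * t⁻¹ := by rw [hc]
        _ = t * v * t⁻¹ := by group
    have h1 := tr_equiv (T₀.subgroupOf X) φ hφ ⟨v, hv⟩ ψ τ hτ hτinj hfix'
    have h2 := congrArg Subtype.val h1
    rw [hψv] at h2
    have e : ψ ⟨v, hv⟩ = ⟨t * v * t⁻¹, hv'⟩ := Subtype.ext (hψv _)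
    rw [e] at h2
    exact h2.symm

theorem hom_aux {G : Type*} [Group G] (V : Subgroup G) (tr : G → G)
    (h : ∀ v ∈ V, ∀ w ∈ V, tr (v * w) = tr v * tr w) :
    tr 1 = 1 ∧ (∀ v ∈ V, tr v⁻¹ = (tr v)⁻¹) ∧ (∀ v ∈ V, ∀ n : ℕ, tr (v ^ n) = tr v ^ n) := by
  have h1 : tr 1 = 1 := by
    have h0 := h 1 V.one_mem 1 V.one_mem
    rw [mul_one] at h0
    have h2 : tr 1 * tr 1 = tr 1 * 1 := by rw [mul_one]; exact h0.symm
    exact mul_left_cancel h2
  refine ⟨h1, ?_, ?_⟩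
  · intro v hv
    have h0 := h v hv v⁻¹ (V.inv_mem hv)
    rw [mul_inv_cancel, h1] at h0
    exact eq_inv_of_mul_eq_one_right h0.symm
  · intro v hv n
    induction n with
    | zero => rw [pow_zero, pow_zero, h1]
    | succ n ih => rw [pow_succ, pow_succ, h _ (V.pow_mem hv n) _ hv, ih]

theorem om_mem {G : Type*} [Group G] (p : ℕ) (T : Subgroup G) (x : G) :
    x ∈ Cfsg.omegaOne p (T ⊓ Subgroup.centralizer (T : Set G)) ↔
      x ∈ T ∧ x ∈ Subgroup.centralizer (T : Set G) ∧ x ^ p = 1 := by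
  constructor
  · intro hx
    unfold Cfsg.omegaOne at hx
    induction hx using Subgroup.closure_induction with
    | mem y hy =>
      obtain ⟨hyH, hyp⟩ := hy
      obtain ⟨hyT, hyC⟩ := Subgroup.mem_inf.mp hyH
      exact ⟨hyT, hyC, hyp⟩
    | one => exact ⟨T.one_mem, Subgroup.one_mem _, one_pow p⟩
    | mul a b _ _ ha hb =>
      refine ⟨T.mul_mem ha.1 hb.1, Subgroup.mul_mem _ ha.2.1 hb.2.1, ?_⟩
      have hc : Commute a b := Subgroup.mem_centralizer_iff.mp hb.2.1 a ha.1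
      rw [hc.mul_pow, ha.2.2, hb.2.2, one_mul]
    | inv a _ ha =>
      refine ⟨T.inv_mem ha.1, Subgroup.inv_mem _ ha.2.1, ?_⟩
      rw [inv_pow, ha.2.2, inv_one]
  · rintro ⟨h1, h2, h3⟩
    exact Subgroup.subset_closure ⟨Subgroup.mem_inf.mpr ⟨h1, h2⟩, h3⟩

theorem om_norm {G : Type*} [Group G] (p : ℕ) (T : Subgroup G) :
    Subgroup.normalizer (T : Set G) ≤
      Subgroup.normalizer
        ((Cfsg.omegaOne p (T ⊓ Subgroup.centralizer (T : Set G)) : Subgroup G) : Set G) := by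
  apply Cfsg.Agent.Helper7.le_normalizer_of_conj_mem
  intro g hg x hx
  rw [om_mem] at hx ⊢
  obtain ⟨h1, h2, h3⟩ := hx
  have hgT : ∀ y, y ∈ T ↔ g * y * g⁻¹ ∈ T := Subgroup.mem_normalizer_iff.mp hg
  refine ⟨(hgT x).mp h1, ?_, ?_⟩
  · rw [Subgroup.mem_centralizer_iff]
    intro y hy
    have hy' : g⁻¹ * y * g ∈ T := (hgT _).mpr (by
      have e : g * (g⁻¹ * y * g) * g⁻¹ = y := by group
      rw [e]
      exact hy)
    have hc : (g⁻¹ * y * g) * x = x * (g⁻¹ * y * g) :=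
      Subgroup.mem_centralizer_iff.mp h2 _ hy'
    calc y * (g * x * g⁻¹) = g * ((g⁻¹ * y * g) * x) * g⁻¹ := by group
      _ = g * (x * (g⁻¹ * y * g)) * g⁻¹ := by rw [hc]
      _ = g * x * g⁻¹ * y := by group
  · rw [conj_pow, h3, mul_one, mul_inv_cancel]

theorem core_le {G : Type*} [Group G] [Finite G] {p : ℕ} [Fact p.Prime] (T E : Subgroup G)
    (hT : IsPGroup p ↥T) (hTE : T ≤ E) (hidx : ¬ p ∣ T.relIndex E) :
    Cfsg.pCoreOf p E ≤ T := by
  have hP : IsPGroup p ↥(Cfsg.pCoreOf p E) := Cfsg.Agent.Helper14.pCoreOf_isPGroup p E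
  have hPE : Cfsg.pCoreOf p E ≤ E := Cfsg.Agent.Helper14.pCoreOf_le p E
  have hEP : E ≤ Subgroup.normalizer ((Cfsg.pCoreOf p E : Subgroup G) : Set G) := by
    haveI := Cfsg.Agent.Helper14.pCore_normal p ↥E
    exact Cfsg.Agent.Helper7.le_normalizer_map_subtype _
  have hsup : IsPGroup p ↥(T ⊔ Cfsg.pCoreOf p E) :=
    IsPGroup.to_sup_of_normal_right' hT hP (hTE.trans hEP)
  have hle : T ⊔ Cfsg.pCoreOf p E ≤ E := sup_le hTE hPE
  have h1 : T.relIndex (T ⊔ Cfsg.pCoreOf p E) * (T ⊔ Cfsg.pCoreOf p E).relIndex E =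
      T.relIndex E := Subgroup.relIndex_mul_relIndex T _ E le_sup_left hle
  obtain ⟨n, hn⟩ : ∃ n, T.relIndex (T ⊔ Cfsg.pCoreOf p E) = p ^ n := hsup.index _
  have hn0 : n = 0 := by
    by_contra hne
    apply hidx
    rw [← h1, hn]
    exact Dvd.dvd.mul_right (dvd_pow_self p hne) _
  rw [hn0, pow_zero] at hn
  exact le_sup_right.trans (Subgroup.relIndex_eq_one.mp hn)

theorem comm_of_pow {G : Type*} [Group G] {p m : ℕ} [hp : Fact p.Prime] (hm : ¬ p ∣ m)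
    (z x : G) (hz : z ^ p = 1) (hc : x * z ^ m = z ^ m * x) : x * z = z * x := by
  have hcop : Nat.Coprime m p := ((Nat.Prime.coprime_iff_not_dvd hp.out).mpr hm).symm
  obtain ⟨k, -, hk⟩ := Nat.exists_mul_mod_eq_one_of_coprime hcop hp.out.one_lt
  have h1 : (z ^ m) ^ k = z := by
    rw [← pow_mul, pow_eq_pow_mod (m * k) hz, hk, pow_one]
  have h2 : Commute x ((z ^ m) ^ k) := (show Commute x (z ^ m) from hc).pow_right k
  rw [h1] at h2
  exact h2

theorem eq_one_of_pow {G : Type*} [Group G] {p m : ℕ} [hp : Fact p.Prime] (hm : ¬ p ∣ m)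
    (z : G) (hz : z ^ p = 1) (hzm : z ^ m = 1) : z = 1 := by
  have hcop : Nat.Coprime m p := ((Nat.Prime.coprime_iff_not_dvd hp.out).mpr hm).symm
  obtain ⟨k, -, hk⟩ := Nat.exists_mul_mod_eq_one_of_coprime hcop hp.out.one_lt
  have h1 : (z ^ m) ^ k = z := by
    rw [← pow_mul, pow_eq_pow_mod (m * k) hz, hk, pow_one]
  calc z = (z ^ m) ^ k := h1.symm
    _ = 1 := by rw [hzm, one_pow]

/-- The normal case, in relative form. -/
theorem normal_case {G : Type*} [Group G] [Finite G] {p : ℕ} [Fact p.Prime]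
    (K E T : Subgroup G)
    (hKchar : ∀ x ∈ K, x ∈ Subgroup.centralizer ((Cfsg.pCoreOf p K : Subgroup G) : Set G) →
      x ∈ Cfsg.pCoreOf p K)
    (hEchar : ∀ x ∈ E, x ∈ Subgroup.centralizer ((Cfsg.pCoreOf p E : Subgroup G) : Set G) →
      x ∈ Cfsg.pCoreOf p E)
    (hT : IsPGroup p ↥T) (hTK : T ≤ K) (hidxK : ¬ p ∣ T.relIndex K)
    (hEK : E ≤ K) (hKE : K ≤ Subgroup.normalizer (E : Set G)) (hidxE : ¬ p ∣ T.relIndex E) :
    E ⊓ Subgroup.centralizer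
        ((Cfsg.omegaOne p (T ⊓ Subgroup.centralizer (T : Set G)) : Subgroup G) : Set G) =
      E ⊓ Subgroup.centralizer
        ((Cfsg.omegaOne p ((T ⊓ E) ⊓ Subgroup.centralizer ((T ⊓ E : Subgroup G) : Set G)) :
          Subgroup G) : Set G) := by
  have hT₀p : IsPGroup p ↥(T ⊓ E) := hT.to_le inf_le_left
  have hidx₀ : ¬ p ∣ (T ⊓ E).relIndex E := by
    rw [Subgroup.inf_relIndex_right]; exact hidxE
  have hTnE : T ≤ Subgroup.normalizer (E : Set G) := hTK.trans hKE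
  have hTnT₀ : T ≤ Subgroup.normalizer ((T ⊓ E : Subgroup G) : Set G) :=
    (le_inf Subgroup.le_normalizer hTnE).trans Subgroup.inf_normalizer_le_normalizer_inf
  obtain ⟨PK, hPK⟩ : ∃ PK : Subgroup G, PK = Cfsg.pCoreOf p K := ⟨_, rfl⟩
  obtain ⟨PE, hPE⟩ : ∃ PE : Subgroup G, PE = Cfsg.pCoreOf p E := ⟨_, rfl⟩
  rw [← hPK] at hKchar
  rw [← hPE] at hEchar
  have hPKT : PK ≤ T := by rw [hPK]; exact core_le T K hT hTK hidxK
  have hPET : PE ≤ T ⊓ E := by rw [hPE]; exact core_le (T ⊓ E) E hT₀p inf_le_right hidx₀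
  have hKnPK : K ≤ Subgroup.normalizer (PK : Set G) := by
    rw [hPK]
    haveI := Cfsg.Agent.Helper14.pCore_normal p ↥K
    exact Cfsg.Agent.Helper7.le_normalizer_map_subtype _
  have hEnPE : E ≤ Subgroup.normalizer (PE : Set G) := by
    rw [hPE]
    haveI := Cfsg.Agent.Helper14.pCore_normal p ↥E
    exact Cfsg.Agent.Helper7.le_normalizer_map_subtype _
  obtain ⟨Z, hZ⟩ : ∃ Z : Subgroup G,
      Z = Cfsg.omegaOne p (T ⊓ Subgroup.centralizer (T : Set G)) := ⟨_, rfl⟩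
  obtain ⟨Z₀, hZ₀⟩ : ∃ Z₀ : Subgroup G,
      Z₀ = Cfsg.omegaOne p ((T ⊓ E) ⊓ Subgroup.centralizer ((T ⊓ E : Subgroup G) : Set G)) :=
    ⟨_, rfl⟩
  obtain ⟨VK, hVK⟩ : ∃ VK : Subgroup G,
      VK = Cfsg.omegaOne p (PK ⊓ Subgroup.centralizer (PK : Set G)) := ⟨_, rfl⟩
  obtain ⟨VE, hVE⟩ : ∃ VE : Subgroup G,
      VE = Cfsg.omegaOne p (PE ⊓ Subgroup.centralizer (PE : Set G)) := ⟨_, rfl⟩
  have mZ : ∀ x, x ∈ Z ↔ x ∈ T ∧ x ∈ Subgroup.centralizer (T : Set G) ∧ x ^ p = 1 := by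
    intro x; rw [hZ]; exact om_mem p T x
  have mZ₀ : ∀ x, x ∈ Z₀ ↔ x ∈ T ⊓ E ∧
      x ∈ Subgroup.centralizer ((T ⊓ E : Subgroup G) : Set G) ∧ x ^ p = 1 := by
    intro x; rw [hZ₀]; exact om_mem p (T ⊓ E) x
  have mVK : ∀ x, x ∈ VK ↔ x ∈ PK ∧ x ∈ Subgroup.centralizer (PK : Set G) ∧ x ^ p = 1 := by
    intro x; rw [hVK]; exact om_mem p PK x
  have mVE : ∀ x, x ∈ VE ↔ x ∈ PE ∧ x ∈ Subgroup.centralizer (PE : Set G) ∧ x ^ p = 1 := by
    intro x; rw [hVE]; exact om_mem p PE x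
  have hTnZ : T ≤ Subgroup.normalizer (Z : Set G) := by
    rw [hZ]; exact Subgroup.le_normalizer.trans (om_norm p T)
  have hTnZ₀ : T ≤ Subgroup.normalizer (Z₀ : Set G) := by
    rw [hZ₀]; exact hTnT₀.trans (om_norm p (T ⊓ E))
  have hKnVK : K ≤ Subgroup.normalizer (VK : Set G) := by
    rw [hVK]; exact hKnPK.trans (om_norm p PK)
  have hEnVE : E ≤ Subgroup.normalizer (VE : Set G) := by
    rw [hVE]; exact hEnPE.trans (om_norm p PE)
  have hTnVE : T ≤ Subgroup.normalizer (VE : Set G) := by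
    rw [hVE]
    refine (hTnE.trans ?_).trans (om_norm p PE)
    rw [hPE]
    exact Cfsg.Agent.Helper9.FrakH.normalizer_le_normalizer_pCoreOf p E
  have hVKab : ∀ a ∈ VK, ∀ b ∈ VK, a * b = b * a := by
    intro a ha b hb
    exact Subgroup.mem_centralizer_iff.mp ((mVK b).mp hb).2.1 a ((mVK a).mp ha).1
  have hVEab : ∀ a ∈ VE, ∀ b ∈ VE, a * b = b * a := by
    intro a ha b hb
    exact Subgroup.mem_centralizer_iff.mp ((mVE b).mp hb).2.1 a ((mVE a).mp ha).1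
  rw [← hZ, ← hZ₀]
  apply le_antisymm
  · -- `C_E(Z) ≤ C_E(Z₀)`
    intro x hx
    obtain ⟨hxE, hxC⟩ := Subgroup.mem_inf.mp hx
    refine Subgroup.mem_inf.mpr ⟨hxE, ?_⟩
    obtain ⟨X, hX⟩ : ∃ X : Subgroup G, X = E ⊓ Subgroup.centralizer (Z : Set G) := ⟨_, rfl⟩
    have hxX : x ∈ X := by rw [hX]; exact hx
    have hXE : X ≤ E := by rw [hX]; exact inf_le_left
    have hXC : ∀ y ∈ X, ∀ u ∈ Z, u * y = y * u := by
      intro y hy u hu
      rw [hX] at hy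
      exact Subgroup.mem_centralizer_iff.mp (Subgroup.mem_inf.mp hy).2 u hu
    have hT₀X : T ⊓ E ≤ X := by
      intro t ht
      rw [hX]
      refine Subgroup.mem_inf.mpr ⟨(Subgroup.mem_inf.mp ht).2, ?_⟩
      rw [Subgroup.mem_centralizer_iff]
      intro u hu
      exact (Subgroup.mem_centralizer_iff.mp ((mZ u).mp hu).2.1 t
        (Subgroup.mem_inf.mp ht).1).symm
    have hm : ¬ p ∣ (T ⊓ E).relIndex X := fun h =>
      hidx₀ (h.trans (Dvd.intro _ (Subgroup.relIndex_mul_relIndex _ _ _ hT₀X hXE)))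
    have hXVE : ∀ y ∈ X, ∀ v ∈ VE, y * v * y⁻¹ ∈ VE := by
      intro y hy v hv
      exact (Subgroup.mem_normalizer_iff.mp (hEnVE (hXE hy)) v).mp hv
    obtain ⟨tr, t1, t2, t3, t4, -, t6⟩ := concrete X (T ⊓ E) VE hVEab hXVE
    obtain ⟨tr_one, tr_inv, tr_pow⟩ := hom_aux VE tr t2
    have hZ₀VE : ∀ u ∈ Z₀, u ∈ VE := by
      intro u hu
      obtain ⟨huT, huC, hup⟩ := (mZ₀ u).mp hu
      have huCPE : u ∈ Subgroup.centralizer (PE : Set G) := by
        rw [Subgroup.mem_centralizer_iff]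
        intro y hy
        exact Subgroup.mem_centralizer_iff.mp huC y (hPET hy)
      exact (mVE u).mpr ⟨hEchar u (Subgroup.mem_inf.mp huT).2 huCPE, huCPE, hup⟩
    have hVEZ₀ : ∀ v ∈ VE, (∀ t ∈ T ⊓ E, t * v = v * t) → v ∈ Z₀ := by
      intro v hv hfix
      obtain ⟨hvP, -, hvp⟩ := (mVE v).mp hv
      exact (mZ₀ v).mpr ⟨hPET hvP, Subgroup.mem_centralizer_iff.mpr hfix, hvp⟩
    have hTnX : T ≤ Subgroup.normalizer (X : Set G) := by
      rw [hX]
      refine (le_inf hTnE ?_).trans Subgroup.inf_normalizer_le_normalizer_inf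
      exact hTnZ.trans (Cfsg.Agent.Helper7.normalizer_le_normalizer_centralizer' Z)
    obtain ⟨W, hWmem⟩ : ∃ W : Subgroup G, ∀ w, w ∈ W ↔ w ∈ Z₀ ∧ tr w = 1 :=
      ⟨{ carrier := {w | w ∈ Z₀ ∧ tr w = 1}
         mul_mem' := by
           intro a b ha hb
           obtain ⟨ha1, ha2⟩ := ha
           obtain ⟨hb1, hb2⟩ := hb
           exact ⟨Z₀.mul_mem ha1 hb1, by
             rw [t2 a (hZ₀VE a ha1) b (hZ₀VE b hb1), ha2, hb2, one_mul]⟩
         one_mem' := ⟨Z₀.one_mem, tr_one⟩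
         inv_mem' := by
           intro a ha
           obtain ⟨ha1, ha2⟩ := ha
           exact ⟨Z₀.inv_mem ha1, by rw [tr_inv a (hZ₀VE a ha1), ha2, inv_one]⟩ },
       fun w => Iff.rfl⟩
    have hWT : W ≤ T := by
      intro w hw
      exact (Subgroup.mem_inf.mp ((mZ₀ w).mp ((hWmem w).mp hw).1).1).1
    have hTW : T ≤ Subgroup.normalizer (W : Set G) := by
      apply Cfsg.Agent.Helper7.le_normalizer_of_conj_mem
      intro t ht w hw
      obtain ⟨hwZ₀, hw1⟩ := (hWmem w).mp hw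
      refine (hWmem _).mpr ⟨(Subgroup.mem_normalizer_iff.mp (hTnZ₀ ht) w).mp hwZ₀, ?_⟩
      have hwfix : ∀ s ∈ T ⊓ E, s * w = w * s := fun s hs =>
        Subgroup.mem_centralizer_iff.mp ((mZ₀ w).mp hwZ₀).2.1 s hs
      rw [t6 t (hTnX ht) (hTnT₀ ht) (hTnVE ht) w (hZ₀VE w hwZ₀) hwfix, hw1, mul_one,
        mul_inv_cancel]
    have hW : W = ⊥ := by
      by_contra hne
      obtain ⟨w, hwW, hw1, hwC⟩ :=
        Cfsg.Agent.Helper7.exists_central_of_normal_pgroup p T W hT hWT hTW hne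
      obtain ⟨hwZ₀, hwtr⟩ := (hWmem w).mp hwW
      obtain ⟨-, -, hwp⟩ := (mZ₀ w).mp hwZ₀
      have hwZ : w ∈ Z := (mZ w).mpr ⟨hWT hwW, hwC, hwp⟩
      have hall : ∀ y ∈ X, y * w = w * y := fun y hy => (hXC y hy w hwZ).symm
      have h4 := t4 w (hZ₀VE w hwZ₀) hall
      rw [hwtr] at h4
      exact hw1 (eq_one_of_pow hm w hwp h4.symm)
    rw [Subgroup.mem_centralizer_iff]
    intro u hu
    obtain ⟨huT, huC, hup⟩ := (mZ₀ u).mp hu
    have huV : u ∈ VE := hZ₀VE u hu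
    have hufix : ∀ t ∈ T ⊓ E, t * u = u * t := fun t ht =>
      Subgroup.mem_centralizer_iff.mp huC t ht
    have hcV : tr u ∈ VE := t1 u huV
    have hcX : ∀ y ∈ X, y * tr u = tr u * y := t3 u huV hufix
    have hcZ₀ : tr u ∈ Z₀ := hVEZ₀ _ hcV (fun t ht => hcX t (hT₀X ht))
    have hc4 : tr (tr u) = tr u ^ (T ⊓ E).relIndex X := t4 _ hcV hcX
    have hwW : u ^ (T ⊓ E).relIndex X * (tr u)⁻¹ ∈ W := by
      refine (hWmem _).mpr ⟨Z₀.mul_mem (Z₀.pow_mem hu _) (Z₀.inv_mem hcZ₀), ?_⟩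
      rw [t2 _ (VE.pow_mem huV _) _ (VE.inv_mem hcV), tr_pow u huV, tr_inv _ hcV, hc4,
        mul_inv_cancel]
    rw [hW, Subgroup.mem_bot] at hwW
    have hum : u ^ (T ⊓ E).relIndex X = tr u := mul_inv_eq_one.mp hwW
    have c3 : x * u ^ (T ⊓ E).relIndex X = u ^ (T ⊓ E).relIndex X * x := by
      rw [hum]; exact hcX x hxX
    exact (comm_of_pow hm u x hup c3).symm
  · -- `C_E(Z₀) ≤ C_E(Z)`
    intro x hx
    obtain ⟨hxE, hxC⟩ := Subgroup.mem_inf.mp hx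
    refine Subgroup.mem_inf.mpr ⟨hxE, ?_⟩
    obtain ⟨X, hX⟩ : ∃ X : Subgroup G, X = E ⊓ Subgroup.centralizer (Z₀ : Set G) := ⟨_, rfl⟩
    have hxX : x ∈ X := by rw [hX]; exact hx
    have hXE : X ≤ E := by rw [hX]; exact inf_le_left
    have hXC : ∀ y ∈ X, ∀ u ∈ Z₀, u * y = y * u := by
      intro y hy u hu
      rw [hX] at hy
      exact Subgroup.mem_centralizer_iff.mp (Subgroup.mem_inf.mp hy).2 u hu
    have hT₀X : T ⊓ E ≤ X := by
      intro t ht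
      rw [hX]
      refine Subgroup.mem_inf.mpr ⟨(Subgroup.mem_inf.mp ht).2, ?_⟩
      rw [Subgroup.mem_centralizer_iff]
      intro u hu
      exact (Subgroup.mem_centralizer_iff.mp ((mZ₀ u).mp hu).2.1 t ht).symm
    have hm : ¬ p ∣ (T ⊓ E).relIndex X := fun h =>
      hidx₀ (h.trans (Dvd.intro _ (Subgroup.relIndex_mul_relIndex _ _ _ hT₀X hXE)))
    have hXVK : ∀ y ∈ X, ∀ v ∈ VK, y * v * y⁻¹ ∈ VK := by
      intro y hy v hv
      exact (Subgroup.mem_normalizer_iff.mp (hKnVK (hEK (hXE hy))) v).mp hv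
    obtain ⟨tr, t1, -, t3, -, t5, -⟩ := concrete X (T ⊓ E) VK hVKab hXVK
    rw [Subgroup.mem_centralizer_iff]
    intro z hz
    obtain ⟨hzT, hzC, hzp⟩ := (mZ z).mp hz
    have hzK : z ∈ K := hTK hzT
    have hzCPK : z ∈ Subgroup.centralizer (PK : Set G) := by
      rw [Subgroup.mem_centralizer_iff]
      intro y hy
      exact Subgroup.mem_centralizer_iff.mp hzC y (hPKT hy)
    have hzPK : z ∈ PK := hKchar z hzK hzCPK
    have hzVK : z ∈ VK := (mVK z).mpr ⟨hzPK, hzCPK, hzp⟩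
    have hzfix : ∀ t ∈ T ⊓ E, t * z = z * t := fun t ht =>
      Subgroup.mem_centralizer_iff.mp hzC t (Subgroup.mem_inf.mp ht).1
    have hc1 : tr z ∈ VK := t1 z hzVK
    have hc3 : ∀ y ∈ X, y * tr z = tr z * y := t3 z hzVK hzfix
    have haE : tr z * (z ^ (T ⊓ E).relIndex X)⁻¹ ∈ E := by
      refine t5 z hzVK E ?_
      intro y hy
      have h1 : z * y⁻¹ * z⁻¹ ∈ E :=
        (Subgroup.mem_normalizer_iff.mp (hKE hzK) y⁻¹).mp (E.inv_mem (hXE hy))
      have h2 : y * z * y⁻¹ * z⁻¹ = y * (z * y⁻¹ * z⁻¹) := by group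
      rw [h2]
      exact E.mul_mem (hXE hy) h1
    have haVK : tr z * (z ^ (T ⊓ E).relIndex X)⁻¹ ∈ VK :=
      VK.mul_mem hc1 (VK.inv_mem (VK.pow_mem hzVK _))
    obtain ⟨haPK, -, hap⟩ := (mVK _).mp haVK
    have hcomm_t : ∀ t ∈ T ⊓ E, t * (tr z * (z ^ (T ⊓ E).relIndex X)⁻¹) =
        (tr z * (z ^ (T ⊓ E).relIndex X)⁻¹) * t := by
      intro t ht
      have c1 : Commute t (tr z) := hc3 t (hT₀X ht)
      have c2 : Commute t z := hzfix t ht
      exact c1.mul_right (c2.pow_right _).inv_right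
    have haZ₀ : tr z * (z ^ (T ⊓ E).relIndex X)⁻¹ ∈ Z₀ :=
      (mZ₀ _).mpr ⟨Subgroup.mem_inf.mpr ⟨hPKT haPK, haE⟩,
        Subgroup.mem_centralizer_iff.mpr hcomm_t, hap⟩
    have c1 : Commute x (tr z * (z ^ (T ⊓ E).relIndex X)⁻¹) := (hXC x hxX _ haZ₀).symm
    have c2 : Commute x (tr z) := hc3 x hxX
    have c3 : Commute x (z ^ (T ⊓ E).relIndex X) := by
      have c4 : Commute x ((tr z * (z ^ (T ⊓ E).relIndex X)⁻¹)⁻¹ * tr z) :=
        c1.inv_right.mul_right c2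
      rw [mul_inv_rev, inv_inv, inv_mul_cancel_right] at c4
      exact c4
    exact (comm_of_pow hm z x hzp c3).symm

/-- Subnormal subgroups of a group of characteristic `p` have characteristic `p`. -/
theorem sub_char {H : Type*} [Group H] [Finite H] {p : ℕ} [Fact p.Prime]
    (hH : Subgroup.centralizer (Cfsg.pCore p H : Set H) ≤ Cfsg.pCore p H)
    (L : Subgroup H) (hL : L.IsSubnormal) :
    ∀ x ∈ L, x ∈ Subgroup.centralizer ((Cfsg.pCoreOf p L : Subgroup H) : Set H) →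
      x ∈ Cfsg.pCoreOf p L := by
  induction hL with
  | top =>
    have h1 : Cfsg.pCore p H ≤ Cfsg.pCoreOf p (⊤ : Subgroup H) := by
      haveI := Cfsg.Agent.Helper14.pCore_normal p H
      refine Cfsg.Agent.Helper7.le_pCoreOf_of_normal_pgroup p _ _ le_top ?_
        (Cfsg.Agent.Helper14.pCore_isPGroup p H)
      exact (Subgroup.normalizer_eq_top (H := Cfsg.pCore p H)).ge
    intro x _ hx
    apply h1
    apply hH
    rw [Subgroup.mem_centralizer_iff] at hx ⊢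
    intro y hy
    exact hx y (h1 hy)
  | step L M hLM hM hN ih =>
    have hMnL : M ≤ Subgroup.normalizer (L : Set H) :=
      (Subgroup.normal_subgroupOf_iff_le_normalizer hLM).mp hN
    exact Cfsg.Agent.Helper9.FrakH.char_of_normalized M L ih hLM
      ((Cfsg.Agent.Helper14.pCoreOf_le p M).trans hMnL)

/-- Kieler's lemma. -/
theorem kieler {H : Type*} [Group H] [Finite H] {p : ℕ} [Fact p.Prime]
    (hH : Subgroup.centralizer (Cfsg.pCore p H : Set H) ≤ Cfsg.pCore p H) (T : Sylow p H)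
    (L : Subgroup H) (hL : L.IsSubnormal) :
    L ⊓ Subgroup.centralizer ((Cfsg.omegaOne p ((T : Subgroup H) ⊓
        Subgroup.centralizer ((T : Subgroup H) : Set H))) : Set H) =
      L ⊓ Subgroup.centralizer ((Cfsg.omegaOne p (((T : Subgroup H) ⊓ L) ⊓
        Subgroup.centralizer ((((T : Subgroup H) ⊓ L) : Subgroup H) : Set H))) : Set H) := by
  induction hL with
  | top => rw [inf_top_eq]
  | step L M hLM hM hN ih =>
    have hMnL : M ≤ Subgroup.normalizer (L : Set H) :=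
      (Subgroup.normal_subgroupOf_iff_le_normalizer hLM).mp hN
    have hLsub : L.IsSubnormal := Subgroup.IsSubnormal.step L M hLM hM hN
    have hMchar := sub_char hH M hM
    have hLchar := sub_char hH L hLsub
    have hidxM : ¬ p ∣ ((T : Subgroup H) ⊓ M).relIndex M := by
      rw [Subgroup.inf_relIndex_right]; exact Cfsg.Agent.S0542.aux p T M hM
    have e1 : ((T : Subgroup H) ⊓ M) ⊓ L = (T : Subgroup H) ⊓ L := by
      rw [inf_assoc, inf_eq_right.mpr hLM]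
    have hidxL : ¬ p ∣ ((T : Subgroup H) ⊓ M).relIndex L := by
      have h1 : ((T : Subgroup H) ⊓ M).relIndex L = (T : Subgroup H).relIndex L := by
        rw [← Subgroup.inf_relIndex_right ((T : Subgroup H) ⊓ M) L, e1,
          Subgroup.inf_relIndex_right]
      rw [h1]; exact Cfsg.Agent.S0542.aux p T L hLsub
    have key := normal_case M L ((T : Subgroup H) ⊓ M) hMchar hLchar
      (T.isPGroup'.to_le inf_le_left) inf_le_right hidxM hLM hMnL hidxL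
    rw [e1] at key
    rw [← key]
    have e2 : L ⊓ M = L := inf_eq_left.mpr hLM
    calc L ⊓ Subgroup.centralizer ((Cfsg.omegaOne p ((T : Subgroup H) ⊓
            Subgroup.centralizer ((T : Subgroup H) : Set H))) : Set H)
        = (L ⊓ M) ⊓ Subgroup.centralizer ((Cfsg.omegaOne p ((T : Subgroup H) ⊓
            Subgroup.centralizer ((T : Subgroup H) : Set H))) : Set H) := by rw [e2]
      _ = L ⊓ (M ⊓ Subgroup.centralizer ((Cfsg.omegaOne p ((T : Subgroup H) ⊓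
            Subgroup.centralizer ((T : Subgroup H) : Set H))) : Set H)) := inf_assoc _ _ _
      _ = L ⊓ (M ⊓ Subgroup.centralizer ((Cfsg.omegaOne p (((T : Subgroup H) ⊓ M) ⊓
            Subgroup.centralizer ((((T : Subgroup H) ⊓ M) : Subgroup H) : Set H))) :
            Set H)) := by rw [ih]
      _ = (L ⊓ M) ⊓ Subgroup.centralizer ((Cfsg.omegaOne p (((T : Subgroup H) ⊓ M) ⊓
            Subgroup.centralizer ((((T : Subgroup H) ⊓ M) : Subgroup H) : Set H))) :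
            Set H) := (inf_assoc _ _ _).symm
      _ = L ⊓ Subgroup.centralizer ((Cfsg.omegaOne p (((T : Subgroup H) ⊓ M) ⊓
            Subgroup.centralizer ((((T : Subgroup H) ⊓ M) : Subgroup H) : Set H))) :
            Set H) := by rw [e2]

end Cfsg.Agent.Helper9.Kieler
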