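import Mathlib

set_option autoImplicit false

/-!
Linear algebra of an element `x` of odd order `r` in characteristic 2 (for S5986, odd-`r` direction):
`avg x r = ∑_{i<r} x^i` is a projection onto the fixed space of `x` with kernel the image of `x - 1`,
and the fixed space is orthogonal to the image of `x - 1` for every `x`-invariant biadditive form.
-/

namespace Cfsg.Agent.Helper9.NS5d

open Matrix

variable {ι : Type*} [Fintype ι] [DecidableEq ι] {F : Type*} [Field F]

/-- the sum `1 + x + ... + x^(r-1)` -/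
def avg (x : Matrix ι ι F) (r : ℕ) : Matrix ι ι F := ∑ i ∈ Finset.range r, x ^ i

/-- `∑_{i<r} ∑_{j<i} x^j`, so that `(x - 1) * aux x r = avg x r - r` -/
def aux (x : Matrix ι ι F) (r : ℕ) : Matrix ι ι F :=
  ∑ i ∈ Finset.range r, ∑ j ∈ Finset.range i, x ^ j

theorem mul_avg (x : Matrix ι ι F) (r : ℕ) (hx : x ^ r = 1) : x * avg x r = avg x r := by
  unfold avg
  rw [Finset.mul_sum]
  have h0 : ∀ i ∈ Finset.range r, x * x ^ i = x ^ (i + 1) := fun i _ => (pow_succ' x i).symm
  rw [Finset.sum_congr rfl h0]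
  have h1 := Finset.sum_range_succ' (fun i => x ^ i) r
  have h2 := Finset.sum_range_succ (fun i => x ^ i) r
  rw [h2, hx, pow_zero] at h1
  exact (add_right_cancel h1).symm

theorem avg_mul (x : Matrix ι ι F) (r : ℕ) (hx : x ^ r = 1) : avg x r * x = avg x r := by
  unfold avg
  rw [Finset.sum_mul]
  have h0 : ∀ i ∈ Finset.range r, x ^ i * x = x ^ (i + 1) := fun i _ => (pow_succ x i).symm
  rw [Finset.sum_congr rfl h0]
  have h1 := Finset.sum_range_succ' (fun i => x ^ i) r
  have h2 := Finset.sum_range_succ (fun i => x ^ i) r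
  rw [h2, hx, pow_zero] at h1
  exact (add_right_cancel h1).symm

theorem pow_mul_avg (x : Matrix ι ι F) (r : ℕ) (hx : x ^ r = 1) (i : ℕ) :
    x ^ i * avg x r = avg x r := by
  induction i with
  | zero => simp
  | succ n ih => rw [pow_succ, mul_assoc, mul_avg x r hx, ih]

theorem cast_odd_eq_one (hch : (2 : F) = 0) {r : ℕ} (hr : Odd r) : (r : F) = 1 := by
  obtain ⟨k, rfl⟩ := hr
  push_cast
  rw [hch, zero_mul, zero_add]

/-- `avg x r` is idempotent (`r` odd, characteristic 2). -/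
theorem avg_mul_avg (x : Matrix ι ι F) (r : ℕ) (hx : x ^ r = 1) (hch : (2 : F) = 0)
    (hr : Odd r) : avg x r * avg x r = avg x r := by
  have h1 : avg x r * avg x r = ∑ _i ∈ Finset.range r, avg x r := by
    conv_lhs => rw [avg, Finset.sum_mul]
    exact Finset.sum_congr rfl (fun i _ => pow_mul_avg x r hx i)
  rw [h1, Finset.sum_const, Finset.card_range, ← Nat.cast_smul_eq_nsmul F,
    cast_odd_eq_one hch hr, one_smul]

/-- `(x - 1) * aux x r = avg x r - 1` (`r` odd, characteristic 2). -/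
theorem sub_one_mul_aux (x : Matrix ι ι F) (r : ℕ) (hch : (2 : F) = 0) (hr : Odd r) :
    (x - 1) * aux x r = avg x r - 1 := by
  unfold aux avg
  rw [Finset.mul_sum]
  have h0 : ∀ i ∈ Finset.range r, (x - 1) * ∑ j ∈ Finset.range i, x ^ j = x ^ i - 1 :=
    fun i _ => mul_geom_sum x i
  rw [Finset.sum_congr rfl h0, Finset.sum_sub_distrib, Finset.sum_const, Finset.card_range,
    ← Nat.cast_smul_eq_nsmul F, cast_odd_eq_one hch hr, one_smul]

/-- fixed vectors are fixed by `avg`. -/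
theorem avg_mulVec_of_fixed (x : Matrix ι ι F) (r : ℕ) (hch : (2 : F) = 0) (hr : Odd r)
    (v : ι → F) (hv : x *ᵥ v = v) : avg x r *ᵥ v = v := by
  have hp : ∀ i : ℕ, (x ^ i) *ᵥ v = v := by
    intro i
    induction i with
    | zero => simp
    | succ n ih => rw [pow_succ, ← Matrix.mulVec_mulVec, hv, ih]
  unfold avg
  rw [Matrix.sum_mulVec, Finset.sum_congr rfl (fun i _ => hp i), Finset.sum_const,
    Finset.card_range, ← Nat.cast_smul_eq_nsmul F, cast_odd_eq_one hch hr, one_smul]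

/-- the image of `avg` consists of fixed vectors. -/
theorem fixed_avg_mulVec (x : Matrix ι ι F) (r : ℕ) (hx : x ^ r = 1) (v : ι → F) :
    x *ᵥ (avg x r *ᵥ v) = avg x r *ᵥ v := by
  rw [Matrix.mulVec_mulVec, mul_avg x r hx]

/-- `avg` kills the image of `x - 1`. -/
theorem avg_mulVec_sub_one (x : Matrix ι ι F) (r : ℕ) (hx : x ^ r = 1) (w : ι → F) :
    avg x r *ᵥ ((x - 1) *ᵥ w) = 0 := by
  rw [Matrix.mulVec_mulVec, mul_sub, avg_mul x r hx, mul_one, sub_self, Matrix.zero_mulVec]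

/-- every vector is (fixed vector) + (element of the image of `x - 1`). -/
theorem decomp (x : Matrix ι ι F) (r : ℕ) (hx : x ^ r = 1) (hch : (2 : F) = 0) (hr : Odd r)
    (v : ι → F) : ∃ u w : ι → F, x *ᵥ u = u ∧ v = u + (x - 1) *ᵥ w := by
  refine ⟨avg x r *ᵥ v, -(aux x r *ᵥ v), fixed_avg_mulVec x r hx v, ?_⟩
  rw [Matrix.mulVec_neg, Matrix.mulVec_mulVec, sub_one_mul_aux x r hch hr, Matrix.sub_mulVec,
    Matrix.one_mulVec]
  abel

/-- explicit form: `v = avg v + (x - 1) (-(aux v))`. -/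
theorem decomp_eq (x : Matrix ι ι F) (r : ℕ) (hch : (2 : F) = 0) (hr : Odd r)
    (v : ι → F) : v = avg x r *ᵥ v + (x - 1) *ᵥ (-(aux x r *ᵥ v)) := by
  rw [Matrix.mulVec_neg, Matrix.mulVec_mulVec, sub_one_mul_aux x r hch hr, Matrix.sub_mulVec,
    Matrix.one_mulVec]
  abel

/-- a vector killed by `avg` lies in the image of `x - 1`. -/
theorem mem_range_of_avg_eq_zero (x : Matrix ι ι F) (r : ℕ) (hch : (2 : F) = 0) (hr : Odd r)
    (v : ι → F) (hv : avg x r *ᵥ v = 0) : ∃ w : ι → F, v = (x - 1) *ᵥ w := by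
  refine ⟨-(aux x r *ᵥ v), ?_⟩
  have h := decomp_eq x r hch hr v
  rw [hv, zero_add] at h
  exact h

/-- a fixed vector in the image of `x - 1` is zero. -/
theorem fixed_inter_range (x : Matrix ι ι F) (r : ℕ) (hx : x ^ r = 1) (hch : (2 : F) = 0)
    (hr : Odd r) (u w : ι → F) (hu : x *ᵥ u = u) (huw : u = (x - 1) *ᵥ w) : u = 0 := by
  have h1 := avg_mulVec_of_fixed x r hch hr u hu
  rw [huw, avg_mulVec_sub_one x r hx w] at h1
  rw [huw]
  exact h1.symm

/-- For an `x`-invariant form `B`, additive in the second variable: fixed vectors are orthogonal to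
the image of `x - 1`. -/
theorem orth (x : Matrix ι ι F) (B : (ι → F) → (ι → F) → F)
    (hadd : ∀ u v w, B u (v + w) = B u v + B u w)
    (hinv : ∀ u v, B (x *ᵥ u) (x *ᵥ v) = B u v)
    (u w : ι → F) (hu : x *ᵥ u = u) : B u ((x - 1) *ᵥ w) = 0 := by
  have h1 : B u (x *ᵥ w) = B u w := by
    have := hinv u w
    rwa [hu] at this
  have h2 : B u ((x - 1) *ᵥ w + w) = B u ((x - 1) *ᵥ w) + B u w := hadd _ _ _
  have h3 : (x - 1) *ᵥ w + w = x *ᵥ w := by
    rw [Matrix.sub_mulVec, Matrix.one_mulVec]; abel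
  rw [h3, h1] at h2
  exact (add_eq_right.mp h2.symm)

/-- If a fixed vector `u` is `B`-orthogonal to all fixed vectors, it is orthogonal to everything
(so `u = 0` when `B` is nondegenerate): the form is nondegenerate on the fixed space. -/
theorem radical_of_fixed (x : Matrix ι ι F) (r : ℕ) (hx : x ^ r = 1) (hch : (2 : F) = 0)
    (hr : Odd r) (B : (ι → F) → (ι → F) → F)
    (hadd : ∀ u v w, B u (v + w) = B u v + B u w)
    (hinv : ∀ u v, B (x *ᵥ u) (x *ᵥ v) = B u v)
    (u : ι → F) (hu : x *ᵥ u = u) (h0 : ∀ u' : ι → F, x *ᵥ u' = u' → B u u' = 0)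
    (v : ι → F) : B u v = 0 := by
  obtain ⟨u', w, hu', rfl⟩ := decomp x r hx hch hr v
  rw [hadd, h0 u' hu', orth x B hadd hinv u w hu, add_zero]

end Cfsg.Agent.Helper9.NS5d
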