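import Mathlib

set_option autoImplicit false

/-!
Counting step for S5986 (odd-`r` direction): an element `x` with `x ^ r = 1` (`r` prime) preserving
`Q` permutes the norm-one vectors, and the number of fixed ones is congruent mod `r` to their number.
-/

namespace Cfsg.Agent.Helper9.NS5e

open Matrix

theorem card_fixed_modEq {ι : Type*} [Fintype ι] [DecidableEq ι] {F : Type*} [Field F] [Finite F]
    (Q : (ι → F) → F) (x : Matrix ι ι F) (r : ℕ) [Fact r.Prime] (hx : x ^ r = 1)
    (hiso : ∀ v, Q (x *ᵥ v) = Q v) :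
    Nat.card {v : ι → F // Q v = 1 ∧ x *ᵥ v = v} ≡ Nat.card {v : ι → F // Q v = 1} [MOD r] := by
  classical
  haveI : Fintype F := Fintype.ofFinite F
  let α := {v : ι → F // Q v = 1}
  haveI : Fintype α := Fintype.ofFinite α
  let f : Function.End α := fun v => ⟨x *ᵥ v.1, by rw [hiso]; exact v.2⟩
  have hpow : ∀ (k : ℕ) (v : α), ((f ^ k) v).1 = (x ^ k) *ᵥ v.1 := by
    intro k
    induction k with
    | zero =>
      intro v
      rw [pow_zero, pow_zero, Matrix.one_mulVec]
      rfl
    | succ n ih =>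
      intro v
      rw [pow_succ, pow_succ]
      show ((f ^ n) (f v)).1 = _
      rw [ih (f v), ← Matrix.mulVec_mulVec]
  have hf : f ^ r ^ 1 = 1 := by
    rw [pow_one]
    funext v
    apply Subtype.ext
    rw [hpow r v, hx, Matrix.one_mulVec]
    rfl
  have h := Equiv.Perm.card_fixedPoints_modEq (p := r) (n := 1) hf
  rw [← Nat.card_eq_fintype_card, ← Nat.card_eq_fintype_card] at h
  have e : {v : ι → F // Q v = 1 ∧ x *ᵥ v = v} ≃ (Function.fixedPoints f) :=
    { toFun := fun v => ⟨⟨v.1, v.2.1⟩, by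
        show f ⟨v.1, v.2.1⟩ = ⟨v.1, v.2.1⟩
        exact Subtype.ext v.2.2⟩
      invFun := fun w => ⟨w.1.1, w.1.2, by
        have := w.2
        exact congrArg Subtype.val this⟩
      left_inv := fun v => rfl
      right_inv := fun w => rfl }
  rw [Nat.card_congr e]
  exact h.symm

/-- divisibility form. -/
theorem dvd_card_fixed {ι : Type*} [Fintype ι] [DecidableEq ι] {F : Type*} [Field F] [Finite F]
    (Q : (ι → F) → F) (x : Matrix ι ι F) (r : ℕ) [Fact r.Prime] (hx : x ^ r = 1)
    (hiso : ∀ v, Q (x *ᵥ v) = Q v) (hr : r ∣ Nat.card {v : ι → F // Q v = 1}) :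
    r ∣ Nat.card {v : ι → F // Q v = 1 ∧ x *ᵥ v = v} :=
  (Nat.modEq_zero_iff_dvd.mp
    ((card_fixed_modEq Q x r hx hiso).trans (Nat.modEq_zero_iff_dvd.mpr hr)))

end Cfsg.Agent.Helper9.NS5e
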