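-- helper9: a conjugacy class of p-minimal / strongly p-irreducible subgroups (S2855)
import Mathlib
import Cfsg.Prelude.Def_LocalStructure
import Cfsg.Agent.Helper14.PIrred
import Cfsg.Agent.Helper14.PIrred2
import Cfsg.Agent.Helper14.Subnormal
import Cfsg.Agent.Helper10.SylowRel
import Cfsg.Agent.S2827
import Cfsg.Agent.S2829

set_option autoImplicit false

namespace Cfsg.Agent.Helper9.PMinClass

open Cfsg Cfsg.Agent.Helper14
open scoped commutatorElement

local instance pCoreNormalInst (p : ℕ) (G : Type*) [Group G] : (pCore p G).Normal :=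
  pCore_normal p G

/-! ### General group lemmas -/

theorem comm_central {G : Type*} [Group G] (a b e f : G) (hae : Commute a e) (haf : Commute a f)
    (hab : Commute a b) (hbe : Commute b e) (hbf : Commute b f) : ⁅a * e, b * f⁆ = ⁅e, f⁆ := by
  have h1 : a * e * (b * f) = a * b * (e * f) := hbe.symm.mul_mul_mul_comm a f
  have h2 : b * f * (a * e) = a * b * (f * e) := by
    rw [haf.symm.mul_mul_mul_comm b e, ← hab.eq]
  have h3 : Commute (a * b) (e * f) := (hae.mul_left hbe).mul_right (haf.mul_left hbf)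
  have h3' : Commute (a * b) (f * e) := (haf.mul_left hbf).mul_right (hae.mul_left hbe)
  have h4 : Commute (a * b) (e * f * (f * e)⁻¹) := h3.mul_right h3'.inv_right
  calc ⁅a * e, b * f⁆ = a * e * (b * f) * (b * f * (a * e))⁻¹ := by
        rw [commutatorElement_def]; simp only [mul_inv_rev, mul_assoc]
    _ = a * b * (e * f) * (a * b * (f * e))⁻¹ := by rw [h1, h2]
    _ = a * b * (e * f * (f * e)⁻¹) * (a * b)⁻¹ := by simp only [mul_inv_rev, mul_assoc]
    _ = e * f * (f * e)⁻¹ := by rw [h4.eq, mul_inv_cancel_right]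
    _ = ⁅e, f⁆ := by rw [commutatorElement_def]; simp only [mul_inv_rev, mul_assoc]

theorem comm_pow {G : Type*} [Group G] (x g : G) (h : Commute ⁅x, g⁆ x) (n : ℕ) :
    ⁅x ^ n, g⁆ = ⁅x, g⁆ ^ n := by
  induction n with
  | zero => simp
  | succ n ih =>
    have e : ∀ y : G, ⁅x * y, g⁆ = x * ⁅y, g⁆ * x⁻¹ * ⁅x, g⁆ := by
      intro y; simp only [commutatorElement_def]; group
    have hc : x * ⁅x, g⁆ ^ n = ⁅x, g⁆ ^ n * x := ((h.pow_left n).eq).symm
    calc ⁅x ^ (n + 1), g⁆ = ⁅x * x ^ n, g⁆ := by rw [pow_succ']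
      _ = x * ⁅x ^ n, g⁆ * x⁻¹ * ⁅x, g⁆ := e _
      _ = x * ⁅x, g⁆ ^ n * x⁻¹ * ⁅x, g⁆ := by rw [ih]
      _ = ⁅x, g⁆ ^ n * x * x⁻¹ * ⁅x, g⁆ := by rw [hc]
      _ = ⁅x, g⁆ ^ n * ⁅x, g⁆ := by rw [mul_inv_cancel_right]
      _ = ⁅x, g⁆ ^ (n + 1) := (pow_succ _ _).symm

theorem comm_comm_of_central {G : Type*} [Group G] (e f g : G)
    (h1 : Commute ⁅e, g⁆ e) (h2 : Commute ⁅e, g⁆ f) (h3 : Commute ⁅f, g⁆ e)
    (h4 : Commute ⁅f, g⁆ f) (h5 : Commute ⁅e, g⁆ ⁅f, g⁆) : Commute ⁅e, f⁆ g := by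
  have he : g * e * g⁻¹ = ⁅e, g⁆⁻¹ * e := by simp only [commutatorElement_def]; group
  have hf : g * f * g⁻¹ = ⁅f, g⁆⁻¹ * f := by simp only [commutatorElement_def]; group
  have key : g * ⁅e, f⁆ * g⁻¹ = ⁅e, f⁆ := by
    have e1 : g * ⁅e, f⁆ * g⁻¹ = ⁅g * e * g⁻¹, g * f * g⁻¹⁆ := by
      simp only [commutatorElement_def]; group
    rw [e1, he, hf]
    exact comm_central _ _ e f h1.inv_left h2.inv_left (h5.inv_left.inv_right) h3.inv_left
      h4.inv_left
  show ⁅e, f⁆ * g = g * ⁅e, f⁆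
  calc ⁅e, f⁆ * g = g * ⁅e, f⁆ * g⁻¹ * g := by rw [key]
    _ = g * ⁅e, f⁆ := by rw [inv_mul_cancel_right]

variable {H : Type*} [Group H]

theorem le_normalizer_of_conj_mem (M K : Subgroup H)
    (h : ∀ m ∈ M, ∀ k ∈ K, m * k * m⁻¹ ∈ K) : M ≤ Subgroup.normalizer (K : Set H) := by
  intro m hm
  exact mem_normalizer_of_forall K m (h m hm) (fun k hk => by
    have := h m⁻¹ (M.inv_mem hm) k hk
    rwa [inv_inv] at this)

/-! ### Commuting modulo a normal subgroup -/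

theorem comm_mod_iff (Q : Subgroup H) [Q.Normal] (x y : H) :
    ⁅x, y⁆ ∈ Q ↔ Commute (QuotientGroup.mk' Q x) (QuotientGroup.mk' Q y) := by
  rw [← commutatorElement_eq_one_iff_commute]
  have e : ⁅QuotientGroup.mk' Q x, QuotientGroup.mk' Q y⁆ = QuotientGroup.mk' Q ⁅x, y⁆ :=
    (map_commutatorElement (QuotientGroup.mk' Q) x y).symm
  rw [e]
  exact (QuotientGroup.eq_one_iff _).symm

/-- the elements commuting with `g` modulo the normal subgroup `Q`. -/
def cmod (Q : Subgroup H) [Q.Normal] (g : H) : Subgroup H :=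
  (Subgroup.centralizer {QuotientGroup.mk' Q g}).comap (QuotientGroup.mk' Q)

theorem mem_cmod_iff (Q : Subgroup H) [Q.Normal] (g x : H) :
    x ∈ cmod Q g ↔ ⁅x, g⁆ ∈ Q := by
  rw [comm_mod_iff]
  unfold cmod
  rw [Subgroup.mem_comap, Subgroup.mem_centralizer_iff]
  constructor
  · intro h
    exact (h _ rfl).symm
  · intro h y hy
    rw [Set.mem_singleton_iff.mp hy]
    exact h.eq.symm

/-- A `p`-subgroup normalized by a subnormal subgroup containing it lies in `O_p`. -/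
theorem le_pCore_of_le_normalizer {p : ℕ} (P L : Subgroup H) (hPL : P ≤ L)
    (hLP : L ≤ Subgroup.normalizer (P : Set H)) (hL : L.IsSubnormal) (hP : IsPGroup p P) :
    P ≤ pCore p H :=
  subnormal_pgroup_le_pCore P
    (Subgroup.IsSubnormal.step P L hPL hL
      ((Subgroup.normal_subgroupOf_iff_le_normalizer hPL).mpr hLP)) hP

/-! ### The central automorphism lemma -/

theorem cal_p [Finite H] {p : ℕ} [Fact p.Prime] (E L : Subgroup H)
    (hEL : E ≤ L) (hQL : pCore p H ≤ L) (hL : L.IsSubnormal) (g : H)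
    (c1 : ∀ e ∈ E, ⁅e, g⁆ ∈ L)
    (c2 : ∀ e ∈ E, ∀ l ∈ L, ⁅⁅e, g⁆, l⁆ ∈ pCore p H)
    (x : H) (hx : x ∈ E) (k : ℕ) (hxk : x ^ p ^ k = 1) : ⁅x, g⁆ ∈ pCore p H := by
  have hcx : Commute ⁅QuotientGroup.mk' (pCore p H) x, QuotientGroup.mk' (pCore p H) g⁆
      (QuotientGroup.mk' (pCore p H) x) := by
    have := (comm_mod_iff (pCore p H) ⁅x, g⁆ x).mp (c2 x hx x (hEL hx))
    rwa [map_commutatorElement (QuotientGroup.mk' (pCore p H))] at this
  have h1 := comm_pow _ _ hcx (p ^ k)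
  rw [← map_pow, hxk, map_one, commutatorElement_one_left,
    ← map_commutatorElement (QuotientGroup.mk' (pCore p H)), ← map_pow] at h1
  have h2 : ⁅x, g⁆ ^ p ^ k ∈ pCore p H := (QuotientGroup.eq_one_iff _).mp h1.symm
  obtain ⟨j, hj⟩ := (pCore_isPGroup p H) ⟨_, h2⟩
  have h3 : ⁅x, g⁆ ^ p ^ (k + j) = 1 := by
    have := congrArg Subtype.val hj
    rw [pow_add, pow_mul]
    exact this
  have hPp : IsPGroup p (Subgroup.zpowers ⁅x, g⁆ ⊔ pCore p H : Subgroup H) :=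
    (isPGroup_zpowers_of_pow _ _ h3).to_sup_of_normal_right (pCore_isPGroup p H)
  have hPL : Subgroup.zpowers ⁅x, g⁆ ⊔ pCore p H ≤ L :=
    sup_le (Subgroup.zpowers_le.mpr (c1 x hx)) hQL
  have hLP : L ≤ Subgroup.normalizer
      ((Subgroup.zpowers ⁅x, g⁆ ⊔ pCore p H : Subgroup H) : Set H) := by
    apply le_normalizer_of_conj_mem
    intro l hl y hy
    have hle : Subgroup.zpowers ⁅x, g⁆ ⊔ pCore p H ≤
        (Subgroup.zpowers ⁅x, g⁆ ⊔ pCore p H).comap (MulAut.conj l).toMonoidHom := by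
      apply sup_le
      · rw [Subgroup.zpowers_le, Subgroup.mem_comap]
        show l * ⁅x, g⁆ * l⁻¹ ∈ _
        have e : l * ⁅x, g⁆ * l⁻¹ = ⁅⁅x, g⁆, l⁆⁻¹ * ⁅x, g⁆ := by
          generalize ⁅x, g⁆ = c
          simp only [commutatorElement_def]; group
        rw [e]
        exact Subgroup.mul_mem _ (Subgroup.mem_sup_right (Subgroup.inv_mem _ (c2 x hx l hl)))
          (Subgroup.mem_sup_left (Subgroup.mem_zpowers _))
      · intro q hq
        rw [Subgroup.mem_comap]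
        exact Subgroup.mem_sup_right ((pCore_normal p H).conj_mem q hq l)
    exact hle hy
  exact (le_pCore_of_le_normalizer _ L hPL hLP hL hPp)
    (Subgroup.mem_sup_left (Subgroup.mem_zpowers _))

theorem cal [Finite H] {p : ℕ} [Fact p.Prime] (E L : Subgroup H)
    (hE : IsStronglyPIrreducible p ↥E)
    (hEL : E ≤ L) (hQL : pCore p H ≤ L) (hL : L.IsSubnormal) (g : H)
    (c1 : ∀ e ∈ E, ⁅e, g⁆ ∈ L)
    (c2 : ∀ e ∈ E, ∀ l ∈ L, ⁅⁅e, g⁆, l⁆ ∈ pCore p H) :
    ∀ e ∈ E, ⁅e, g⁆ ∈ pCore p H := by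
  have hc : ∀ e ∈ E, ∀ l ∈ L,
      Commute ⁅QuotientGroup.mk' (pCore p H) e, QuotientGroup.mk' (pCore p H) g⁆
        (QuotientGroup.mk' (pCore p H) l) := by
    intro e he l hl
    have := (comm_mod_iff (pCore p H) ⁅e, g⁆ l).mp (c2 e he l hl)
    rwa [map_commutatorElement (QuotientGroup.mk' (pCore p H))] at this
  have hirr : IsPIrreducible p ↥E := Cfsg.Agent.S2829.result hE
  obtain ⟨PE⟩ : Nonempty (Sylow p ↥E) := inferInstance
  have hsup : commutator ↥E ⊔ (PE : Subgroup ↥E) = ⊤ := (Cfsg.Agent.S2827.result hirr PE).2.1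
  have hA1 : commutator ↥E ≤ (cmod (pCore p H) g).subgroupOf E := by
    rw [commutator_def, Subgroup.commutator_le]
    intro a _ b _
    rw [Subgroup.mem_subgroupOf, mem_cmod_iff, comm_mod_iff]
    have e : ((⁅a, b⁆ : ↥E) : H) = ⁅(a : H), (b : H)⁆ := by simp [commutatorElement_def]
    rw [e, map_commutatorElement (QuotientGroup.mk' (pCore p H))]
    have h5 : Commute ⁅QuotientGroup.mk' (pCore p H) (a : H), QuotientGroup.mk' (pCore p H) g⁆
        ⁅QuotientGroup.mk' (pCore p H) (b : H), QuotientGroup.mk' (pCore p H) g⁆ := by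
      have := hc (a : H) a.2 ⁅(b : H), g⁆ (c1 (b : H) b.2)
      rwa [map_commutatorElement (QuotientGroup.mk' (pCore p H))] at this
    exact comm_comm_of_central _ _ _ (hc (a : H) a.2 (a : H) (hEL a.2))
      (hc (a : H) a.2 (b : H) (hEL b.2)) (hc (b : H) b.2 (a : H) (hEL a.2))
      (hc (b : H) b.2 (b : H) (hEL b.2)) h5
  have hA2 : (PE : Subgroup ↥E) ≤ (cmod (pCore p H) g).subgroupOf E := by
    intro x hx
    rw [Subgroup.mem_subgroupOf, mem_cmod_iff]
    obtain ⟨k, hk⟩ := PE.isPGroup' ⟨x, hx⟩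
    have h1 : x ^ p ^ k = 1 := congrArg Subtype.val hk
    have hxk : (x : H) ^ p ^ k = 1 := congrArg Subtype.val h1
    exact cal_p E L hEL hQL hL g c1 c2 (x : H) x.2 k hxk
  intro e he
  have hmem : (⟨e, he⟩ : ↥E) ∈ (cmod (pCore p H) g).subgroupOf E := by
    have htop : (⟨e, he⟩ : ↥E) ∈ (⊤ : Subgroup ↥E) := Subgroup.mem_top _
    rw [← hsup] at htop
    exact (sup_le hA1 hA2) htop
  rw [Subgroup.mem_subgroupOf, mem_cmod_iff] at hmem
  exact hmem

/-! ### Setup for an invariant class of subgroups -/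

theorem sSup_normal_of_inv (𝒦 : Set (Subgroup H))
    (hinv : ∀ h : H, ∀ E ∈ 𝒦, E.map (MulAut.conj h).toMonoidHom ∈ 𝒦) : (sSup 𝒦).Normal := by
  constructor
  intro x hx h
  have hle : sSup 𝒦 ≤ (sSup 𝒦).comap (MulAut.conj h).toMonoidHom :=
    sSup_le fun E hE => Subgroup.map_le_iff_le_comap.mp (le_sSup (hinv h E hE))
  exact hle hx

theorem sup_sylow_eq_top [Finite H] {p : ℕ} [Fact p.Prime] (𝒦 : Set (Subgroup H))
    (hres : pResidual p H ≤ sSup 𝒦) (T : Sylow p H) : sSup 𝒦 ⊔ (T : Subgroup H) = ⊤ := by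
  rw [eq_top_iff, ← pResidual_sup_sylow T]
  exact sup_le_sup_right hres _

theorem map_sup_pCore {p : ℕ} (E : Subgroup H) (g : H) :
    (E ⊔ pCore p H).map (MulAut.conj g).toMonoidHom =
      E.map (MulAut.conj g).toMonoidHom ⊔ pCore p H := by
  rw [Subgroup.map_sup, map_conj_eq_self_of_normal (pCore p H) (pCore_normal p H) g]

theorem relIndex_inf_dvd_index [Finite H] (S K : Subgroup H) [K.Normal] :
    (S ⊓ K).relIndex K ∣ S.index := by
  have h1 := Subgroup.relIndex_mul_index (inf_le_right : S ⊓ K ≤ K)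
  have h2 := Subgroup.relIndex_mul_index (inf_le_left : S ⊓ K ≤ S)
  have h3 := Subgroup.relIndex_mul_index (le_sup_right : K ≤ S ⊔ K)
  rw [Subgroup.relIndex_sup_right] at h3
  rw [Subgroup.inf_relIndex_left] at h2
  have h4 : K.relIndex S ≠ 0 := Subgroup.index_ne_zero_of_finite
  have h5 : K.relIndex S * ((S ⊓ K).relIndex K * (S ⊔ K).index) = K.relIndex S * S.index := by
    rw [h2, ← h1, ← h3]; ring
  exact Dvd.intro _ (Nat.eq_of_mul_eq_mul_left (Nat.pos_of_ne_zero h4) h5)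

theorem relIndex_inf_dvd_relIndex [Finite H] (S K L : Subgroup H) (hKL : K ≤ L)
    (hn : (K.subgroupOf L).Normal) : (S ⊓ K).relIndex K ∣ S.relIndex L := by
  haveI := hn
  have h := relIndex_inf_dvd_index (S.subgroupOf L) (K.subgroupOf L)
  have e : S.subgroupOf L ⊓ K.subgroupOf L = (S ⊓ K).subgroupOf L :=
    (Subgroup.comap_inf S K L.subtype).symm
  rw [e, Subgroup.relIndex_subgroupOf hKL] at h
  exact h

/-- `T ⊓ E` is a Sylow `p`-subgroup of `E` for each member `E` of the class. -/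
theorem sylow_inf_mem [Finite H] {p : ℕ} [Fact p.Prime] (𝒦 : Set (Subgroup H))
    (hinv : ∀ h : H, ∀ E ∈ 𝒦, E.map (MulAut.conj h).toMonoidHom ∈ 𝒦)
    (hnorm : ∀ E ∈ 𝒦, sSup 𝒦 ⊔ pCore p H ≤
      Subgroup.normalizer ((E ⊔ pCore p H : Subgroup H) : Set H))
    (T : Sylow p H) (E : Subgroup H) (hE : E ∈ 𝒦) :
    ∃ PE : Sylow p ↥E, (PE : Subgroup ↥E).map E.subtype = (T : Subgroup H) ⊓ E := by
  haveI hK₀ := sSup_normal_of_inv 𝒦 hinv
  have hQT : pCore p H ≤ (T : Subgroup H) := pCore_le_sylow T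
  have hDR : E ⊔ pCore p H ≤ sSup 𝒦 ⊔ pCore p H := sup_le_sup_right (le_sSup hE) _
  have hR : ¬ p ∣ ((T : Subgroup H) ⊓ (sSup 𝒦 ⊔ pCore p H)).relIndex (sSup 𝒦 ⊔ pCore p H) :=
    fun h => T.not_dvd_index (h.trans (relIndex_inf_dvd_index _ _))
  have hD : ¬ p ∣ ((T : Subgroup H) ⊓ (E ⊔ pCore p H)).relIndex (E ⊔ pCore p H) := by
    intro h
    apply hR
    rw [Subgroup.inf_relIndex_right]
    exact h.trans (relIndex_inf_dvd_relIndex _ _ _ hDR
      ((Subgroup.normal_subgroupOf_iff_le_normalizer hDR).mpr (hnorm E hE)))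
  have hp : IsPGroup p (((T : Subgroup H) ⊓ E).subgroupOf E) :=
    (T.isPGroup'.to_le inf_le_left).comap_subtype
  obtain ⟨PE, hPE⟩ := hp.exists_le_sylow
  refine ⟨PE, ?_⟩
  have hPp : IsPGroup p ((PE : Subgroup ↥E).map E.subtype) := PE.isPGroup'.map _
  have hP_le_E : (PE : Subgroup ↥E).map E.subtype ≤ E := Subgroup.map_subtype_le _
  have hTE_P : (T : Subgroup H) ⊓ E ≤ (PE : Subgroup ↥E).map E.subtype := by
    rw [← Subgroup.map_subgroupOf_eq_of_le (inf_le_right : (T : Subgroup H) ⊓ E ≤ E)]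
    exact Subgroup.map_mono hPE
  obtain ⟨n, hn, hconj⟩ := Cfsg.Agent.Helper10.exists_conj_into_of_relIndex (E ⊔ pCore p H)
    ((T : Subgroup H) ⊓ (E ⊔ pCore p H)) (T.isPGroup'.to_le inf_le_left) hD
    ((PE : Subgroup ↥E).map E.subtype ⊔ pCore p H)
    (hPp.to_sup_of_normal_right (pCore_isPGroup p H)) (sup_le_sup_right hP_le_E _)
  obtain ⟨q, hq, e, he, rfl⟩ := exists_mul_of_mem_sup_normal (pCore p H) E
    (show n ∈ pCore p H ⊔ E by rw [sup_comm]; exact hn)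
  have hconj' : ∀ y ∈ (PE : Subgroup ↥E).map E.subtype, e * y * e⁻¹ ∈ (T : Subgroup H) ⊓ E := by
    intro y hy
    have h1 := (hconj y (Subgroup.mem_sup_left hy)).1
    refine ⟨?_, E.mul_mem (E.mul_mem he (hP_le_E hy)) (E.inv_mem he)⟩
    have h2 := (T : Subgroup H).mul_mem
      ((T : Subgroup H).mul_mem ((T : Subgroup H).inv_mem (hQT hq)) h1) (hQT hq)
    have e1 : q⁻¹ * (q * e * y * (q * e)⁻¹) * q = e * y * e⁻¹ := by group
    rwa [e1] at h2
  have hmap : ((PE : Subgroup ↥E).map E.subtype).map (MulAut.conj e).toMonoidHom =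
      (PE : Subgroup ↥E).map E.subtype := by
    apply Subgroup.eq_of_le_of_card_ge
    · rintro _ ⟨y, hy, rfl⟩
      exact hTE_P (hconj' y hy)
    · exact (card_map_conj _ _).ge
  apply le_antisymm _ hTE_P
  intro x hx
  rw [← hmap] at hx
  obtain ⟨y, hy, rfl⟩ := hx
  exact hconj' y hy

/-- a subgroup containing `T` and a member of the class is everything. -/
theorem eq_top_of_mem_le [Finite H] {p : ℕ} [Fact p.Prime] (𝒦 : Set (Subgroup H))
    (hinv : ∀ h : H, ∀ E ∈ 𝒦, E.map (MulAut.conj h).toMonoidHom ∈ 𝒦)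
    (htr : ∀ E ∈ 𝒦, ∀ K ∈ 𝒦, ∃ h : H, K = E.map (MulAut.conj h).toMonoidHom)
    (hres : pResidual p H ≤ sSup 𝒦)
    (hnorm : ∀ E ∈ 𝒦, sSup 𝒦 ⊔ pCore p H ≤
      Subgroup.normalizer ((E ⊔ pCore p H : Subgroup H) : Set H))
    (T : Sylow p H) (X : Subgroup H) (hTX : (T : Subgroup H) ≤ X)
    (E : Subgroup H) (hE : E ∈ 𝒦) (hEX : E ≤ X) : X = ⊤ := by
  haveI hK₀ := sSup_normal_of_inv 𝒦 hinv
  have hQX : pCore p H ≤ X := (pCore_le_sylow T).trans hTX
  rw [eq_top_iff, ← sup_sylow_eq_top 𝒦 hres T]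
  refine sup_le (sSup_le fun K hK => ?_) hTX
  obtain ⟨h, rfl⟩ := htr E hE K hK
  obtain ⟨k, hk, t, ht, rfl⟩ := exists_mul_of_mem_sup_normal (sSup 𝒦) (T : Subgroup H)
    (show h ∈ sSup 𝒦 ⊔ (T : Subgroup H) by
      rw [sup_sylow_eq_top 𝒦 hres T]; exact Subgroup.mem_top h)
  rw [← map_conj_map_conj]
  have hEt : E.map (MulAut.conj t).toMonoidHom ∈ 𝒦 := hinv t E hE
  have hEtX : E.map (MulAut.conj t).toMonoidHom ≤ X := by
    rintro _ ⟨y, hy, rfl⟩
    exact X.mul_mem (X.mul_mem (hTX ht) (hEX hy)) (X.inv_mem (hTX ht))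
  have hk' : (E.map (MulAut.conj t).toMonoidHom ⊔ pCore p H).map (MulAut.conj k).toMonoidHom =
      E.map (MulAut.conj t).toMonoidHom ⊔ pCore p H :=
    Subgroup.mem_normalizer_iff_map_conj_eq.mp (hnorm _ hEt (Subgroup.mem_sup_left hk))
  calc (E.map (MulAut.conj t).toMonoidHom).map (MulAut.conj k).toMonoidHom
      ≤ (E.map (MulAut.conj t).toMonoidHom ⊔ pCore p H).map (MulAut.conj k).toMonoidHom :=
        Subgroup.map_mono le_sup_left
    _ = E.map (MulAut.conj t).toMonoidHom ⊔ pCore p H := hk'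
    _ ≤ X := sup_le hEtX hQX

/-! ### The join of the proper subgroups of `D` above `T ⊓ D` -/

/-- the join of the proper subgroups of `D` containing `T ⊓ D`. -/
def mu (T D : Subgroup H) : Subgroup H := sSup {Z : Subgroup H | T ⊓ D ≤ Z ∧ Z ≤ D ∧ Z ≠ D}

theorem mu_le_of (T D B : Subgroup H)
    (h : ∀ Z : Subgroup H, T ⊓ D ≤ Z → Z ≤ D → Z ≠ D → Z ≤ B) : mu T D ≤ B :=
  sSup_le fun Z hZ => h Z hZ.1 hZ.2.1 hZ.2.2

theorem mu_le (T D : Subgroup H) : mu T D ≤ D := mu_le_of T D D fun _ _ h _ => h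

theorem le_mu (T D Z : Subgroup H) (h1 : T ⊓ D ≤ Z) (h2 : Z ≤ D) (h3 : Z ≠ D) : Z ≤ mu T D :=
  le_sSup ⟨h1, h2, h3⟩

theorem mu_map_conj_le (T D : Subgroup H) (t : H)
    (ht : T.map (MulAut.conj t).toMonoidHom = T) :
    (mu T D).map (MulAut.conj t).toMonoidHom ≤ mu T (D.map (MulAut.conj t).toMonoidHom) := by
  rw [Subgroup.map_le_iff_le_comap]
  apply mu_le_of
  intro Z h1 h2 h3
  rw [← Subgroup.map_le_iff_le_comap]
  apply le_mu
  · intro x hx
    rw [mem_map_conj]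
    apply h1
    refine ⟨?_, (mem_map_conj D t x).mp hx.2⟩
    have : x ∈ T.map (MulAut.conj t).toMonoidHom := by rw [ht]; exact hx.1
    exact (mem_map_conj T t x).mp this
  · exact Subgroup.map_mono h2
  · intro h
    apply h3
    rw [← map_conj_inv_map_conj Z t, h, map_conj_inv_map_conj]

theorem mu_map_conj (T D : Subgroup H) (t : H) (ht : T.map (MulAut.conj t).toMonoidHom = T) :
    (mu T D).map (MulAut.conj t).toMonoidHom = mu T (D.map (MulAut.conj t).toMonoidHom) := by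
  apply le_antisymm (mu_map_conj_le T D t ht)
  have ht' : T.map (MulAut.conj t⁻¹).toMonoidHom = T := by
    have := map_conj_inv_map_conj T t
    rwa [ht] at this
  have h := mu_map_conj_le T (D.map (MulAut.conj t).toMonoidHom) t⁻¹ ht'
  rw [map_conj_inv_map_conj] at h
  have h' := Subgroup.map_mono (f := (MulAut.conj t).toMonoidHom) h
  rwa [map_conj_map_conj_inv] at h'

/-- for a `p`-minimal member `E`, the subgroup `mu T (E ⊔ O_p(H))` is proper in `E ⊔ O_p(H)`. -/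
theorem mu_ne [Finite H] {p : ℕ} [Fact p.Prime] (T : Sylow p H) (E : Subgroup H)
    (PE : Sylow p ↥E) (hPE : (PE : Subgroup ↥E).map E.subtype = (T : Subgroup H) ⊓ E)
    (hmin : IsMinimalOver (PE : Subgroup ↥E)) :
    mu (T : Subgroup H) (E ⊔ pCore p H) ≠ E ⊔ pCore p H := by
  obtain ⟨hcl, M, ⟨hMco, hPM⟩, huniq⟩ := hmin
  have hQT : pCore p H ≤ (T : Subgroup H) := pCore_le_sylow T
  have hTE_le : (T : Subgroup H) ⊓ E ≤ M.map E.subtype := by
    rw [← hPE]; exact Subgroup.map_mono hPM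
  have hbound : mu (T : Subgroup H) (E ⊔ pCore p H) ≤ pCore p H ⊔ M.map E.subtype := by
    apply mu_le_of
    intro Z h1 h2 h3
    have hQZ : pCore p H ≤ Z := le_trans (le_inf hQT le_sup_right) h1
    have hZE : (Z ⊓ E).subgroupOf E ≤ M := by
      have hne : (Z ⊓ E).subgroupOf E ≠ ⊤ := by
        intro htop
        apply h3
        apply le_antisymm h2
        have hEZ : E ≤ Z ⊓ E := Subgroup.subgroupOf_eq_top.mp htop
        exact sup_le (hEZ.trans inf_le_left) hQZ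
      obtain ⟨M₂, hM₂co, hM₂⟩ := (eq_top_or_exists_le_coatom _).resolve_left hne
      have hPM₂ : (PE : Subgroup ↥E) ≤ M₂ := by
        refine le_trans ?_ hM₂
        intro x hx
        rw [Subgroup.mem_subgroupOf]
        have hx' : (x : H) ∈ (PE : Subgroup ↥E).map E.subtype := ⟨x, hx, rfl⟩
        rw [hPE] at hx'
        exact ⟨h1 ⟨hx'.1, Subgroup.mem_sup_left hx'.2⟩, hx'.2⟩
      have := huniq M₂ ⟨hM₂co, hPM₂⟩
      rw [← this]; exact hM₂
    intro z hz
    obtain ⟨q, hq, e, he, rfl⟩ := exists_mul_of_mem_sup_normal (pCore p H) E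
      (show z ∈ pCore p H ⊔ E by rw [sup_comm]; exact h2 hz)
    have heZ : e ∈ Z := by
      have := Z.mul_mem (Z.inv_mem (hQZ hq)) hz
      rwa [inv_mul_cancel_left] at this
    exact Subgroup.mul_mem_sup hq
      ⟨⟨e, he⟩, hZE (Subgroup.mem_subgroupOf.mpr ⟨heZ, he⟩), rfl⟩
  intro heq
  rw [heq] at hbound
  apply hMco.1
  rw [eq_top_iff]
  intro x _
  have hx : (x : H) ∈ pCore p H ⊔ M.map E.subtype := hbound (Subgroup.mem_sup_left x.2)
  obtain ⟨q, hq, m, hm, hxm⟩ := exists_mul_of_mem_sup_normal (pCore p H) (M.map E.subtype) hx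
  obtain ⟨m', hm', rfl⟩ := hm
  have hqE : q ∈ E := by
    have : q = (x : H) * (m' : H)⁻¹ := by rw [hxm]; simp
    rw [this]; exact E.mul_mem x.2 (E.inv_mem m'.2)
  have hqM : q ∈ M.map E.subtype := hTE_le ⟨hQT hq, hqE⟩
  obtain ⟨q', hq', rfl⟩ := hqM
  have : x = q' * m' := Subtype.ext hxm
  rw [this]; exact M.mul_mem hq' hm'

/-! ### The structure-preserving subgroup -/

/-- `g` preserves the `mu`-structure of the class. -/
def Pres (𝒦 : Set (Subgroup H)) (p : ℕ) (T : Subgroup H) (g : H) : Prop :=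
  ∀ E ∈ 𝒦, (mu T (E ⊔ pCore p H)).map (MulAut.conj g).toMonoidHom =
    mu T ((E ⊔ pCore p H).map (MulAut.conj g).toMonoidHom)

theorem pres_one (𝒦 : Set (Subgroup H)) (p : ℕ) (T : Subgroup H) : Pres 𝒦 p T 1 := by
  intro E _
  rw [map_conj_one, map_conj_one]

theorem pres_mul (𝒦 : Set (Subgroup H)) (p : ℕ) (T : Subgroup H)
    (hinv : ∀ h : H, ∀ E ∈ 𝒦, E.map (MulAut.conj h).toMonoidHom ∈ 𝒦) {a b : H}
    (ha : Pres 𝒦 p T a) (hb : Pres 𝒦 p T b) : Pres 𝒦 p T (a * b) := by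
  intro E hE
  rw [← map_conj_map_conj, ← map_conj_map_conj, hb E hE, map_sup_pCore E b]
  exact ha _ (hinv b E hE)

theorem pres_inv (𝒦 : Set (Subgroup H)) (p : ℕ) (T : Subgroup H)
    (hinv : ∀ h : H, ∀ E ∈ 𝒦, E.map (MulAut.conj h).toMonoidHom ∈ 𝒦) {a : H}
    (ha : Pres 𝒦 p T a) : Pres 𝒦 p T a⁻¹ := by
  intro E hE
  have h2 := ha _ (hinv a⁻¹ E hE)
  rw [← map_sup_pCore E a⁻¹, map_conj_map_conj_inv] at h2
  rw [← h2, map_conj_inv_map_conj]

/-- the subgroup of structure-preserving elements. -/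
def Mstar (𝒦 : Set (Subgroup H)) (p : ℕ)
    (hinv : ∀ h : H, ∀ E ∈ 𝒦, E.map (MulAut.conj h).toMonoidHom ∈ 𝒦) (T : Subgroup H) :
    Subgroup H where
  carrier := {g : H | Pres 𝒦 p T g}
  one_mem' := pres_one 𝒦 p T
  mul_mem' := fun ha hb => pres_mul 𝒦 p T hinv ha hb
  inv_mem' := fun ha => pres_inv 𝒦 p T hinv ha

/-! ### Part 1: `p`-minimality -/

theorem part1 [Finite H] {p : ℕ} [Fact p.Prime] (𝒦 : Set (Subgroup H)) (hne : 𝒦.Nonempty)
    (hinv : ∀ h : H, ∀ E ∈ 𝒦, E.map (MulAut.conj h).toMonoidHom ∈ 𝒦)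
    (htr : ∀ E ∈ 𝒦, ∀ K ∈ 𝒦, ∃ h : H, K = E.map (MulAut.conj h).toMonoidHom)
    (hres : pResidual p H ≤ sSup 𝒦)
    (hnorm : ∀ E ∈ 𝒦, sSup 𝒦 ⊔ pCore p H ≤
      Subgroup.normalizer ((E ⊔ pCore p H : Subgroup H) : Set H))
    (hmin : ∀ E ∈ 𝒦, ∀ T : Sylow p ↥E, IsMinimalOver (T : Subgroup ↥E)) (T : Sylow p H) :
    IsMinimalOver (T : Subgroup H) := by
  haveI hK₀ := sSup_normal_of_inv 𝒦 hinv
  have hQT : pCore p H ≤ (T : Subgroup H) := pCore_le_sylow T
  have htop := sup_sylow_eq_top 𝒦 hres T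
  have hSyl : ∀ E ∈ 𝒦, ∃ PE : Sylow p ↥E,
      (PE : Subgroup ↥E).map E.subtype = (T : Subgroup H) ⊓ E :=
    fun E hE => sylow_inf_mem 𝒦 hinv hnorm T E hE
  refine ⟨?_, ?_⟩
  · rw [eq_top_iff, ← htop]
    refine sup_le (sSup_le fun E hE => ?_) Subgroup.le_normalClosure
    obtain ⟨PE, hPE⟩ := hSyl E hE
    obtain ⟨hcl, -⟩ := hmin E hE PE
    have h1 : Subgroup.normalClosure ((PE : Subgroup ↥E) : Set ↥E) ≤
        (Subgroup.normalClosure ((T : Subgroup H) : Set H)).subgroupOf E := by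
      apply Subgroup.normalClosure_le_normal
      intro x hx
      rw [SetLike.mem_coe, Subgroup.mem_subgroupOf]
      apply Subgroup.le_normalClosure
      have hx' : (x : H) ∈ (PE : Subgroup ↥E).map E.subtype := ⟨x, hx, rfl⟩
      rw [hPE] at hx'
      exact hx'.1
    rw [hcl] at h1
    exact Subgroup.subgroupOf_eq_top.mp (top_le_iff.mp h1)
  · have hT_le : (T : Subgroup H) ≤ Mstar 𝒦 p hinv (T : Subgroup H) := by
      intro t ht
      show Pres 𝒦 p (T : Subgroup H) t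
      intro E _
      exact mu_map_conj _ _ t (map_conj_eq_self_of_mem _ ht)
    have hmu_ne : ∀ E ∈ 𝒦, mu (T : Subgroup H) (E ⊔ pCore p H) ≠ E ⊔ pCore p H := by
      intro E hE
      obtain ⟨PE, hPE⟩ := hSyl E hE
      exact mu_ne T E PE hPE (hmin E hE PE)
    have hX : ∀ X : Subgroup H, (T : Subgroup H) ≤ X → X ≠ ⊤ →
        X ≤ Mstar 𝒦 p hinv (T : Subgroup H) := by
      intro X hTX hXne
      have key : ∀ k ∈ sSup 𝒦, k ∈ X → ∀ E ∈ 𝒦,
          (mu (T : Subgroup H) (E ⊔ pCore p H)).map (MulAut.conj k).toMonoidHom ≤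
            mu (T : Subgroup H) (E ⊔ pCore p H) := by
        intro k hk hkX E hE
        have hkD : (E ⊔ pCore p H).map (MulAut.conj k).toMonoidHom = E ⊔ pCore p H :=
          Subgroup.mem_normalizer_iff_map_conj_eq.mp (hnorm E hE (Subgroup.mem_sup_left hk))
        have hkD' : (E ⊔ pCore p H).map (MulAut.conj k⁻¹).toMonoidHom = E ⊔ pCore p H := by
          have := map_conj_inv_map_conj (E ⊔ pCore p H) k
          rwa [hkD] at this
        have hZ : X ⊓ (E ⊔ pCore p H) ≤ mu (T : Subgroup H) (E ⊔ pCore p H) := by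
          apply le_mu _ _ _ (inf_le_inf_right _ hTX) inf_le_right
          intro heq
          apply hXne
          apply eq_top_of_mem_le 𝒦 hinv htr hres hnorm T X hTX E hE
          have : E ≤ X ⊓ (E ⊔ pCore p H) := by rw [heq]; exact le_sup_left
          exact this.trans inf_le_left
        apply le_mu
        · intro y hy
          rw [mem_map_conj]
          apply hZ
          refine ⟨X.mul_mem (X.mul_mem (X.inv_mem hkX) (hTX hy.1)) hkX, ?_⟩
          have h1 := conj_mem_map_conj (E ⊔ pCore p H) k⁻¹ hy.2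
          rw [inv_inv, hkD'] at h1
          exact h1
        · exact (Subgroup.map_mono (mu_le _ _)).trans hkD.le
        · intro heq
          apply hmu_ne E hE
          have h1 := congrArg (Subgroup.map (MulAut.conj k⁻¹).toMonoidHom) heq
          rw [map_conj_inv_map_conj, hkD'] at h1
          exact h1
      intro x hx
      obtain ⟨k, hk, t, ht, rfl⟩ := exists_mul_of_mem_sup_normal (sSup 𝒦) (T : Subgroup H)
        (show x ∈ sSup 𝒦 ⊔ (T : Subgroup H) by rw [htop]; exact Subgroup.mem_top x)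
      have hkX : k ∈ X := by
        have := X.mul_mem hx (X.inv_mem (hTX ht))
        rwa [mul_inv_cancel_right] at this
      refine Subgroup.mul_mem _ ?_ (hT_le ht)
      show Pres 𝒦 p (T : Subgroup H) k
      intro E hE
      have hkD : (E ⊔ pCore p H).map (MulAut.conj k).toMonoidHom = E ⊔ pCore p H :=
        Subgroup.mem_normalizer_iff_map_conj_eq.mp (hnorm E hE (Subgroup.mem_sup_left hk))
      rw [hkD]
      apply le_antisymm (key k hk hkX E hE)
      have h2 := key k⁻¹ ((sSup 𝒦).inv_mem hk) (X.inv_mem hkX) E hE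
      rw [map_conj_le_iff, inv_inv] at h2
      exact h2
    have hMne : Mstar 𝒦 p hinv (T : Subgroup H) ≠ ⊤ := by
      intro htop'
      obtain ⟨E, hE⟩ := hne
      obtain ⟨PE, hPE⟩ := hSyl E hE
      obtain ⟨hcl, M, ⟨hMco, hPM⟩, -⟩ := hmin E hE PE
      have hEn : ∀ e ∈ E,
          (mu (T : Subgroup H) (E ⊔ pCore p H)).map (MulAut.conj e).toMonoidHom =
            mu (T : Subgroup H) (E ⊔ pCore p H) := by
        intro e he
        have h1 : e ∈ Mstar 𝒦 p hinv (T : Subgroup H) := by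
          rw [htop']; exact Subgroup.mem_top e
        have h1' : Pres 𝒦 p (T : Subgroup H) e := h1
        have h2 := h1' E hE
        have heD : (E ⊔ pCore p H).map (MulAut.conj e).toMonoidHom = E ⊔ pCore p H :=
          Subgroup.mem_normalizer_iff_map_conj_eq.mp
            (hnorm E hE (Subgroup.mem_sup_left (le_sSup hE he)))
        rwa [heD] at h2
      have hTD : (T : Subgroup H) ⊓ (E ⊔ pCore p H) ≤ mu (T : Subgroup H) (E ⊔ pCore p H) := by
        apply le_mu _ _ _ le_rfl inf_le_right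
        intro heq
        apply hMco.1
        rw [eq_top_iff]
        refine le_trans ?_ hPM
        intro x _
        have hxT : (x : H) ∈ (T : Subgroup H) ⊓ E := by
          refine ⟨?_, x.2⟩
          have : (x : H) ∈ (T : Subgroup H) ⊓ (E ⊔ pCore p H) := by
            rw [heq]; exact Subgroup.mem_sup_left x.2
          exact this.1
        rw [← hPE] at hxT
        obtain ⟨y, hy, hyx⟩ := hxT
        have : y = x := Subtype.ext hyx
        rw [← this]; exact hy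
      have h3 : Subgroup.normalClosure ((PE : Subgroup ↥E) : Set ↥E) ≤
          (mu (T : Subgroup H) (E ⊔ pCore p H)).subgroupOf E := by
        haveI : ((mu (T : Subgroup H) (E ⊔ pCore p H)).subgroupOf E).Normal := by
          constructor
          intro n hn g
          rw [Subgroup.mem_subgroupOf] at hn ⊢
          rw [← hEn (g : H) g.2]
          exact conj_mem_map_conj _ (g : H) hn
        apply Subgroup.normalClosure_le_normal
        intro x hx
        rw [SetLike.mem_coe, Subgroup.mem_subgroupOf]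
        apply hTD
        have hx' : (x : H) ∈ (PE : Subgroup ↥E).map E.subtype := ⟨x, hx, rfl⟩
        rw [hPE] at hx'
        exact ⟨hx'.1, Subgroup.mem_sup_left hx'.2⟩
      rw [hcl] at h3
      have hEmu : E ≤ mu (T : Subgroup H) (E ⊔ pCore p H) :=
        Subgroup.subgroupOf_eq_top.mp (top_le_iff.mp h3)
      apply hmu_ne E hE
      apply le_antisymm (mu_le _ _)
      exact sup_le hEmu ((le_inf hQT le_sup_right).trans hTD)
    refine ⟨Mstar 𝒦 p hinv (T : Subgroup H), ⟨⟨hMne, fun Y hY => ?_⟩, hT_le⟩, ?_⟩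
    · by_contra hYne
      exact absurd (lt_of_lt_of_le hY (hX Y (hT_le.trans hY.le) hYne)) (lt_irrefl _)
    · rintro M ⟨hMco, hTM⟩
      have hle : M ≤ Mstar 𝒦 p hinv (T : Subgroup H) := hX M hTM hMco.1
      rcases eq_or_lt_of_le hle with h | h
      · exact h
      · exact absurd (hMco.2 _ h) hMne

/-! ### Part 2: strongly `p`-irreducible members -/

theorem subnormal_sup [Finite H] {p : ℕ} [Fact p.Prime] (𝒦 : Set (Subgroup H))
    (hinv : ∀ h : H, ∀ E ∈ 𝒦, E.map (MulAut.conj h).toMonoidHom ∈ 𝒦)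
    (hnorm : ∀ E ∈ 𝒦, sSup 𝒦 ⊔ pCore p H ≤
      Subgroup.normalizer ((E ⊔ pCore p H : Subgroup H) : Set H))
    (E : Subgroup H) (hE : E ∈ 𝒦) : (E ⊔ pCore p H).IsSubnormal := by
  haveI hK₀ := sSup_normal_of_inv 𝒦 hinv
  have hDR : E ⊔ pCore p H ≤ sSup 𝒦 ⊔ pCore p H := sup_le_sup_right (le_sSup hE) _
  exact Subgroup.IsSubnormal.step _ _ hDR (Subgroup.Normal.isSubnormal inferInstance)
    ((Subgroup.normal_subgroupOf_iff_le_normalizer hDR).mpr (hnorm E hE))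

theorem pCoreMem_le_pCore [Finite H] {p : ℕ} [Fact p.Prime] (𝒦 : Set (Subgroup H))
    (hinv : ∀ h : H, ∀ E ∈ 𝒦, E.map (MulAut.conj h).toMonoidHom ∈ 𝒦)
    (hnorm : ∀ E ∈ 𝒦, sSup 𝒦 ⊔ pCore p H ≤
      Subgroup.normalizer ((E ⊔ pCore p H : Subgroup H) : Set H))
    (E : Subgroup H) (hE : E ∈ 𝒦) : (pCore p ↥E).map E.subtype ≤ pCore p H := by
  have hsub := subnormal_sup 𝒦 hinv hnorm E hE
  have hOp : IsPGroup p ((pCore p ↥E).map E.subtype) := (pCore_isPGroup p ↥E).map _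
  have hOE : (pCore p ↥E).map E.subtype ≤ E := Subgroup.map_subtype_le _
  refine le_trans le_sup_left (le_pCore_of_le_normalizer
    ((pCore p ↥E).map E.subtype ⊔ pCore p H) (E ⊔ pCore p H) (sup_le_sup_right hOE _) ?_ hsub
    (hOp.to_sup_of_normal_right (pCore_isPGroup p H)))
  refine sup_le ?_ (le_sup_right.trans Subgroup.le_normalizer)
  apply le_normalizer_of_conj_mem
  intro e he y hy
  have hle : (pCore p ↥E).map E.subtype ⊔ pCore p H ≤
      ((pCore p ↥E).map E.subtype ⊔ pCore p H).comap (MulAut.conj e).toMonoidHom := by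
    apply sup_le
    · rintro _ ⟨z, hz, rfl⟩
      rw [Subgroup.mem_comap]
      exact Subgroup.mem_sup_left ⟨⟨e, he⟩ * z * ⟨e, he⟩⁻¹,
        (pCore_normal p ↥E).conj_mem z hz ⟨e, he⟩, rfl⟩
    · intro q hq
      rw [Subgroup.mem_comap]
      exact Subgroup.mem_sup_right ((pCore_normal p H).conj_mem q hq e)
  exact hle hy

theorem pResidual_le_of_members [Finite H] {p : ℕ} [Fact p.Prime] (𝒦 : Set (Subgroup H))
    (hinv : ∀ h : H, ∀ E ∈ 𝒦, E.map (MulAut.conj h).toMonoidHom ∈ 𝒦)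
    (hres : pResidual p H ≤ sSup 𝒦)
    (hnorm : ∀ E ∈ 𝒦, sSup 𝒦 ⊔ pCore p H ≤
      Subgroup.normalizer ((E ⊔ pCore p H : Subgroup H) : Set H))
    (N : Subgroup H) (hN : N.Normal)
    (h : ∀ E ∈ 𝒦, (pResidual p ↥E).map E.subtype ≤ N) : pResidual p H ≤ N := by
  haveI := hN
  obtain ⟨T⟩ : Nonempty (Sylow p H) := inferInstance
  apply pResidual_le_of_sup_eq_top N (T : Subgroup H) T.isPGroup'
  rw [eq_top_iff, ← sup_sylow_eq_top 𝒦 hres T]
  refine sup_le (sSup_le fun E hE => ?_) le_sup_right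
  obtain ⟨PE, hPE⟩ := sylow_inf_mem 𝒦 hinv hnorm T E hE
  have hsup : pResidual p ↥E ⊔ (PE : Subgroup ↥E) = ⊤ := pResidual_sup_sylow PE
  intro e he
  have hmem : (⟨e, he⟩ : ↥E) ∈ pResidual p ↥E ⊔ (PE : Subgroup ↥E) := by
    rw [hsup]; exact Subgroup.mem_top _
  have hle : pResidual p ↥E ⊔ (PE : Subgroup ↥E) ≤ (N ⊔ (T : Subgroup H)).subgroupOf E := by
    apply sup_le
    · intro x hx
      rw [Subgroup.mem_subgroupOf]
      exact Subgroup.mem_sup_left (h E hE ⟨x, hx, rfl⟩)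
    · intro x hx
      rw [Subgroup.mem_subgroupOf]
      have hx' : (x : H) ∈ (PE : Subgroup ↥E).map E.subtype := ⟨x, hx, rfl⟩
      rw [hPE] at hx'
      exact Subgroup.mem_sup_right hx'.1
  exact Subgroup.mem_subgroupOf.mp (hle hmem)

theorem not_pClosed [Finite H] {p : ℕ} [Fact p.Prime] (𝒦 : Set (Subgroup H)) (hne : 𝒦.Nonempty)
    (hstr : ∀ E ∈ 𝒦, IsStronglyPIrreducible p ↥E) : ¬ IsPClosed p H := by
  intro hcl
  obtain ⟨E, hE⟩ := hne
  apply (hstr E hE).1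
  rw [isPClosed_iff] at hcl
  rw [isPClosed_iff]
  rintro x ⟨a, ha⟩
  have hx : (x : H) ∈ pCore p H := hcl x ⟨a, congrArg Subtype.val ha⟩
  have hle : (pCore p H).subgroupOf E ≤ pCore p ↥E :=
    le_pCore ((pCore_normal p H).subgroupOf E) ((pCore_isPGroup p H).comap_subtype)
  exact hle (Subgroup.mem_subgroupOf.mpr hx)

theorem dichotomy [Finite H] {p : ℕ} [Fact p.Prime] (𝒦 : Set (Subgroup H))
    (hinv : ∀ h : H, ∀ E ∈ 𝒦, E.map (MulAut.conj h).toMonoidHom ∈ 𝒦)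
    (hnorm : ∀ E ∈ 𝒦, sSup 𝒦 ⊔ pCore p H ≤
      Subgroup.normalizer ((E ⊔ pCore p H : Subgroup H) : Set H))
    (E : Subgroup H) (hE : E ∈ 𝒦) (hstr : IsStronglyPIrreducible p ↥E)
    (Y : Subgroup H) (hY : E ≤ Subgroup.normalizer (Y : Set H)) :
    (pResidual p ↥E).map E.subtype ≤ Y ∨ ∀ a ∈ Y ⊓ E, ∀ e ∈ E, ⁅a, e⁆ ∈ pCore p H := by
  have hYn : (Y.subgroupOf E).Normal := by
    constructor
    intro n hn g
    rw [Subgroup.mem_subgroupOf] at hn ⊢
    exact (Subgroup.mem_normalizer_iff.mp (hY g.2) (n : H)).mp hn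
  by_cases hc : ⁅Y.subgroupOf E, (⊤ : Subgroup ↥E)⁆ ≤ pCore p ↥E
  · right
    intro a ha e he
    have h1 : ⁅(⟨a, ha.2⟩ : ↥E), (⟨e, he⟩ : ↥E)⁆ ∈ pCore p ↥E :=
      hc (Subgroup.commutator_mem_commutator (Subgroup.mem_subgroupOf.mpr ha.1)
        (Subgroup.mem_top _))
    exact pCoreMem_le_pCore 𝒦 hinv hnorm E hE ⟨_, h1, rfl⟩
  · left
    have h2 := hstr.2 (Y.subgroupOf E) hYn hc
    rintro _ ⟨x, hx, rfl⟩
    exact Subgroup.mem_subgroupOf.mp (h2 hx)

theorem cal_apply [Finite H] {p : ℕ} [Fact p.Prime] (𝒦 : Set (Subgroup H))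
    (hinv : ∀ h : H, ∀ E ∈ 𝒦, E.map (MulAut.conj h).toMonoidHom ∈ 𝒦)
    (hnorm : ∀ E ∈ 𝒦, sSup 𝒦 ⊔ pCore p H ≤
      Subgroup.normalizer ((E ⊔ pCore p H : Subgroup H) : Set H))
    (E : Subgroup H) (hE : E ∈ 𝒦) (hstr : IsStronglyPIrreducible p ↥E)
    (Y : Subgroup H) (hQY : pCore p H ≤ Y)
    (hcent : ∀ a ∈ Y ⊓ E, ∀ e ∈ E, ⁅a, e⁆ ∈ pCore p H)
    (g : H) (hg : g ∈ Subgroup.normalizer ((E ⊔ pCore p H : Subgroup H) : Set H))
    (hgY : ∀ e ∈ E, ⁅e, g⁆ ∈ Y) : ∀ e ∈ E, ⁅e, g⁆ ∈ pCore p H := by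
  have hπ : ∀ q ∈ pCore p H, ∀ z : H,
      QuotientGroup.mk' (pCore p H) (q * z) = QuotientGroup.mk' (pCore p H) z := by
    intro q hq z
    have h1 : QuotientGroup.mk' (pCore p H) q = 1 := (QuotientGroup.eq_one_iff q).mpr hq
    rw [map_mul, h1, one_mul]
  have c1 : ∀ e ∈ E, ⁅e, g⁆ ∈ E ⊔ pCore p H := by
    intro e he
    have h1 : g * e⁻¹ * g⁻¹ ∈ E ⊔ pCore p H :=
      (Subgroup.mem_normalizer_iff.mp hg e⁻¹).mp (Subgroup.mem_sup_left (E.inv_mem he))
    have e1 : ⁅e, g⁆ = e * (g * e⁻¹ * g⁻¹) := by simp only [commutatorElement_def]; group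
    rw [e1]
    exact Subgroup.mul_mem _ (Subgroup.mem_sup_left he) h1
  refine cal E (E ⊔ pCore p H) hstr le_sup_left le_sup_right
    (subnormal_sup 𝒦 hinv hnorm E hE) g c1 ?_
  intro e he l hl
  obtain ⟨q, hq, a, ha, hqa⟩ := exists_mul_of_mem_sup_normal (pCore p H) E
    (show ⁅e, g⁆ ∈ pCore p H ⊔ E by rw [sup_comm]; exact c1 e he)
  obtain ⟨q', hq', e', he', rfl⟩ := exists_mul_of_mem_sup_normal (pCore p H) E
    (show l ∈ pCore p H ⊔ E by rw [sup_comm]; exact hl)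
  have haY : a ∈ Y := by
    have h1 := Y.mul_mem (Y.inv_mem (hQY hq)) (hgY e he)
    rw [hqa, inv_mul_cancel_left] at h1
    exact h1
  rw [comm_mod_iff, hqa, hπ q hq, hπ q' hq', ← comm_mod_iff]
  exact hcent a ⟨haY, ha⟩ e' he'

theorem res_conj_le {p : ℕ} (N : Subgroup H) (hN : N.Normal) (E : Subgroup H) (h : H)
    (hle : (pResidual p ↥E).map E.subtype ≤ N) :
    (pResidual p ↥(E.map (MulAut.conj h).toMonoidHom)).map
      (E.map (MulAut.conj h).toMonoidHom).subtype ≤ N := by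
  rw [← resC_eq] at hle ⊢
  have hunf : resC p (E.map (MulAut.conj h).toMonoidHom) = Subgroup.closure
      {x : H | x ∈ E.map (MulAut.conj h).toMonoidHom ∧ Nat.Coprime (orderOf x) p} := rfl
  rw [hunf, Subgroup.closure_le]
  rintro x ⟨hxE, hx⟩
  have h1 : h⁻¹ * x * h ∈ resC p E := by
    apply mem_resC p E _ ((mem_map_conj E h x).mp hxE)
    have e : orderOf (h⁻¹ * x * h) = orderOf x := by
      have := Cfsg.Agent.Helper6.orderOf_conj_eq' h⁻¹ x
      rwa [inv_inv] at this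
    rw [e]; exact hx
  have h2 := hN.conj_mem _ (hle h1) h
  have e2 : h * (h⁻¹ * x * h) * h⁻¹ = x := by group
  rw [e2] at h2
  exact h2

theorem res_le_of_le_sup {p : ℕ} (N : Subgroup H) (hN : N.Normal) (E : Subgroup H)
    (hle : (pResidual p ↥E).map E.subtype ≤ N ⊔ pCore p H) :
    (pResidual p ↥E).map E.subtype ≤ N := by
  haveI := hN
  rw [← resC_eq] at hle ⊢
  have hunf : resC p E = Subgroup.closure {x : H | x ∈ E ∧ Nat.Coprime (orderOf x) p} := rfl
  rw [hunf, Subgroup.closure_le]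
  rintro x ⟨hxE, hx⟩
  exact mem_of_coprime_of_mem_sup N (pCore p H) (pCore_isPGroup p H) x
    (hle (mem_resC p E x hxE hx)) _ hx (pow_orderOf_eq_one x)

theorem irr_step [Finite H] {p : ℕ} [Fact p.Prime] (𝒦 : Set (Subgroup H))
    (hinv : ∀ h : H, ∀ E ∈ 𝒦, E.map (MulAut.conj h).toMonoidHom ∈ 𝒦)
    (htr : ∀ E ∈ 𝒦, ∀ K ∈ 𝒦, ∃ h : H, K = E.map (MulAut.conj h).toMonoidHom)
    (hres : pResidual p H ≤ sSup 𝒦)
    (hnorm : ∀ E ∈ 𝒦, sSup 𝒦 ⊔ pCore p H ≤
      Subgroup.normalizer ((E ⊔ pCore p H : Subgroup H) : Set H))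
    (hstr : ∀ E ∈ 𝒦, IsStronglyPIrreducible p ↥E)
    (N : Subgroup H) (hN : N.Normal) (hNc : ¬ IsPClosed p ↥N) : pResidual p H ≤ N := by
  haveI := hN
  haveI hK₀ := sSup_normal_of_inv 𝒦 hinv
  by_cases hall : ∀ E ∈ 𝒦, (pResidual p ↥E).map E.subtype ≤ N
  · exact pResidual_le_of_members 𝒦 hinv hres hnorm N hN hall
  · exfalso
    have hNQn : (N ⊔ pCore p H).Normal := inferInstance
    have hRn : (sSup 𝒦 ⊔ pCore p H).Normal := inferInstance
    obtain ⟨E₀, hE₀, hE₀N⟩ : ∃ E ∈ 𝒦, ¬ (pResidual p ↥E).map E.subtype ≤ N := by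
      by_contra hcon
      apply hall
      intro E hE
      by_contra hEN
      exact hcon ⟨E, hE, hEN⟩
    have hnot : ∀ E ∈ 𝒦, ¬ (pResidual p ↥E).map E.subtype ≤ N := by
      intro E hE hEN
      obtain ⟨h, rfl⟩ := htr E hE E₀ hE₀
      exact hE₀N (res_conj_le N hN E h hEN)
    have hcent : ∀ E ∈ 𝒦, ∀ a ∈ (N ⊔ pCore p H) ⊓ E, ∀ e ∈ E, ⁅a, e⁆ ∈ pCore p H := by
      intro E hE
      rcases dichotomy 𝒦 hinv hnorm E hE (hstr E hE) (N ⊔ pCore p H)
        (fun e _ => by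
          rw [Subgroup.normalizer_eq_top_iff.mpr hNQn]; exact Subgroup.mem_top e) with h | h
      · exact absurd (res_le_of_le_sup N hN E h) (hnot E hE)
      · exact h
    -- Step A
    have hA : ∀ m ∈ (N ⊔ pCore p H) ⊓ (sSup 𝒦 ⊔ pCore p H), ∀ E ∈ 𝒦, ∀ e ∈ E,
        ⁅e, m⁆ ∈ pCore p H := by
      intro m hm E hE
      apply cal_apply 𝒦 hinv hnorm E hE (hstr E hE) (N ⊔ pCore p H) le_sup_right (hcent E hE) m
        (hnorm E hE hm.2)
      intro e he
      exact (N ⊔ pCore p H).mul_mem (hNQn.conj_mem m hm.1 e) ((N ⊔ pCore p H).inv_mem hm.1)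
    -- Step B
    have hB : ∀ n ∈ N, ∀ E ∈ 𝒦, ∀ e ∈ E, ⁅e, n⁆ ∈ pCore p H := by
      intro n hn E hE
      have hER : E ≤ sSup 𝒦 ⊔ pCore p H := (le_sSup hE).trans le_sup_left
      have c1 : ∀ e ∈ E, ⁅e, n⁆ ∈ sSup 𝒦 ⊔ pCore p H := by
        intro e he
        have h1 := hRn.conj_mem e⁻¹ (Subgroup.inv_mem _ (hER he)) n
        have e1 : ⁅e, n⁆ = e * (n * e⁻¹ * n⁻¹) := by simp only [commutatorElement_def]; group
        rw [e1]
        exact Subgroup.mul_mem _ (hER he) h1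
      refine cal E (sSup 𝒦 ⊔ pCore p H) (hstr E hE) hER le_sup_right
        (Subgroup.Normal.isSubnormal hRn) n c1 ?_
      intro e he l hl
      have hmN : ⁅e, n⁆ ∈ N ⊔ pCore p H :=
        Subgroup.mem_sup_left (N.mul_mem (hN.conj_mem n hn e) (N.inv_mem hn))
      have hle : sSup 𝒦 ⊔ pCore p H ≤ cmod (pCore p H) ⁅e, n⁆ := by
        refine sup_le (sSup_le fun E' hE' => ?_) ?_
        · intro e' he'
          rw [mem_cmod_iff]
          exact hA ⁅e, n⁆ ⟨hmN, c1 e he⟩ E' hE' e' he'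
        · intro q hq
          rw [mem_cmod_iff]
          have h1 := (pCore_normal p H).conj_mem q⁻¹ (Subgroup.inv_mem _ hq) ⁅e, n⁆
          have e1 : ⁅q, ⁅e, n⁆⁆ = q * (⁅e, n⁆ * q⁻¹ * ⁅e, n⁆⁻¹) := by
            generalize ⁅e, n⁆ = c
            simp only [commutatorElement_def]; group
          rw [e1]
          exact Subgroup.mul_mem _ hq h1
      have h2 := (mem_cmod_iff (pCore p H) ⁅e, n⁆ l).mp (hle hl)
      have h3 := Subgroup.inv_mem _ h2
      rwa [commutatorElement_inv] at h3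
    -- Step C : `N` is `p`-closed
    apply hNc
    rw [isPClosed_subgroup_iff]
    rintro x hxN ⟨a, ha⟩
    have hz : IsPGroup p (Subgroup.zpowers x) := isPGroup_zpowers_of_pow x a ha
    obtain ⟨T₁, hT₁⟩ := hz.exists_le_sylow
    have htop := sup_sylow_eq_top 𝒦 hres T₁
    have hAp : IsPGroup p (((T₁ : Subgroup H) ⊓ N) ⊔ pCore p H : Subgroup H) :=
      (T₁.isPGroup'.to_le inf_le_left).to_sup_of_normal_right (pCore_isPGroup p H)
    have hconjle : ∀ g : H,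
        (∀ s ∈ (T₁ : Subgroup H) ⊓ N, g * s * g⁻¹ ∈ ((T₁ : Subgroup H) ⊓ N) ⊔ pCore p H) →
        ∀ y ∈ ((T₁ : Subgroup H) ⊓ N) ⊔ pCore p H,
          g * y * g⁻¹ ∈ ((T₁ : Subgroup H) ⊓ N) ⊔ pCore p H := by
      intro g hg y hy
      have hle : ((T₁ : Subgroup H) ⊓ N) ⊔ pCore p H ≤
          (((T₁ : Subgroup H) ⊓ N) ⊔ pCore p H).comap (MulAut.conj g).toMonoidHom := by
        apply sup_le
        · intro s hs
          rw [Subgroup.mem_comap]
          exact hg s hs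
        · intro q hq
          rw [Subgroup.mem_comap]
          exact Subgroup.mem_sup_right ((pCore_normal p H).conj_mem q hq g)
      exact hle hy
    have hT₁A : (T₁ : Subgroup H) ≤ Subgroup.normalizer
        ((((T₁ : Subgroup H) ⊓ N) ⊔ pCore p H : Subgroup H) : Set H) := by
      apply le_normalizer_of_conj_mem
      intro t ht
      apply hconjle
      intro s hs
      exact Subgroup.mem_sup_left
        ⟨(T₁ : Subgroup H).mul_mem ((T₁ : Subgroup H).mul_mem ht hs.1)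
          ((T₁ : Subgroup H).inv_mem ht), hN.conj_mem s hs.2 t⟩
    have hKA : sSup 𝒦 ≤ Subgroup.normalizer
        ((((T₁ : Subgroup H) ⊓ N) ⊔ pCore p H : Subgroup H) : Set H) := by
      refine sSup_le fun E hE => ?_
      apply le_normalizer_of_conj_mem
      intro e he
      apply hconjle
      intro s hs
      have h1 := hB s hs.2 E hE e he
      have e1 : e * s * e⁻¹ = ⁅e, s⁆ * s := by simp only [commutatorElement_def]; group
      rw [e1]
      exact Subgroup.mul_mem _ (Subgroup.mem_sup_right h1) (Subgroup.mem_sup_left hs)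
    have hAn : (((T₁ : Subgroup H) ⊓ N) ⊔ pCore p H : Subgroup H).Normal := by
      rw [← Subgroup.normalizer_eq_top_iff, eq_top_iff, ← htop]
      exact sup_le hKA hT₁A
    exact le_pCore hAn hAp (Subgroup.mem_sup_left ⟨hT₁ (Subgroup.mem_zpowers x), hxN⟩)

theorem res_sup_le [Finite H] {p : ℕ} [Fact p.Prime] (𝒦 : Set (Subgroup H))
    (hnorm : ∀ E ∈ 𝒦, sSup 𝒦 ⊔ pCore p H ≤
      Subgroup.normalizer ((E ⊔ pCore p H : Subgroup H) : Set H))
    (E K : Subgroup H) (hE : E ∈ 𝒦) (hK : K ∈ 𝒦)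
    (h : (pResidual p ↥E).map E.subtype ≤ K ⊔ pCore p H) :
    resC p (E ⊔ pCore p H) ≤ resC p (K ⊔ pCore p H) := by
  obtain ⟨PE⟩ : Nonempty (Sylow p ↥E) := inferInstance
  have hsup : pResidual p ↥E ⊔ (PE : Subgroup ↥E) = ⊤ := pResidual_sup_sylow PE
  have hPp : IsPGroup p ((PE : Subgroup ↥E).map E.subtype ⊔ pCore p H : Subgroup H) :=
    (PE.isPGroup'.map _).to_sup_of_normal_right (pCore_isPGroup p H)
  have hEK : E ≤ Subgroup.normalizer ((K ⊔ pCore p H : Subgroup H) : Set H) :=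
    ((le_sSup hE).trans le_sup_left).trans (hnorm K hK)
  have hYN : (PE : Subgroup ↥E).map E.subtype ⊔ pCore p H ≤
      Subgroup.normalizer ((K ⊔ pCore p H : Subgroup H) : Set H) :=
    sup_le ((Subgroup.map_subtype_le _).trans hEK) (le_sup_right.trans Subgroup.le_normalizer)
  have hE_le : E ≤ (K ⊔ pCore p H) ⊔ ((PE : Subgroup ↥E).map E.subtype ⊔ pCore p H) := by
    intro e he
    have hmem : (⟨e, he⟩ : ↥E) ∈ pResidual p ↥E ⊔ (PE : Subgroup ↥E) := by
      rw [hsup]; exact Subgroup.mem_top _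
    have hle : pResidual p ↥E ⊔ (PE : Subgroup ↥E) ≤
        ((K ⊔ pCore p H) ⊔ ((PE : Subgroup ↥E).map E.subtype ⊔ pCore p H)).subgroupOf E := by
      apply sup_le
      · intro x hx
        rw [Subgroup.mem_subgroupOf]
        exact Subgroup.mem_sup_left (h ⟨x, hx, rfl⟩)
      · intro x hx
        rw [Subgroup.mem_subgroupOf]
        exact Subgroup.mem_sup_right (Subgroup.mem_sup_left ⟨x, hx, rfl⟩)
    exact Subgroup.mem_subgroupOf.mp (hle hmem)
  have hunf : resC p (E ⊔ pCore p H) =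
      Subgroup.closure {x : H | x ∈ E ⊔ pCore p H ∧ Nat.Coprime (orderOf x) p} := rfl
  rw [hunf, Subgroup.closure_le]
  rintro x ⟨hxD, hx⟩
  show x ∈ resC p (K ⊔ pCore p H)
  apply mem_resC p _ x _ hx
  apply mem_of_coprime_of_mem_sup_normalizer (K ⊔ pCore p H)
    ((PE : Subgroup ↥E).map E.subtype ⊔ pCore p H) hYN hPp x _ (orderOf x) hx
    (pow_orderOf_eq_one x)
  exact (sup_le hE_le (le_sup_right.trans le_sup_left)) hxD

theorem dich2 [Finite H] {p : ℕ} [Fact p.Prime] (𝒦 : Set (Subgroup H))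
    (hinv : ∀ h : H, ∀ E ∈ 𝒦, E.map (MulAut.conj h).toMonoidHom ∈ 𝒦)
    (hnorm : ∀ E ∈ 𝒦, sSup 𝒦 ⊔ pCore p H ≤
      Subgroup.normalizer ((E ⊔ pCore p H : Subgroup H) : Set H))
    (hstr : ∀ E ∈ 𝒦, IsStronglyPIrreducible p ↥E)
    (E K : Subgroup H) (hE : E ∈ 𝒦) (hK : K ∈ 𝒦) :
    (pResidual p ↥(E ⊔ pCore p H)).map (E ⊔ pCore p H).subtype =
      (pResidual p ↥(K ⊔ pCore p H)).map (K ⊔ pCore p H).subtype ∨ ⁅E, K⁆ ≤ pCore p H := by
  have hEK : E ≤ Subgroup.normalizer ((K ⊔ pCore p H : Subgroup H) : Set H) :=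
    ((le_sSup hE).trans le_sup_left).trans (hnorm K hK)
  have hKE : K ≤ Subgroup.normalizer ((E ⊔ pCore p H : Subgroup H) : Set H) :=
    ((le_sSup hK).trans le_sup_left).trans (hnorm E hE)
  have hcomm : ∀ (A B : Subgroup H),
      A ≤ Subgroup.normalizer ((B ⊔ pCore p H : Subgroup H) : Set H) →
      ∀ a ∈ A, ∀ b ∈ B, ⁅a, b⁆ ∈ B ⊔ pCore p H := by
    intro A B hAB a ha b hb
    have h1 : a * b * a⁻¹ ∈ B ⊔ pCore p H :=
      (Subgroup.mem_normalizer_iff.mp (hAB ha) b).mp (Subgroup.mem_sup_left hb)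
    exact Subgroup.mul_mem _ h1 (Subgroup.inv_mem _ (Subgroup.mem_sup_left hb))
  rcases dichotomy 𝒦 hinv hnorm E hE (hstr E hE) (K ⊔ pCore p H) hEK with h1 | h1
  · rcases dichotomy 𝒦 hinv hnorm K hK (hstr K hK) (E ⊔ pCore p H) hKE with h2 | h2
    · left
      rw [← resC_eq, ← resC_eq]
      exact le_antisymm (res_sup_le 𝒦 hnorm E K hE hK h1) (res_sup_le 𝒦 hnorm K E hK hE h2)
    · right
      rw [Subgroup.commutator_le]
      intro e he k hk
      have h3 := cal_apply 𝒦 hinv hnorm K hK (hstr K hK) (E ⊔ pCore p H) le_sup_right h2 e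
        (hnorm K hK (Subgroup.mem_sup_left (le_sSup hE he)))
        (fun k' hk' => hcomm K E hKE k' hk' e he) k hk
      have h4 := Subgroup.inv_mem _ h3
      rwa [commutatorElement_inv] at h4
  · right
    rw [Subgroup.commutator_le]
    intro e he k hk
    exact cal_apply 𝒦 hinv hnorm E hE (hstr E hE) (K ⊔ pCore p H) le_sup_right h1 k
      (hnorm E hE (Subgroup.mem_sup_left (le_sSup hK hk)))
      (fun e' he' => hcomm E K hEK e' he' k hk) e he

theorem s2855 [Finite H] {p : ℕ} [Fact p.Prime] (𝒦 : Set (Subgroup H)) (hne : 𝒦.Nonempty)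
    (hinv : ∀ h : H, ∀ E ∈ 𝒦, E.map (MulAut.conj h).toMonoidHom ∈ 𝒦)
    (htr : ∀ E ∈ 𝒦, ∀ K ∈ 𝒦, ∃ h : H, K = E.map (MulAut.conj h).toMonoidHom)
    (hres : pResidual p H ≤ sSup 𝒦)
    (hnorm : ∀ E ∈ 𝒦, sSup 𝒦 ⊔ pCore p H ≤
      Subgroup.normalizer ((E ⊔ pCore p H : Subgroup H) : Set H)) :
    ((∀ E ∈ 𝒦, ∀ T : Sylow p ↥E, IsMinimalOver (T : Subgroup ↥E)) →
        ∀ T : Sylow p H, IsMinimalOver (T : Subgroup H)) ∧
      ((∀ E ∈ 𝒦, IsStronglyPIrreducible p ↥E) →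
        IsPIrreducible p H ∧ ∀ E ∈ 𝒦, ∀ K ∈ 𝒦,
          (pResidual p ↥(E ⊔ pCore p H)).map (E ⊔ pCore p H).subtype =
            (pResidual p ↥(K ⊔ pCore p H)).map (K ⊔ pCore p H).subtype ∨
          ⁅E, K⁆ ≤ pCore p H) :=
  ⟨fun hmin T => part1 𝒦 hne hinv htr hres hnorm hmin T,
    fun hstr => ⟨⟨not_pClosed 𝒦 hne hstr,
      fun N hN hNc => irr_step 𝒦 hinv htr hres hnorm hstr N hN hNc⟩,
      fun E hE K hK => dich2 𝒦 hinv hnorm hstr E K hE hK⟩⟩

end Cfsg.Agent.Helper9.PMinClass
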