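-- helper9: Thompson's P×Q lemma (abelian case), conjugates of relatively p-reduced subgroups, subnormal descent of C(Y).
import Mathlib
import Cfsg.Agent.Helper9.RelRed3

set_option autoImplicit false

namespace Cfsg.Agent.Helper9

open Cfsg

/-- P×Q lemma, elementary abelian case: a `p'`-element `y` commuting with `D` modulo `C(M')`, where
`D` acts as a `p`-group on `M'`, centralizes `M'` as soon as it centralizes `C_{M'}(D)`. -/
theorem pq_centralizer {H : Type*} [Group H] [Finite H] {p : ℕ} [Fact p.Prime] (M' : Subgroup H)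
    (hc : ∀ a ∈ M', ∀ b ∈ M', a * b = b * a) (hp : ∀ a ∈ M', a ^ p = 1)
    (y : H) (hy : ∀ v ∈ M', y * v * y⁻¹ ∈ M') (m : ℕ) (hym : y ^ m = 1) (hmp : Nat.Coprime m p)
    (D : Subgroup H) (hD : ∀ d ∈ D, ∀ v ∈ M', d * v * d⁻¹ ∈ M')
    (hDp : ∀ d ∈ D, ∃ j : ℕ, ∀ v ∈ M', v * d ^ (p ^ j) = d ^ (p ^ j) * v)
    (hDy : ∀ d ∈ D, ∀ v ∈ M', v * (d * y * d⁻¹ * y⁻¹) = (d * y * d⁻¹ * y⁻¹) * v)
    (hfix : ∀ v ∈ M', (∀ d ∈ D, d * v = v * d) → y * v = v * y) :
    ∀ v ∈ M', y * v = v * y := by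
  classical
  obtain ⟨N, hN⟩ : ∃ N : Subgroup H, ∀ n, n ∈ N ↔ ∃ v ∈ M', n = v * y * v⁻¹ * y⁻¹ := by
    refine ⟨{ carrier := {n | ∃ v ∈ M', n = v * y * v⁻¹ * y⁻¹}
              mul_mem' := ?_
              one_mem' := ⟨1, one_mem _, by group⟩
              inv_mem' := ?_ }, fun _ => Iff.rfl⟩
    · rintro _ _ ⟨v, hv, rfl⟩ ⟨w, hw, rfl⟩
      refine ⟨v * w, mul_mem hv hw, ?_⟩
      have ha : y * v⁻¹ * y⁻¹ ∈ M' := hy _ (inv_mem hv)
      have hb : y * w⁻¹ * y⁻¹ ∈ M' := hy _ (inv_mem hw)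
      have h1 : (y * v⁻¹ * y⁻¹) * w = w * (y * v⁻¹ * y⁻¹) := hc _ ha _ hw
      have h2 : (y * v⁻¹ * y⁻¹) * (y * w⁻¹ * y⁻¹) = (y * w⁻¹ * y⁻¹) * (y * v⁻¹ * y⁻¹) :=
        hc _ ha _ hb
      calc v * y * v⁻¹ * y⁻¹ * (w * y * w⁻¹ * y⁻¹)
          = v * ((y * v⁻¹ * y⁻¹) * w) * (y * w⁻¹ * y⁻¹) := by group
        _ = v * (w * (y * v⁻¹ * y⁻¹)) * (y * w⁻¹ * y⁻¹) := by rw [h1]
        _ = v * w * ((y * v⁻¹ * y⁻¹) * (y * w⁻¹ * y⁻¹)) := by group
        _ = v * w * ((y * w⁻¹ * y⁻¹) * (y * v⁻¹ * y⁻¹)) := by rw [h2]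
        _ = (v * w) * y * (v * w)⁻¹ * y⁻¹ := by group
    · rintro _ ⟨v, hv, rfl⟩
      refine ⟨v⁻¹, inv_mem hv, ?_⟩
      have ha : y * v⁻¹ * y⁻¹ ∈ M' := hy _ (inv_mem hv)
      have h1 : v * (y * v⁻¹ * y⁻¹) = (y * v⁻¹ * y⁻¹) * v := hc _ hv _ ha
      calc (v * y * v⁻¹ * y⁻¹)⁻¹ = (v * (y * v⁻¹ * y⁻¹))⁻¹ := by group
        _ = ((y * v⁻¹ * y⁻¹) * v)⁻¹ := by rw [h1]
        _ = v⁻¹ * y * v⁻¹⁻¹ * y⁻¹ := by group
  have hNM : N ≤ M' := by
    intro n hn
    obtain ⟨v, hv, rfl⟩ := (hN n).mp hn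
    have ha : y * v⁻¹ * y⁻¹ ∈ M' := hy _ (inv_mem hv)
    have h1 : v * y * v⁻¹ * y⁻¹ = v * (y * v⁻¹ * y⁻¹) := by group
    rw [h1]; exact mul_mem hv ha
  have hNy : ∀ n ∈ N, y * n = n * y → n = 1 := by
    intro n hn hcomm
    obtain ⟨v, hv, rfl⟩ := (hN n).mp hn
    have h1 : v * y * v⁻¹ * y⁻¹ ∈ (⊥ : Subgroup H) := by
      apply coprime_comm_mem M' hc hp y hy m hym hmp v hv ⊥
      intro i
      have h2 : Commute (v * y * v⁻¹ * y⁻¹) y := hcomm.symm
      have h3 : (v * y * v⁻¹ * y⁻¹) * y ^ i = y ^ i * (v * y * v⁻¹ * y⁻¹) := h2.pow_right i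
      rw [Subgroup.mem_bot, h3]
      group
    exact Subgroup.mem_bot.mp h1
  have key : ∀ w c q : H, q = w * y * w⁻¹ * y⁻¹ → w * c = c * w → q * c = c * q →
      (w * c) * y * w⁻¹ * y⁻¹ * c⁻¹ = q := by
    intro w c q hq hcw hcq
    rw [hcw]
    have h1 : c * w * y * w⁻¹ * y⁻¹ * c⁻¹ = c * (w * y * w⁻¹ * y⁻¹) * c⁻¹ := by group
    rw [h1, ← hq, ← hcq]; group
  have hDN : ∀ d ∈ D, ∀ n ∈ N, d * n * d⁻¹ ∈ N := by
    intro d hd n hn
    obtain ⟨v, hv, rfl⟩ := (hN n).mp hn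
    have hw : d * v * d⁻¹ ∈ M' := hD d hd v hv
    have hq : (d * v * d⁻¹) * y * (d * v * d⁻¹)⁻¹ * y⁻¹ ∈ M' := by
      have ha : y * (d * v * d⁻¹)⁻¹ * y⁻¹ ∈ M' := hy _ (inv_mem hw)
      have h1 : (d * v * d⁻¹) * y * (d * v * d⁻¹)⁻¹ * y⁻¹
          = (d * v * d⁻¹) * (y * (d * v * d⁻¹)⁻¹ * y⁻¹) := by group
      rw [h1]; exact mul_mem hw ha
    have e1 : d * (v * y * v⁻¹ * y⁻¹) * d⁻¹
        = ((d * v * d⁻¹) * (d * y * d⁻¹ * y⁻¹)) * y * (d * v * d⁻¹)⁻¹ * y⁻¹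
          * (d * y * d⁻¹ * y⁻¹)⁻¹ := by group
    have e2 := key (d * v * d⁻¹) (d * y * d⁻¹ * y⁻¹) _ rfl (hDy d hd _ hw) (hDy d hd _ hq)
    rw [e1, e2]
    exact (hN _).mpr ⟨d * v * d⁻¹, hw, rfl⟩
  obtain ⟨P⟩ : Nonempty (Sylow p ↥D) := inferInstance
  have hCn : ((Subgroup.centralizer (M' : Set H)).subgroupOf D).Normal := by
    constructor
    intro c hc' g
    show (g : H) * (c : H) * (g : H)⁻¹ ∈ Subgroup.centralizer (M' : Set H)
    apply conj_mem_centralizer_of_normalizes M' (g : H) (c : H) _ hc'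
    intro v hv
    have h := hD (g : H)⁻¹ (inv_mem g.2) v hv
    rwa [inv_inv] at h
  haveI := hCn
  have hfac : ∀ d : ↥D, ∃ c ∈ (Subgroup.centralizer (M' : Set H)).subgroupOf D,
      ∃ t ∈ (P : Subgroup ↥D), d = c * t := by
    intro d
    obtain ⟨c, hc', t, ht, -, -, hd⟩ := exists_mul_of_pgroup_mod P (⊤ : Subgroup ↥D)
      ((Subgroup.centralizer (M' : Set H)).subgroupOf D) (by
        intro d' _
        obtain ⟨j, hj⟩ := hDp d'.1 d'.2
        refine ⟨j, ?_⟩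
        show ((d' ^ (p ^ j) : ↥D) : H) ∈ Subgroup.centralizer (M' : Set H)
        rw [Subgroup.mem_centralizer_iff]
        exact hj) d (Subgroup.mem_top d)
    exact ⟨c, hc', t, ht, hd⟩
  letI : MulAction ↥(P : Subgroup ↥D) ↥N :=
    { smul := fun t n => ⟨(t.1.1 : H) * n.1 * (t.1.1 : H)⁻¹, hDN t.1.1 t.1.2 n.1 n.2⟩
      one_smul := fun n => Subtype.ext (by
        show (1 : H) * n.1 * (1 : H)⁻¹ = n.1
        group)
      mul_smul := fun s t n => Subtype.ext (by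
        show ((s.1.1 : H) * (t.1.1 : H)) * n.1 * ((s.1.1 : H) * (t.1.1 : H))⁻¹
          = (s.1.1 : H) * ((t.1.1 : H) * n.1 * (t.1.1 : H)⁻¹) * (s.1.1 : H)⁻¹
        group) }
  have hPp : IsPGroup p ↥(P : Subgroup ↥D) := P.isPGroup'
  have hmod := hPp.card_modEq_card_fixedPoints ↥N
  have hfixed : ∀ n : ↥N, n ∈ MulAction.fixedPoints ↥(P : Subgroup ↥D) ↥N → n = 1 := by
    intro n hn
    have hn' : ∀ t : ↥(P : Subgroup ↥D), (t.1.1 : H) * n.1 * (t.1.1 : H)⁻¹ = n.1 := by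
      intro t
      have h := congrArg Subtype.val (hn t)
      exact h
    have hDn : ∀ d ∈ D, d * n.1 = n.1 * d := by
      intro d hd
      obtain ⟨c, hc', t, ht, hdct⟩ := hfac ⟨d, hd⟩
      have h1 : (t : H) * n.1 * (t : H)⁻¹ = n.1 := hn' ⟨t, ht⟩
      have hc'' : (c : H) ∈ Subgroup.centralizer (M' : Set H) := hc'
      have h2 : (c : H) * n.1 = n.1 * (c : H) :=
        (Subgroup.mem_centralizer_iff.mp hc'' n.1 (hNM n.2)).symm
      have h0 := congrArg Subtype.val hdct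
      have h3 : d = (c : H) * (t : H) := h0
      rw [h3]
      calc (c : H) * (t : H) * n.1 = (c : H) * ((t : H) * n.1 * (t : H)⁻¹) * (t : H) := by group
        _ = (c : H) * n.1 * (t : H) := by rw [h1]
        _ = n.1 * (c : H) * (t : H) := by rw [h2]
        _ = n.1 * ((c : H) * (t : H)) := by group
    have h4 := hfix n.1 (hNM n.2) hDn
    exact Subtype.ext (hNy n.1 n.2 h4)
  have hcard1 : Nat.card (MulAction.fixedPoints ↥(P : Subgroup ↥D) ↥N) = 1 := by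
    rw [Nat.card_eq_one_iff_unique]
    constructor
    · constructor
      intro a b
      apply Subtype.ext
      rw [hfixed a.1 a.2, hfixed b.1 b.2]
    · refine ⟨⟨1, ?_⟩⟩
      intro t
      apply Subtype.ext
      show (t.1.1 : H) * (1 : H) * (t.1.1 : H)⁻¹ = 1
      group
  rw [hcard1] at hmod
  have hNp : IsPGroup p ↥N := by
    intro n
    refine ⟨1, Subtype.ext ?_⟩
    rw [pow_one]
    exact hp n.1 (hNM n.2)
  obtain ⟨a, ha⟩ := IsPGroup.iff_card.mp hNp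
  have hN1 : Nat.card ↥N = 1 := by
    rcases Nat.eq_zero_or_pos a with h0 | hpos
    · rw [ha, h0, pow_zero]
    · exfalso
      have h1 : p ∣ Nat.card ↥N := by rw [ha]; exact dvd_pow_self p hpos.ne'
      have h2 : Nat.card ↥N % p = 1 % p := hmod
      have h3 : Nat.card ↥N % p = 0 := Nat.mod_eq_zero_of_dvd h1
      have hp2 : 2 ≤ p := (Fact.out : p.Prime).two_le
      rw [h3, Nat.mod_eq_of_lt (by omega)] at h2
      omega
  have hNbot : N = ⊥ := Subgroup.eq_bot_of_card_eq N hN1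
  intro v hv
  have h1 : v * y * v⁻¹ * y⁻¹ ∈ N := (hN _).mpr ⟨v, hv, rfl⟩
  rw [hNbot, Subgroup.mem_bot] at h1
  calc y * v = (v * y * v⁻¹ * y⁻¹)⁻¹ * (v * y) := by group
    _ = v * y := by rw [h1, inv_one, one_mul]

/-- Conjugates of relatively `p`-reduced subgroups by elements normalizing `K`. -/
theorem relRed_conj {H : Type*} [Group H] {p : ℕ} (K V : Subgroup H) (hV : RelRed p K V) (g : H)
    (hg : ∀ k ∈ K, g * k * g⁻¹ ∈ K) (hg' : ∀ k ∈ K, g⁻¹ * k * g ∈ K) :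
    RelRed p K (V.map (MulAut.conj g).toMonoidHom) := by
  obtain ⟨hVK, hn, hc, hp, hred⟩ := hV
  have hmem : ∀ w : H, w ∈ V.map (MulAut.conj g).toMonoidHom ↔ g⁻¹ * w * g ∈ V :=
    fun w => Cfsg.Agent.Helper14.mem_map_conj V g w
  refine ⟨?_, ?_, ?_, ?_, ?_⟩
  · intro w hw
    have h1 := hg _ (hVK ((hmem w).mp hw))
    have h2 : g * (g⁻¹ * w * g) * g⁻¹ = w := by group
    rw [h2] at h1
    exact h1
  · intro k hk w hw
    rw [hmem] at hw ⊢
    have h1 := hn _ (hg' k hk) _ hw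
    have h2 : g⁻¹ * (k * w * k⁻¹) * g = (g⁻¹ * k * g) * (g⁻¹ * w * g) * (g⁻¹ * k * g)⁻¹ := by
      group
    rw [h2]; exact h1
  · intro a ha b hb
    have h1 := hc _ ((hmem a).mp ha) _ ((hmem b).mp hb)
    calc a * b = g * ((g⁻¹ * a * g) * (g⁻¹ * b * g)) * g⁻¹ := by group
      _ = g * ((g⁻¹ * b * g) * (g⁻¹ * a * g)) * g⁻¹ := by rw [h1]
      _ = b * a := by group
  · intro a ha
    have h1 := hp _ ((hmem a).mp ha)
    have h2 : a ^ p = g * (g⁻¹ * a * g) ^ p * g⁻¹ := by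
      rw [← conj_pow]
      congr 1
      group
    rw [h2, h1]; group
  · intro D hDK hDn hDp d hd w hw
    have hmemD : ∀ x : H, x ∈ D.map (MulAut.conj g⁻¹).toMonoidHom ↔ g * x * g⁻¹ ∈ D := by
      intro x
      have h := Cfsg.Agent.Helper14.mem_map_conj D g⁻¹ x
      rw [inv_inv] at h
      exact h
    have key : ∀ x ∈ D.map (MulAut.conj g⁻¹).toMonoidHom, ∀ v ∈ V, v * x = x * v := by
      apply hred
      · intro x hx
        have h1 := hg' _ (hDK ((hmemD x).mp hx))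
        have h2 : g⁻¹ * (g * x * g⁻¹) * g = x := by group
        rw [h2] at h1
        exact h1
      · intro k hk x hx
        rw [hmemD] at hx ⊢
        have h1 := hDn _ (hg k hk) _ hx
        have h2 : g * (k * x * k⁻¹) * g⁻¹ = (g * k * g⁻¹) * (g * x * g⁻¹) * (g * k * g⁻¹)⁻¹ := by
          group
        rw [h2]; exact h1
      · intro x hx
        obtain ⟨j, hj⟩ := hDp _ ((hmemD x).mp hx)
        refine ⟨j, fun v hv => ?_⟩
        have hw' : g * v * g⁻¹ ∈ V.map (MulAut.conj g).toMonoidHom := by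
          rw [hmem]
          have h2 : g⁻¹ * (g * v * g⁻¹) * g = v := by group
          rw [h2]; exact hv
        have h1 := hj _ hw'
        rw [conj_pow] at h1
        calc v * x ^ (p ^ j) = g⁻¹ * ((g * v * g⁻¹) * (g * x ^ (p ^ j) * g⁻¹)) * g := by group
          _ = g⁻¹ * ((g * x ^ (p ^ j) * g⁻¹) * (g * v * g⁻¹)) * g := by rw [h1]
          _ = x ^ (p ^ j) * v := by group
    have hx : g⁻¹ * d * g ∈ D.map (MulAut.conj g⁻¹).toMonoidHom := by
      rw [hmemD]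
      have h2 : g * (g⁻¹ * d * g) * g⁻¹ = d := by group
      rw [h2]; exact hd
    have h1 := key _ hx _ ((hmem w).mp hw)
    calc w * d = g * ((g⁻¹ * w * g) * (g⁻¹ * d * g)) * g⁻¹ := by group
      _ = g * ((g⁻¹ * d * g) * (g⁻¹ * w * g)) * g⁻¹ := by rw [h1]
      _ = d * w := by group

theorem isPReducedNormal_of_relRed_top {H : Type*} [Group H] {p : ℕ} (V : Subgroup H)
    (h : RelRed p ⊤ V) : Cfsg.IsPReducedNormal p V := by
  obtain ⟨-, hn, hc, hp, hred⟩ := h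
  have hVn : V.Normal := ⟨fun n hn' g => hn g (Subgroup.mem_top g) n hn'⟩
  haveI := hVn
  have hCn : (Subgroup.centralizer (V : Set H)).Normal := inferInstance
  refine ⟨hVn, ⟨⟨⟨fun a b => Subtype.ext (hc a.1 a.2 b.1 b.2)⟩⟩, hp⟩, hCn, ?_⟩
  rw [pCore_quotient_eq_bot_iff]
  intro D hDn hDp
  have key := hred D le_top (fun k _ d hd => hDn.conj_mem d hd k)
    (fun d hd => by
      obtain ⟨j, hj⟩ := hDp d hd
      exact ⟨j, Subgroup.mem_centralizer_iff.mp hj⟩)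
  intro d hd
  rw [Subgroup.mem_centralizer_iff]
  exact key d hd

/-- A subnormal subgroup whose `p'`-elements have commutators with `V` inside `W`, and which is
a `p`-group modulo `C(W)`, centralizes the `p`-reduced normal subgroup `V`. -/
theorem subnormal_le_centralizer_of_comm {H : Type*} [Group H] [Finite H] {p : ℕ} [Fact p.Prime]
    (V : Subgroup H) (hV : Cfsg.IsPReducedNormal p V) (W : Subgroup H)
    (D : Subgroup H) (hD : D.IsSubnormal)
    (hcomm : ∀ x ∈ D, ∀ m : ℕ, x ^ m = 1 → Nat.Coprime m p → ∀ v ∈ V, v * x * v⁻¹ * x⁻¹ ∈ W)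
    (hDp : ∀ d ∈ D, ∃ j : ℕ, ∀ w ∈ W, w * d ^ (p ^ j) = d ^ (p ^ j) * w) :
    D ≤ Subgroup.centralizer (V : Set H) := by
  obtain ⟨hVn, hVe, hCn, hVcore⟩ := hV
  haveI := hVn
  haveI := hCn
  have hVc : ∀ a ∈ V, ∀ b ∈ V, a * b = b * a := by
    intro a ha b hb
    have h := congrArg Subtype.val (hVe.1.is_comm.comm (⟨a, ha⟩ : ↥V) ⟨b, hb⟩)
    exact h
  have hVp : ∀ a ∈ V, a ^ p = 1 := hVe.2
  apply le_of_subnormal_of_pCore_quotient (p := p) _ hVcore _ hD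
  intro d hd
  obtain ⟨e, m, hm, hn⟩ := Nat.exists_eq_pow_mul_and_not_dvd (orderOf_pos d).ne' p
    (Fact.out : p.Prime).ne_one
  refine ⟨e, ?_⟩
  obtain ⟨x, hxdef⟩ : ∃ x : H, x = d ^ (p ^ e) := ⟨_, rfl⟩
  rw [← hxdef]
  have hxm : x ^ m = 1 := by rw [hxdef, ← pow_mul, ← hn, pow_orderOf_eq_one]
  have hmp : Nat.Coprime m p := ((Nat.Prime.coprime_iff_not_dvd Fact.out).mpr hm).symm
  have hxD : x ∈ D := by rw [hxdef]; exact pow_mem hd _
  obtain ⟨k, hk⟩ := hDp d hd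
  have hxW : x ∈ Subgroup.centralizer (W : Set H) := by
    have h1 : d ^ (p ^ k) ∈ Subgroup.centralizer (W : Set H) := by
      rw [Subgroup.mem_centralizer_iff]; exact hk
    have h4 : x ^ (p ^ k) ∈ Subgroup.centralizer (W : Set H) := by
      rw [hxdef, ← pow_mul, mul_comm (p ^ e) (p ^ k), pow_mul]
      exact pow_mem h1 _
    have h5 : x ^ m ∈ Subgroup.centralizer (W : Set H) := by rw [hxm]; exact one_mem _
    have h6 := pow_gcd_mem _ x (p ^ k) m h4 h5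
    have h7 : Nat.gcd (p ^ k) m = 1 := Nat.Coprime.pow_left k hmp.symm
    rw [h7, pow_one] at h6
    exact h6
  rw [Subgroup.mem_centralizer_iff]
  intro v hv
  have hc : v * x * v⁻¹ * x⁻¹ ∈ (⊥ : Subgroup H) := by
    apply coprime_comm_mem V hVc hVp x (fun w hw => hVn.conj_mem w hw x) m hxm hmp v hv ⊥
    intro i
    have hcW : v * x * v⁻¹ * x⁻¹ ∈ W := hcomm x hxD m hxm hmp v hv
    have hxi : x ^ i ∈ Subgroup.centralizer (W : Set H) := pow_mem hxW i
    have h8 := Subgroup.mem_centralizer_iff.mp hxi _ hcW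
    rw [Subgroup.mem_bot, h8]
    group
  have hc' := Subgroup.mem_bot.mp hc
  calc v * x = (v * x * v⁻¹ * x⁻¹) * (x * v) := by group
    _ = x * v := by rw [hc', one_mul]

/-- If `K0 ⊴ K1` then `C_{K0}(Y_{K1}) ≤ C(Y_{K0})`. -/
theorem centralizer_step {H : Type*} [Group H] [Finite H] {p : ℕ} [Fact p.Prime]
    (K0 K1 : Subgroup H) (h_le : K0 ≤ K1) (hnorm : ∀ k ∈ K1, ∀ x ∈ K0, k * x * k⁻¹ ∈ K0) :
    K0 ⊓ Subgroup.centralizer ((Cfsg.largestPReducedOf p K1 : Subgroup H) : Set H) ≤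
      Subgroup.centralizer ((Cfsg.largestPReducedOf p K0 : Subgroup H) : Set H) := by
  classical
  have hM := relRed_largestPReducedOf (p := p) K0
  have hMmax : ∀ V : Subgroup H, RelRed p K0 V → V ≤ Cfsg.largestPReducedOf p K0 :=
    fun V hV => le_largestPReducedOf K0 V hV
  have hY1max : ∀ V : Subgroup H, RelRed p K1 V → V ≤ Cfsg.largestPReducedOf p K1 :=
    fun V hV => le_largestPReducedOf K1 V hV
  generalize Cfsg.largestPReducedOf p K0 = M at hM hMmax ⊢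
  generalize Cfsg.largestPReducedOf p K1 = Y1 at hY1max ⊢
  have hK1M : ∀ k ∈ K1, ∀ v ∈ M, k * v * k⁻¹ ∈ M := by
    intro k hk v hv
    have hconj := relRed_conj K0 M hM k (fun x hx => hnorm k hk x hx) (fun x hx => by
      have h := hnorm k⁻¹ (inv_mem hk) x hx
      rwa [inv_inv] at h)
    exact hMmax _ hconj (Cfsg.Agent.Helper14.conj_mem_map_conj M k hv)
  obtain ⟨hMK0, hMn, hMc, hMp, hMred⟩ := hM
  have hex : ∃ n : ℕ, ∃ M' : Subgroup H, (M' ≤ M ∧ (∀ k ∈ K1, ∀ v ∈ M', k * v * k⁻¹ ∈ M') ∧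
      K0 ⊓ Subgroup.centralizer (M' : Set H) ≤ Subgroup.centralizer (M : Set H)) ∧
      Nat.card M' = n :=
    ⟨_, M, ⟨le_rfl, hK1M, inf_le_right⟩, rfl⟩
  obtain ⟨M', ⟨hM'M, hM'n, hM'C⟩, hcard⟩ := Nat.find_spec hex
  have hmin : ∀ M'' : Subgroup H, M'' ≤ M → (∀ k ∈ K1, ∀ v ∈ M'', k * v * k⁻¹ ∈ M'') →
      K0 ⊓ Subgroup.centralizer (M'' : Set H) ≤ Subgroup.centralizer (M : Set H) →
      Nat.card M' ≤ Nat.card M'' := by
    intro M'' h1 h2 h3
    rw [hcard]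
    exact Nat.find_min' hex ⟨M'', ⟨h1, h2, h3⟩, rfl⟩
  have hM'red : RelRed p K1 M' := by
    refine ⟨hM'M.trans (hMK0.trans h_le), hM'n, fun a ha b hb => hMc a (hM'M ha) b (hM'M hb),
      fun a ha => hMp a (hM'M ha), ?_⟩
    intro D hDK1 hDn hDp
    have hDinv : ∀ k ∈ K1, ∀ d ∈ D, k⁻¹ * d * k ∈ D := by
      intro k hk d hd
      have h := hDn k⁻¹ (inv_mem hk) d hd
      rwa [inv_inv] at h
    have hM''n : ∀ k ∈ K1, ∀ v ∈ M' ⊓ Subgroup.centralizer (D : Set H),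
        k * v * k⁻¹ ∈ M' ⊓ Subgroup.centralizer (D : Set H) := by
      intro k hk v hv
      obtain ⟨hv1, hv2⟩ := Subgroup.mem_inf.mp hv
      exact Subgroup.mem_inf.mpr ⟨hM'n k hk v hv1,
        conj_mem_centralizer_of_normalizes D k v (hDinv k hk) hv2⟩
    have hR : ∀ r ∈ D ⊓ K0, ∀ v ∈ M, v * r = r * v := by
      apply hMred (D ⊓ K0) inf_le_right
      · intro k hk r hr
        obtain ⟨hr1, hr2⟩ := Subgroup.mem_inf.mp hr
        exact Subgroup.mem_inf.mpr ⟨hDn k (h_le hk) r hr1, hnorm k (h_le hk) r hr2⟩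
      · intro r hr
        obtain ⟨hr1, hr2⟩ := Subgroup.mem_inf.mp hr
        obtain ⟨j, hj⟩ := hDp r hr1
        refine ⟨j, ?_⟩
        have h1 : r ^ (p ^ j) ∈ K0 ⊓ Subgroup.centralizer (M' : Set H) :=
          Subgroup.mem_inf.mpr ⟨pow_mem hr2 _, Subgroup.mem_centralizer_iff.mpr hj⟩
        exact Subgroup.mem_centralizer_iff.mp (hM'C h1)
    have hclaim : ∀ x0 ∈ K0 ⊓ Subgroup.centralizer
        ((M' ⊓ Subgroup.centralizer (D : Set H) : Subgroup H) : Set H), ∀ v ∈ M, v * x0 = x0 * v := by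
      apply hMred (K0 ⊓ Subgroup.centralizer
        ((M' ⊓ Subgroup.centralizer (D : Set H) : Subgroup H) : Set H)) inf_le_left
      · intro k hk x hx
        obtain ⟨hx1, hx2⟩ := Subgroup.mem_inf.mp hx
        refine Subgroup.mem_inf.mpr ⟨mul_mem (mul_mem hk hx1) (inv_mem hk), ?_⟩
        apply conj_mem_centralizer_of_normalizes _ k x _ hx2
        intro v hv
        have h := hM''n k⁻¹ (inv_mem (h_le hk)) v hv
        rwa [inv_inv] at h
      · intro x hx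
        obtain ⟨hx1, hx2⟩ := Subgroup.mem_inf.mp hx
        obtain ⟨e, m, hm, hn⟩ := Nat.exists_eq_pow_mul_and_not_dvd (orderOf_pos x).ne' p
          (Fact.out : p.Prime).ne_one
        refine ⟨e, ?_⟩
        obtain ⟨y, hydef⟩ : ∃ y : H, y = x ^ (p ^ e) := ⟨_, rfl⟩
        rw [← hydef]
        have hym : y ^ m = 1 := by rw [hydef, ← pow_mul, ← hn, pow_orderOf_eq_one]
        have hmp : Nat.Coprime m p := ((Nat.Prime.coprime_iff_not_dvd Fact.out).mpr hm).symm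
        have hyK0 : y ∈ K0 := by rw [hydef]; exact pow_mem hx1 _
        have hyC : y ∈ Subgroup.centralizer
            ((M' ⊓ Subgroup.centralizer (D : Set H) : Subgroup H) : Set H) := by
          rw [hydef]; exact pow_mem hx2 _
        have hyM' : ∀ v ∈ M', y * v = v * y := by
          apply pq_centralizer M' (fun a ha b hb => hMc a (hM'M ha) b (hM'M hb))
            (fun a ha => hMp a (hM'M ha)) y (fun v hv => hM'n y (h_le hyK0) v hv) m hym hmp D
            (fun d hd v hv => hM'n d (hDK1 hd) v hv) hDp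
          · intro d hd v hv
            have hr : d * y * d⁻¹ * y⁻¹ ∈ D ⊓ K0 := by
              refine Subgroup.mem_inf.mpr ⟨?_, ?_⟩
              · have h1 := hDn y (h_le hyK0) d⁻¹ (inv_mem hd)
                have h2 : d * y * d⁻¹ * y⁻¹ = d * (y * d⁻¹ * y⁻¹) := by group
                rw [h2]; exact mul_mem hd h1
              · exact mul_mem (hnorm d (hDK1 hd) y hyK0) (inv_mem hyK0)
            exact hR _ hr v (hM'M hv)
          · intro v hv hvD
            have hv'' : v ∈ M' ⊓ Subgroup.centralizer (D : Set H) :=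
              Subgroup.mem_inf.mpr ⟨hv, Subgroup.mem_centralizer_iff.mpr hvD⟩
            exact (Subgroup.mem_centralizer_iff.mp hyC v hv'').symm
        have hyCM : y ∈ Subgroup.centralizer (M : Set H) :=
          hM'C (Subgroup.mem_inf.mpr ⟨hyK0,
            Subgroup.mem_centralizer_iff.mpr (fun v hv => (hyM' v hv).symm)⟩)
        exact Subgroup.mem_centralizer_iff.mp hyCM
    have hle : M' ⊓ Subgroup.centralizer (D : Set H) ≤ M' := inf_le_left
    have hcardle := hmin _ (hle.trans hM'M) hM''n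
      (fun x0 hx0 => Subgroup.mem_centralizer_iff.mpr (hclaim x0 hx0))
    have heq : M' ⊓ Subgroup.centralizer (D : Set H) = M' :=
      Subgroup.eq_of_le_of_card_ge hle hcardle
    intro d hd v hv
    have hv' : v ∈ M' ⊓ Subgroup.centralizer (D : Set H) := by rw [heq]; exact hv
    exact (Subgroup.mem_centralizer_iff.mp (Subgroup.mem_inf.mp hv').2 d hd).symm
  have hM'Y1 : M' ≤ Y1 := hY1max M' hM'red
  intro x hx
  obtain ⟨hx1, hx2⟩ := Subgroup.mem_inf.mp hx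
  exact hM'C (Subgroup.mem_inf.mpr ⟨hx1,
    Subgroup.centralizer_le (SetLike.coe_subset_coe.mpr hM'Y1) hx2⟩)

/-- For `L` subnormal in `H`: `C_L(Y_H) ≤ C(Y_L)`. -/
theorem subnormal_inf_centralizer_le {H : Type*} [Group H] [Finite H] {p : ℕ} [Fact p.Prime]
    (L : Subgroup H) (hL : L.IsSubnormal) :
    L ⊓ Subgroup.centralizer (Cfsg.largestPReduced p H : Set H) ≤
      Subgroup.centralizer ((Cfsg.largestPReducedOf p L : Subgroup H) : Set H) := by
  induction hL with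
  | top =>
    have h1 : Cfsg.largestPReducedOf p (⊤ : Subgroup H) ≤ Cfsg.largestPReduced p H := by
      have h2 := isPReducedNormal_of_relRed_top _
        (relRed_largestPReducedOf (p := p) (⊤ : Subgroup H))
      unfold Cfsg.largestPReduced; exact le_sSup h2
    exact inf_le_right.trans (Subgroup.centralizer_le (SetLike.coe_subset_coe.mpr h1))
  | step K0 K1 h_le hSubn hN ih =>
    have hstep := centralizer_step (p := p) K0 K1 h_le
      (fun k hk x hx => hN.conj_mem ⟨x, h_le hx⟩ hx ⟨k, hk⟩)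
    intro x hx
    obtain ⟨hx1, hx2⟩ := Subgroup.mem_inf.mp hx
    have h1 : x ∈ Subgroup.centralizer ((Cfsg.largestPReducedOf p K1 : Subgroup H) : Set H) :=
      ih (Subgroup.mem_inf.mpr ⟨h_le hx1, hx2⟩)
    exact hstep (Subgroup.mem_inf.mpr ⟨hx1, h1⟩)

end Cfsg.Agent.Helper9
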