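import Mathlib

set_option autoImplicit false

namespace Cfsg.Agent.Helper9.Psu3x

open Matrix

/-- The model matrix: `X ⊕ (l m)⁻¹` with `X` conjugate to `diag(l, m)`. -/
def mat {K : Type*} [Field K] (l m y : K) : Matrix (Fin 3) (Fin 3) K :=
  !![(l + m) / 2, y * ((m - l) / 2), 0; y⁻¹ * ((m - l) / 2), (l + m) / 2, 0; 0, 0, (l * m)⁻¹]

theorem mat_pow {K : Type*} [Field K] (h2 : (2 : K) ≠ 0) (l m y : K) (hl : l ≠ 0) (hm : m ≠ 0)
    (hy : y ≠ 0) (j : ℕ) : mat l m y ^ j = mat (l ^ j) (m ^ j) y := by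
  induction j with
  | zero =>
    rw [pow_zero]
    ext a b
    fin_cases a <;> fin_cases b <;> simp [mat] <;> field_simp <;> ring
  | succ j ih =>
    rw [pow_succ, ih]
    ext a b
    fin_cases a <;> fin_cases b <;>
      simp [mat, Matrix.mul_apply, Fin.sum_univ_three, pow_succ] <;> field_simp <;> ring

theorem mat_det {K : Type*} [Field K] (h2 : (2 : K) ≠ 0) (l m y : K) (hl : l ≠ 0) (hm : m ≠ 0)
    (hy : y ≠ 0) : (mat l m y).det = 1 := by
  rw [Matrix.det_fin_three]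
  simp [mat]
  field_simp
  ring

theorem mat_eq_smul {K : Type*} [Field K] (h2 : (2 : K) ≠ 0) (a b y : K) (hy : y ≠ 0)
    (hab : a = b) (hc : (a * b)⁻¹ = a) :
    mat a b y = a • (1 : Matrix (Fin 3) (Fin 3) K) := by
  subst hab
  ext i j
  fin_cases i <;> fin_cases j <;> simp [mat, hc] <;> field_simp <;> ring

theorem mat_smul_imp {K : Type*} [Field K] (h2 : (2 : K) ≠ 0) (a b y s : K) (hy : y ≠ 0)
    (h : mat a b y = s • (1 : Matrix (Fin 3) (Fin 3) K)) : a = b ∧ (a * b)⁻¹ = a := by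
  have h01 : y * ((b - a) / 2) = 0 := by
    have := congrFun (congrFun h 0) 1
    simpa [mat] using this
  have h00 : (a + b) / 2 = s := by
    have := congrFun (congrFun h 0) 0
    simpa [mat] using this
  have h22 : (a * b)⁻¹ = s := by
    have := congrFun (congrFun h 2) 2
    simpa [mat] using this
  have hba : b = a := by
    rcases mul_eq_zero.1 h01 with h | h
    · exact absurd h hy
    · rcases div_eq_zero_iff.1 h with h | h
      · exact sub_eq_zero.1 h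
      · exact absurd h h2
  refine ⟨hba.symm, ?_⟩
  rw [h22, ← h00, hba]
  field_simp
  ring

theorem blk_unitary {K : Type*} [Field K] (q : ℕ) (hq : q ≠ 0) (a b c d e : K)
    (h11 : a * a ^ q + c * c ^ q = 1) (h12 : a * b ^ q + c * d ^ q = 0)
    (h21 : b * a ^ q + d * c ^ q = 0) (h22 : b * b ^ q + d * d ^ q = 1) (h33 : e * e ^ q = 1) :
    (!![a, b, 0; c, d, 0; 0, 0, e] : Matrix (Fin 3) (Fin 3) K)ᵀ *
      (!![a, b, 0; c, d, 0; 0, 0, e] : Matrix (Fin 3) (Fin 3) K).map (fun x => x ^ q) = 1 := by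
  ext i j
  fin_cases i <;> fin_cases j <;>
    simp [Matrix.mul_apply, Fin.sum_univ_three, hq, h11, h12, h21, h22, h33]

theorem aux_field {K : Type*} [Field K] (a X : K) (ha : a ≠ 0) (hX : X ≠ 0) :
    (a * (X * (a * a))⁻¹)⁻¹ = a ↔ X = 1 := by
  have h' : (a * (X * (a * a))⁻¹)⁻¹ = X * a := by field_simp
  rw [h']
  constructor
  · intro h
    exact mul_right_cancel₀ ha (by rw [h, one_mul])
  · intro h; rw [h, one_mul]

theorem arith_split (q : ℕ) (hq : 2 ≤ q) :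
    ∃ d e t : ℕ, q + 1 = d * e ∧ 3 = d * t ∧ 0 < d ∧ Nat.Coprime e t ∧
      (q ^ 2 - 1) / Nat.gcd 3 (q + 1) = (q - 1) * e ∧ q ^ 2 - 1 = (q - 1) * (d * e) := by
  have hd3 : Nat.gcd 3 (q + 1) ∣ 3 := Nat.gcd_dvd_left _ _
  have hdq : Nat.gcd 3 (q + 1) ∣ q + 1 := Nat.gcd_dvd_right _ _
  have hdpos : 0 < Nat.gcd 3 (q + 1) := Nat.gcd_pos_of_pos_left _ (by norm_num)
  obtain ⟨e, he⟩ := hdq
  obtain ⟨t, ht⟩ := hd3
  have hcop : Nat.Coprime (3 / Nat.gcd 3 (q + 1)) ((q + 1) / Nat.gcd 3 (q + 1)) :=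
    Nat.coprime_div_gcd_div_gcd hdpos
  have e1 : (q + 1) / Nat.gcd 3 (q + 1) = e := Nat.div_eq_of_eq_mul_right hdpos he
  have e2 : 3 / Nat.gcd 3 (q + 1) = t := Nat.div_eq_of_eq_mul_right hdpos ht
  rw [e1, e2] at hcop
  have hsq0 : q ^ 2 - 1 = (q - 1) * (q + 1) := by
    obtain ⟨r, rfl⟩ : ∃ r, q = r + 2 := ⟨q - 2, by omega⟩
    have : (r + 2) ^ 2 = (r + 2 - 1) * (r + 2 + 1) + 1 := by
      have e : r + 2 - 1 = r + 1 := by omega
      rw [e]; ring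
    omega
  have hsq : q ^ 2 - 1 = (q - 1) * (Nat.gcd 3 (q + 1) * e) := by
    rw [← he]; exact hsq0
  refine ⟨_, e, t, he, ht, hdpos, hcop.symm, ?_, hsq⟩
  rw [hsq]
  exact Nat.div_eq_of_eq_mul_right hdpos (by ring)

theorem arith_a1 (q : ℕ) (hq : 2 ≤ q) :
    (q ^ 2 - 1) ∣ (q + 1) * ((q ^ 2 - 1) / Nat.gcd 3 (q + 1)) := by
  obtain ⟨d, e, t, he, ht, hdpos, hcop, hN, hsq⟩ := arith_split q hq
  rw [hN, hsq, he]
  exact ⟨e, by ring⟩

theorem arith_a2 (q : ℕ) (hq : 2 ≤ q) :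
    (q ^ 2 - 1) ∣ (q - 2) * ((q ^ 2 - 1) / Nat.gcd 3 (q + 1)) := by
  obtain ⟨d, e, t, he, ht, hdpos, hcop, hN, hsq⟩ := arith_split q hq
  rw [hN, hsq]
  have hdr : d ∣ q - 2 := by
    have h1 : d ∣ (q - 2) + 3 := by
      have : q - 2 + 3 = q + 1 := by omega
      rw [this]; exact ⟨e, he⟩
    have h2 : d ∣ 3 := ⟨t, ht⟩
    exact (Nat.dvd_add_left h2).1 h1
  obtain ⟨w, hw⟩ := hdr
  rw [hw]
  exact ⟨w, by ring⟩

theorem arith_b (q : ℕ) (hq : 2 ≤ q) (j : ℕ) (h1 : (q ^ 2 - 1) ∣ (q + 1) * j)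
    (h2 : (q ^ 2 - 1) ∣ (q - 2) * j) : (q ^ 2 - 1) / Nat.gcd 3 (q + 1) ∣ j := by
  obtain ⟨d, e, t, he, ht, hdpos, hcop, hN, hsq⟩ := arith_split q hq
  rw [hN]
  rw [hsq] at h1 h2
  rw [he] at h1
  have hepos : 0 < e := by
    rcases Nat.eq_zero_or_pos e with h | h
    · subst h; omega
    · exact h
  have hde : 0 < d * e := Nat.mul_pos hdpos hepos
  have hq1 : 0 < q - 1 := by omega
  have h1' : (q - 1) ∣ j := by
    have : (d * e) * (q - 1) ∣ (d * e) * j := by rw [mul_comm (d * e) (q - 1)]; exact h1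
    exact Nat.dvd_of_mul_dvd_mul_left hde this
  obtain ⟨j', rfl⟩ := h1'
  have h2' : d * e ∣ (q - 2) * j' := by
    have : (q - 1) * (d * e) ∣ (q - 1) * ((q - 2) * j') := by
      have e3 : (q - 2) * ((q - 1) * j') = (q - 1) * ((q - 2) * j') := by ring
      rw [← e3]; exact h2
    exact Nat.dvd_of_mul_dvd_mul_left hq1 this
  have h3 : d * e ∣ 3 * j' := by
    have h4 : d * e ∣ (d * e) * j' := dvd_mul_right _ _
    have e4 : (d * e) * j' = (q - 2) * j' + 3 * j' := by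
      have : q + 1 = (q - 2) + 3 := by omega
      rw [← he, this]; ring
    rw [e4] at h4
    exact (Nat.dvd_add_right h2').1 h4
  have h5 : e ∣ t * j' := by
    have : d * e ∣ d * (t * j') := by
      have e5 : d * (t * j') = 3 * j' := by rw [← mul_assoc, ← ht]
      rw [e5]; exact h3
    exact Nat.dvd_of_mul_dvd_mul_left hdpos this
  have h6 : e ∣ j' := (Nat.Coprime.dvd_mul_left hcop).1 h5
  exact Nat.mul_dvd_mul_left _ h6

theorem ex_c {F : Type*} [Field F] [Fintype F] (p : ℕ) [Fact p.Prime] [CharP F p] (q : ℕ) (hF : Fintype.card F = q ^ 2) (hp : p ≠ 2) : ∃ M : Matrix (Fin 3) (Fin 3) F, Mᵀ * M.map (fun x => x ^ q) = 1 ∧ M.det = 1 ∧ (∃ c : F, M ^ ((q ^ 2 - 1) / Nat.gcd 3 (q + 1)) = c • (1 : Matrix (Fin 3) (Fin 3) F)) ∧ ∀ j : ℕ, (∃ c : F, M ^ j = c • (1 : Matrix (Fin 3) (Fin 3) F)) → ((q ^ 2 - 1) / Nat.gcd 3 (q + 1)) ∣ j := by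
  classical
  obtain ⟨n, hpp, hn⟩ := FiniteField.card F p
  have hqdvd : q ∣ p ^ (n : ℕ) := by rw [← hn, hF]; exact dvd_pow_self q two_ne_zero
  obtain ⟨k, -, hk⟩ := (Nat.dvd_prime_pow hpp).1 hqdvd
  have h1F : 1 < Fintype.card F := Fintype.one_lt_card
  have hq2 : 2 ≤ q := by
    rw [hF] at h1F
    by_contra hcon
    have : q ≤ 1 := by omega
    interval_cases q <;> simp at h1F
  have hqodd : Odd q := by
    rw [hk]; exact (hpp.eq_two_or_odd'.resolve_left hp).pow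
  obtain ⟨s, hs⟩ := hqodd
  have hs1 : 1 ≤ s := by omega
  have hfac : q ^ 2 - 1 = s * (q + 1) + s * (q + 1) := by
    have : q ^ 2 = s * (q + 1) + s * (q + 1) + 1 := by rw [hs]; ring
    omega
  have h2 : (2 : F) ≠ 0 := Ring.two_ne_zero (by rw [ringChar.eq F p]; exact hp)
  have hadd : ∀ a b : F, (a + b) ^ q = a ^ q + b ^ q := by
    intro a b; rw [hk]; exact add_pow_char_pow a b p k
  have hsub : ∀ a b : F, (a - b) ^ q = a ^ q - b ^ q := by
    intro a b; rw [hk]; exact sub_pow_char_pow a b k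
  have h2q : (2 : F) ^ q = 2 := by
    have := hadd 1 1
    rw [one_pow, one_add_one_eq_two] at this
    exact this
  obtain ⟨g, hg⟩ := IsCyclic.exists_generator (α := Fˣ)
  have ho : orderOf g = q ^ 2 - 1 := by
    rw [orderOf_eq_card_of_forall_mem_zpowers hg, Nat.card_eq_fintype_card, Fintype.card_units, hF]
  obtain ⟨l, hl0, hlpow⟩ : ∃ l : F, l ≠ 0 ∧ ∀ j : ℕ, l ^ j = 1 ↔ (q ^ 2 - 1) ∣ j :=
    ⟨(g : F), g.ne_zero, fun j => by
      rw [← Units.val_pow_eq_pow_val, Units.val_eq_one, ← orderOf_dvd_iff_pow_eq_one, ho]⟩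
  have hlq2 : l ^ (q ^ 2) = l := by rw [← hF]; exact FiniteField.pow_card l
  have hlq0 : l ^ q ≠ 0 := pow_ne_zero _ hl0
  obtain ⟨m, hm_def⟩ : ∃ m : F, m = (l ^ q)⁻¹ := ⟨_, rfl⟩
  have hm0 : m ≠ 0 := by rw [hm_def]; exact inv_ne_zero hlq0
  have hlq : l ^ q = m⁻¹ := by rw [hm_def, inv_inv]
  have hmq : m ^ q = l⁻¹ := by rw [hm_def, inv_pow, ← pow_mul, ← sq, hlq2]
  obtain ⟨y, hy_def⟩ : ∃ y : F, y = l ^ s := ⟨_, rfl⟩
  have hy0 : y ≠ 0 := by rw [hy_def]; exact pow_ne_zero _ hl0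
  have hyq1 : y ^ (q + 1) = -1 := by
    have hz2 : (y ^ (q + 1)) * (y ^ (q + 1)) = 1 := by
      rw [hy_def, ← pow_mul, ← pow_add]
      apply (hlpow _).2
      rw [hfac]
    rcases mul_self_eq_one_iff.1 hz2 with h | h
    · exfalso
      rw [hy_def, ← pow_mul] at h
      have hd := (hlpow _).1 h
      have hpos : 0 < s * (q + 1) := Nat.mul_pos hs1 (Nat.succ_pos q)
      have hle := Nat.le_of_dvd hpos hd
      omega
    · exact h
  have hyq : y ^ q = -y⁻¹ := by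
    have h1 : y ^ q * y = -1 := by rw [← pow_succ]; exact hyq1
    have h2' : y ^ q = -1 / y := by rw [eq_div_iff hy0]; exact h1
    rw [h2', neg_div, one_div]
  have hm_pow : ∀ j : ℕ, l ^ j = m ^ j ↔ (q ^ 2 - 1) ∣ (q + 1) * j := by
    intro j
    rw [← hlpow, hm_def, inv_pow, ← pow_mul, ← mul_eq_one_iff_eq_inv₀ (pow_ne_zero _ hl0), ← pow_add]
    have : j + q * j = (q + 1) * j := by ring
    rw [this]
  have hc_pow : ∀ j : ℕ, (l ^ j * m ^ j)⁻¹ = l ^ j ↔ (q ^ 2 - 1) ∣ (q - 2) * j := by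
    intro j
    rw [← hlpow]
    have hmj : m ^ j = (l ^ (q * j))⁻¹ := by rw [hm_def, inv_pow, ← pow_mul]
    have hsplit : l ^ (q * j) = l ^ ((q - 2) * j) * (l ^ j * l ^ j) := by
      rw [← pow_add, ← pow_add]
      congr 1
      have : q = (q - 2) + 2 := by omega
      nth_rewrite 1 [this]
      ring
    rw [hmj, hsplit]
    exact aux_field _ _ (pow_ne_zero _ hl0) (pow_ne_zero _ hl0)
  refine ⟨mat l m y, ?_, mat_det h2 l m y hl0 hm0 hy0,
    ⟨l ^ ((q ^ 2 - 1) / Nat.gcd 3 (q + 1)), ?_⟩, ?_⟩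
  · have hA : ((l + m) / 2) ^ q = (l + m) / 2 / (l * m) := by
      rw [div_pow, hadd, hlq, hmq, h2q]; field_simp
    have hB : ((m - l) / 2) ^ q = (m - l) / 2 / (l * m) := by
      rw [div_pow, hsub, hlq, hmq, h2q]; field_simp
    have hyiq : (y⁻¹) ^ q = -y := by rw [inv_pow, hyq, inv_neg, inv_inv]
    have hcq : ((l * m)⁻¹) ^ q = l * m := by
      rw [inv_pow, mul_pow, hlq, hmq, ← mul_inv, inv_inv, mul_comm]
    have hq0 : q ≠ 0 := by omega
    exact blk_unitary q hq0 ((l + m) / 2) (y * ((m - l) / 2)) (y⁻¹ * ((m - l) / 2)) ((l + m) / 2)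
      ((l * m)⁻¹)
      (by simp only [mul_pow, hA, hB, hyq, hyiq]; field_simp; ring)
      (by simp only [mul_pow, hA, hB, hyq, hyiq]; field_simp; ring)
      (by simp only [mul_pow, hA, hB, hyq, hyiq]; field_simp; ring)
      (by simp only [mul_pow, hA, hB, hyq, hyiq]; field_simp; ring)
      (by rw [hcq]; exact inv_mul_cancel₀ (mul_ne_zero hl0 hm0))
  · rw [mat_pow h2 l m y hl0 hm0 hy0]
    exact mat_eq_smul h2 _ _ y hy0 ((hm_pow _).2 (arith_a1 q hq2)) ((hc_pow _).2 (arith_a2 q hq2))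
  · rintro j ⟨c, hc⟩
    rw [mat_pow h2 l m y hl0 hm0 hy0] at hc
    obtain ⟨e1, e2⟩ := mat_smul_imp h2 _ _ y c hy0 hc
    exact arith_b q hq2 j ((hm_pow j).1 e1) ((hc_pow j).1 e2)

end Cfsg.Agent.Helper9.Psu3x
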