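-- helper9: the subgroup Z_L generated by the Ω₁Z(S), S Sylow in L (ambient form).
import Mathlib
import Cfsg.Agent.Helper9.RelRed3

set_option autoImplicit false

namespace Cfsg.Agent.Helper9

open Cfsg

theorem omegaOne_center_sylow_le {H : Type*} [Group H] {p : ℕ} [Fact p.Prime] (T : Sylow p H)
    (L : Subgroup H) (hTL : (T : Subgroup H) ≤ L) :
    Cfsg.omegaOne p ((T : Subgroup H) ⊓ Subgroup.centralizer ((T : Subgroup H) : Set H)) ≤
      Cfsg.sylowCenterClosure p L := by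
  have e : ((T.subtype hTL : Sylow p ↥L) : Subgroup ↥L).map L.subtype = (T : Subgroup H) := by
    rw [Sylow.coe_subtype, Subgroup.map_subgroupOf_eq_of_le hTL]
  have h : Cfsg.omegaOne p ((((T.subtype hTL : Sylow p ↥L) : Subgroup ↥L).map L.subtype) ⊓
      Subgroup.centralizer (((((T.subtype hTL : Sylow p ↥L) : Subgroup ↥L).map L.subtype) :
        Subgroup H) : Set H))
      ≤ Cfsg.sylowCenterClosure p L :=
    le_iSup (fun S : Sylow p ↥L => Cfsg.omegaOne p (((S : Subgroup ↥L).map L.subtype) ⊓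
      Subgroup.centralizer ((((S : Subgroup ↥L).map L.subtype) : Subgroup H) : Set H)))
      (T.subtype hTL)
  rw [e] at h
  exact h

theorem sylowCenterClosure_le_of {H : Type*} [Group H] {p : ℕ} (L B : Subgroup H)
    (h : ∀ S : Sylow p ↥L, ∀ z : ↥L, z ∈ (S : Subgroup ↥L) →
      (∀ s ∈ (S : Subgroup ↥L), s * z = z * s) → z ^ p = 1 → (z : H) ∈ B) :
    Cfsg.sylowCenterClosure p L ≤ B := by
  unfold Cfsg.sylowCenterClosure
  apply iSup_le
  intro S
  unfold Cfsg.omegaOne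
  rw [Subgroup.closure_le]
  intro z hz
  have hz' : z ∈ ((S : Subgroup ↥L).map L.subtype) ⊓
      Subgroup.centralizer (((S : Subgroup ↥L).map L.subtype : Subgroup H) : Set H) ∧
      z ^ p = 1 := hz
  obtain ⟨hz1, hz3⟩ := hz'
  obtain ⟨hzS, hzC⟩ := Subgroup.mem_inf.mp hz1
  obtain ⟨z', hz'S, rfl⟩ := hzS
  have hcomm : ∀ s ∈ (S : Subgroup ↥L), s * z' = z' * s := by
    intro s hs
    have h' := Subgroup.mem_centralizer_iff.mp hzC (s : H) ⟨s, hs, rfl⟩
    exact Subtype.ext h'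
  exact h S z' hz'S hcomm (Subtype.ext hz3)

theorem mem_sylowCenterClosure {H : Type*} [Group H] {p : ℕ} (L : Subgroup H) (S : Sylow p ↥L)
    (z : ↥L) (hzS : z ∈ (S : Subgroup ↥L)) (hcomm : ∀ s ∈ (S : Subgroup ↥L), s * z = z * s)
    (hpow : z ^ p = 1) : (z : H) ∈ Cfsg.sylowCenterClosure p L := by
  have h : Cfsg.omegaOne p (((S : Subgroup ↥L).map L.subtype) ⊓
      Subgroup.centralizer ((((S : Subgroup ↥L).map L.subtype) : Subgroup H) : Set H))
      ≤ Cfsg.sylowCenterClosure p L :=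
    le_iSup (fun S : Sylow p ↥L => Cfsg.omegaOne p (((S : Subgroup ↥L).map L.subtype) ⊓
      Subgroup.centralizer ((((S : Subgroup ↥L).map L.subtype) : Subgroup H) : Set H))) S
  apply h
  unfold Cfsg.omegaOne
  apply Subgroup.subset_closure
  refine ⟨Subgroup.mem_inf.mpr ⟨⟨z, hzS, rfl⟩, ?_⟩, ?_⟩
  · rw [Subgroup.mem_centralizer_iff]
    rintro _ ⟨s, hs, rfl⟩
    have h1 := congrArg Subtype.val (hcomm s hs)
    exact h1
  · have h1 := congrArg Subtype.val hpow
    exact h1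

/-- `Z_L` is normalized by `L`. -/
theorem sylowCenterClosure_conj {H : Type*} [Group H] {p : ℕ} [Fact p.Prime] (L : Subgroup H) :
    ∀ l ∈ L, ∀ z ∈ Cfsg.sylowCenterClosure p L, l * z * l⁻¹ ∈ Cfsg.sylowCenterClosure p L := by
  intro l hl
  obtain ⟨g, rfl⟩ : ∃ g : ↥L, (g : H) = l := ⟨⟨l, hl⟩, rfl⟩
  have hle : Cfsg.sylowCenterClosure p L ≤
      (Cfsg.sylowCenterClosure p L).comap (MulAut.conj (g : H)).toMonoidHom := by
    apply sylowCenterClosure_le_of
    intro S z hzS hcomm hpow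
    show (g : H) * (z : H) * (g : H)⁻¹ ∈ Cfsg.sylowCenterClosure p L
    refine mem_sylowCenterClosure L (g • S) (g * z * g⁻¹) ?_ ?_ ?_
    · show g * z * g⁻¹ ∈ (S : Subgroup ↥L).map (MulAut.conj g).toMonoidHom
      exact Cfsg.Agent.Helper14.conj_mem_map_conj _ _ hzS
    · intro s hs
      have hs' : s ∈ (S : Subgroup ↥L).map (MulAut.conj g).toMonoidHom := hs
      rw [Cfsg.Agent.Helper14.mem_map_conj] at hs'
      have h1 := hcomm _ hs'
      calc s * (g * z * g⁻¹) = g * ((g⁻¹ * s * g) * z) * g⁻¹ := by group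
        _ = g * (z * (g⁻¹ * s * g)) * g⁻¹ := by rw [h1]
        _ = g * z * g⁻¹ * s := by group
    · rw [conj_pow, hpow]; group
  intro z hz
  exact hle hz

end Cfsg.Agent.Helper9
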